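import Groth.Agent.H8.FormallyEtale

/-!
# The Prelude's formally smooth morphisms are affine-locally formally smooth
(adapted from helper8's `formallySmooth_appLE_of_isFormallyEtaleHom`, which only uses existence of
lifts).
-/

set_option autoImplicit false
universe u

namespace Groth.Agent.H39.FSmooth

open AlgebraicGeometry CategoryTheory Limits TopologicalSpace

variable {X Y : Scheme.{u}}

/-- The Prelude's formally smooth morphisms are affine-locally formally smooth. -/
theorem formallySmooth_appLE_of_isFormallySmoothHom (f : X ⟶ Y)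
    (hf : MoreMor.IsFormallySmoothHom f)
    {U : X.Opens} (hU : IsAffineOpen U) {V : Y.Opens} (hV : IsAffineOpen V) (e : U ≤ f ⁻¹ᵁ V) :
    (f.appLE V U e).hom.FormallySmooth := by
  letI := (f.appLE V U e).hom.toAlgebra
  change Algebra.FormallySmooth Γ(Y, V) Γ(X, U)
  refine Algebra.FormallySmooth.of_comp_surjective fun B _ _ I hI g => ?_
  let a : Spec (CommRingCat.of (B ⧸ I)) ⟶ X :=
    Spec.map (CommRingCat.ofHom g.toRingHom) ≫ hU.fromSpec
  let b : Spec (CommRingCat.of B) ⟶ Y :=
    Spec.map (CommRingCat.ofHom (algebraMap Γ(Y, V) B)) ≫ hV.fromSpec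
  have w : Spec.map (CommRingCat.ofHom (Ideal.Quotient.mk I)) ≫ b = a ≫ f := by
    simp only [a, b, Category.assoc]
    rw [← IsAffineOpen.SpecMap_appLE_fromSpec f hV hU e, ← Spec.map_comp_assoc,
      ← Spec.map_comp_assoc]
    congr 2
    ext x
    exact (g.commutes x).symm
  obtain ⟨l, hl1, hl2⟩ := hf B I hI a b w
  haveI : IsClosedImmersion (Spec.map (CommRingCat.ofHom (Ideal.Quotient.mk I))) :=
    IsClosedImmersion.spec_of_surjective _ Ideal.Quotient.mk_surjective
  have hsurj := Groth.Agent.H8.surjective_of_isNilpotent_ker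
    (Spec.map (CommRingCat.ofHom (Ideal.Quotient.mk I)))
    (Groth.Agent.H8.isNilpotent_ker_SpecMap_mk B I hI)
  have hrange : Set.range l ⊆ Set.range hU.fromSpec := by
    rintro _ ⟨p, rfl⟩
    obtain ⟨q, rfl⟩ := hsurj p
    rw [← Scheme.Hom.comp_apply, hl1]
    exact ⟨_, rfl⟩
  have hl' : IsOpenImmersion.lift hU.fromSpec l hrange ≫ hU.fromSpec = l :=
    IsOpenImmersion.lift_fac _ _ _
  set l' := IsOpenImmersion.lift hU.fromSpec l hrange with hl'def
  have hψ : Spec.map (Spec.preimage l') = l' := Spec.map_preimage _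
  set ψ := Spec.preimage l' with hψdef
  refine ⟨⟨ψ.hom, fun r => ?_⟩, ?_⟩
  · have h : Spec.map (f.appLE V U e ≫ ψ) =
        Spec.map (CommRingCat.ofHom (algebraMap Γ(Y, V) B)) := by
      rw [← cancel_mono hV.fromSpec, Spec.map_comp, Category.assoc,
        IsAffineOpen.SpecMap_appLE_fromSpec f hV hU e, hψ, ← Category.assoc, hl', hl2]
    exact congr($(Spec.map_injective h).hom r)
  · ext x
    have h : Spec.map (ψ ≫ CommRingCat.ofHom (Ideal.Quotient.mk I)) =
        Spec.map (CommRingCat.ofHom g.toRingHom) := by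
      rw [← cancel_mono hU.fromSpec, Spec.map_comp, Category.assoc, hψ, hl', hl1]
    exact congr($(Spec.map_injective h).hom x)

end Groth.Agent.H39.FSmooth
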