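import Groth.Agent.H39.PullTrack4

/-!
# Tracking pulled-back sections, part 5: sections of a pullback over an affine open

`exists_sectionsPullbackEquiv`: for `F` quasi-coherent on `X`, `h : X' ⟶ X`, affine `U ⊆ X`, affine
`U' ≤ h⁻¹ U`: `Γ(h^* F, U') ≃ₗ Γ(X', U') ⊗ Γ(F, U)` sending the pulled-back section of `x` to `1 ⊗ x`.
-/

set_option autoImplicit false
universe u
open CategoryTheory AlgebraicGeometry Opposite OmegaSh TopologicalSpace
open scoped TensorProduct

namespace Groth.Agent.H39.PullTrack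

open Groth.Agent.S5947 (toΓ ofΓ toΓ_apply toΓ_ofΓ ofΓ_toΓ)

section Sections

variable {X' X : Scheme.{u}} (h : X' ⟶ X) (F : X.Modules) {U : X.Opens} (hU : IsAffineOpen U)
  {U' : X'.Opens} (hU' : IsAffineOpen U') (e : U' ≤ h ⁻¹ᵁ U)

lemma res_eqToHom (M : X.Modules) {A B : X.Opens} (hAB : A = B) (x : Γ(M, B)) :
    M.presheaf.map (eqToHom hAB).op x = M.presheaf.map (homOfLE hAB.le).op x := rfl

lemma sectionsRestrictEquiv_apply (M : X.Modules)
    (z : (modulesSpecToSheaf.obj (M.restrict hU.fromSpec)).presheaf.obj (.op ⊤)) :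
    Groth.Agent.H8.sectionsRestrictEquiv hU M z =
      M.presheaf.map (eqToHom (Groth.Agent.H8.fromSpec_image_top_eq hU).symm).op
        (show Γ(M, hU.fromSpec ''ᵁ ⊤) from z) := rfl

lemma sectionsRestrictEquiv_resTop (x : Γ(F, U)) :
    Groth.Agent.H8.sectionsRestrictEquiv hU F (resTop F hU x) = x := by
  rw [sectionsRestrictEquiv_apply, res_eqToHom]
  show F.presheaf.map _ (F.presheaf.map _ x) = x
  rw [res_res, res_self]

include e in
lemma image_top_le_preimage : hU'.fromSpec ''ᵁ ⊤ ≤ h ⁻¹ᵁ U :=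
  (fromSpec_image_top_le hU').trans e

lemma sectionsRestrictEquiv_symm_pullSectLE (x : Γ(F, U)) :
    (Groth.Agent.H8.sectionsRestrictEquiv hU' ((Scheme.Modules.pullback h).obj F)).symm
        (pullSectLE h F U U' e x) =
      (((Scheme.Modules.pullback h).obj F).restrictAppIso hU'.fromSpec ⊤).inv
        (pullSectLE h F U (hU'.fromSpec ''ᵁ ⊤) (image_top_le_preimage h hU' e) x) := by
  rw [LinearEquiv.symm_apply_eq, sectionsRestrictEquiv_apply, res_eqToHom]
  show pullSectLE h F U U' e x = ((Scheme.Modules.pullback h).obj F).presheaf.map _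
    (pullSectLE h F U (hU'.fromSpec ''ᵁ ⊤) (image_top_le_preimage h hU' e) x)
  rw [pullSectLE_res_target]

set_option maxHeartbeats 1000000 in
include hU hU' in
/-- **Sections of a pullback over an affine open are a base change, with the pulled-back
sections corresponding to `1 ⊗ x`.** -/
theorem exists_sectionsPullbackEquiv [F.IsQuasicoherent] :
    letI := (h.appLE U U' e).hom.toAlgebra
    ∃ E : Γ((Scheme.Modules.pullback h).obj F, U') ≃ₗ[Γ(X', U')]
        TensorProduct Γ(X, U) Γ(X', U') Γ(F, U),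
      ∀ x : Γ(F, U), E (pullSectLE h F U U' e x) = (1 : Γ(X', U')) ⊗ₜ[Γ(X, U)] x := by
  letI := (h.appLE U U' e).hom.toAlgebra
  refine ⟨Groth.Agent.H8.sectionsPullbackEquiv h F hU hU' e, fun x => ?_⟩
  have k1 := sectionsRestrictEquiv_symm_pullSectLE h F hU' e x
  have k2 := pullbackRestrictIso_hom_track h F hU hU' e x (image_top_le_preimage h hU' e)
  have k5 := sectionsRestrictEquiv_resTop F hU x
  simp only [Groth.Agent.H8.sectionsPullbackEquiv, LinearEquiv.trans_apply]
  rw [k1]
  have e2eq : ∀ z, ((moduleSpecΓFunctor (R := Γ(X', U'))).mapIso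
      (Groth.Agent.H8.pullbackRestrictIso h F hU hU' e)).toLinearEquiv z =
      (Groth.Agent.H8.pullbackRestrictIso h F hU hU' e).hom.app ⊤ z := fun z => rfl
  erw [e2eq, k2]
  have e3eq : ∀ (M : ModuleCat.{u} Γ(X', U')) (m : M),
      (tilde.isoTop M).symm.toLinearEquiv (toΓ M m) = m := fun M m => ofΓ_toΓ M m
  erw [e3eq]
  have e4eq : Groth.Agent.H8.extendScalarsEquiv (h.appLE U U' e).hom
      ((modulesSpecToSheaf.obj (F.restrict hU.fromSpec)).presheaf.obj (op ⊤))
      ((ModuleCat.extendRestrictScalarsAdj (h.appLE U U' e).hom).unit.app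
        ((moduleSpecΓFunctor (R := Γ(X, U))).obj (F.restrict hU.fromSpec)) (resTop F hU x)) =
      (1 : Γ(X', U')) ⊗ₜ[Γ(X, U)] (resTop F hU x) := rfl
  erw [e4eq, LinearEquiv.baseChange_tmul, k5]

end Sections

end Groth.Agent.H39.PullTrack
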