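import Groth.Prelude.Def_Omega2
import Mathlib.AlgebraicGeometry.Modules.Tilde
import Mathlib.Algebra.Homology.ShortComplex.Ab
import Mathlib.Algebra.Homology.ShortComplex.Exact

/-!
# Part A: general facts on `ClSub.unitToPush`, its kernel, and transport along isomorphisms
-/

set_option autoImplicit false
universe u
open CategoryTheory CategoryTheory.Limits AlgebraicGeometry Opposite

namespace Groth.Agent.H39.OmegaA

variable {X Y Z : Scheme.{u}}

lemma unitToPush_app_apply (f : X ⟶ Y) (U : Y.Opens) (s : Γ(Y, U)) :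
    (ClSub.unitToPush f).app U s = f.app U s := rfl

/-- `unitToPush` of a composite. -/
lemma unitToPush_comp (a : X ⟶ Y) (b : Y ⟶ Z) :
    ClSub.unitToPush (a ≫ b) =
      ClSub.unitToPush b ≫ (Scheme.Modules.pushforward b).map (ClSub.unitToPush a) ≫
        (Scheme.Modules.pushforwardComp a b).hom.app _ := by
  apply Scheme.Modules.hom_ext
  intro U
  ext s
  simp only [Scheme.Modules.Hom.comp_app, Scheme.Modules.pushforwardComp_hom_app_app,
    Scheme.Modules.pushforward_map_app]
  rfl

instance isIso_unitToPush (a : X ⟶ Y) [IsIso a] : IsIso (ClSub.unitToPush a) := by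
  rw [Scheme.Modules.Hom.isIso_iff_isIso_app]
  intro U
  rw [ConcreteCategory.isIso_iff_bijective]
  exact ConcreteCategory.bijective_of_isIso (a.app U)

/-- The kernel of `O_X ⟶ h_* O_Z`. -/
noncomputable def KM (h : Z ⟶ X) : X.Modules := kernel (ClSub.unitToPush h)

noncomputable def KMCongr {h h' : Z ⟶ X} (e : h = h') : KM h ≅ KM h' := eqToIso (by rw [e])

/-- Precomposition with an isomorphism does not change the kernel. -/
noncomputable def KMIsoLeft {Z' : Scheme.{u}} (a : Z' ⟶ Z) (h : Z ⟶ X) [IsIso a] :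
    KM (a ≫ h) ≅ KM h :=
  kernelIsoOfEq (unitToPush_comp a h) ≪≫ kernelCompMono _ _

/-- For a closed immersion, the module of the kernel ideal sheaf is the kernel of `O ⟶ h_* O`. -/
noncomputable def idealModKerIso (h : Z ⟶ X) [IsClosedImmersion h] :
    ClSub.idealMod h.ker ≅ KM h :=
  (KMIsoLeft h.toImage h.imageι).symm ≪≫ KMCongr h.toImage_imageι

/-- Pushforward along an isomorphism of the kernel. -/
noncomputable def pushforwardKM {X' : Scheme.{u}} (g : X ⟶ X') [IsIso g] (h : Z ⟶ X) :
    (Scheme.Modules.pushforward g).obj (KM h) ≅ KM (h ≫ g) :=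
  PreservesKernel.iso (Scheme.Modules.pushforward g) (ClSub.unitToPush h) ≪≫
    (kernelCompMono _ ((Scheme.Modules.pushforwardComp h g).hom.app _)).symm ≪≫
    (kernelIsIsoComp (ClSub.unitToPush g) _).symm ≪≫
    (kernelIsoOfEq (unitToPush_comp h g)).symm

/-- Pushforward along an isomorphism is an equivalence. -/
noncomputable def pushforwardEquiv (e : X ≅ Y) : X.Modules ≌ Y.Modules :=
  CategoryTheory.Equivalence.mk (Scheme.Modules.pushforward e.hom) (Scheme.Modules.pushforward e.inv)
    ((Scheme.Modules.pushforwardId X).symm ≪≫ Scheme.Modules.pushforwardCongr e.hom_inv_id.symm ≪≫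
      (Scheme.Modules.pushforwardComp e.hom e.inv).symm)
    (Scheme.Modules.pushforwardComp e.inv e.hom ≪≫ Scheme.Modules.pushforwardCongr e.inv_hom_id ≪≫
      Scheme.Modules.pushforwardId Y)

/-- Pullback along an isomorphism is pushforward along its inverse. -/
noncomputable def pullbackIsoPushforwardInv (e : X ≅ Y) :
    Scheme.Modules.pullback e.hom ≅ Scheme.Modules.pushforward e.inv :=
  (Scheme.Modules.pullbackPushforwardAdjunction e.hom).leftAdjointUniq
    (pushforwardEquiv e).symm.toAdjunction

/-- The conormal sheaf of a closed immersion followed by an isomorphism. -/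
theorem conormal_comp_iso {P P' : Scheme.{u}} (j : Z ⟶ P') (e : P ≅ P') [IsClosedImmersion j] :
    Nonempty (Omega.conormal (j ≫ e.inv) ≅ (Scheme.Modules.pullback j).obj (KM j)) := by
  refine ⟨?_⟩
  unfold Omega.conormal
  refine (Scheme.Modules.pullback (j ≫ e.inv)).mapIso (idealModKerIso (j ≫ e.inv)) ≪≫ ?_
  refine ((Scheme.Modules.pullbackComp j e.inv).symm.app _) ≪≫ ?_
  refine (Scheme.Modules.pullback j).mapIso ?_
  refine (pullbackIsoPushforwardInv e.symm).app _ ≪≫ ?_
  refine pushforwardKM e.hom (j ≫ e.inv) ≪≫ KMCongr (by simp)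

end Groth.Agent.H39.OmegaA
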