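import Groth.Agent.H39.OmegaB
import Mathlib.CategoryTheory.Adjunction.Mates
import Mathlib.Algebra.Category.ModuleCat.ChangeOfRings

/-!
# Part C: pullback of `tilde M` along `Spec.map φ` is `tilde` of the extension of scalars.
-/

set_option autoImplicit false
universe u
open CategoryTheory CategoryTheory.Limits AlgebraicGeometry Opposite

namespace Groth.Agent.H39.OmegaC

variable {R S : CommRingCat.{u}} (φ : R ⟶ S)

/-- Global sections of a pushforward along `Spec.map φ`: restriction of scalars. -/
noncomputable def ΓpushIso :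
    Scheme.Modules.pushforward (Spec.map φ) ⋙ moduleSpecΓFunctor (R := R) ≅
      moduleSpecΓFunctor (R := S) ⋙ ModuleCat.restrictScalars φ.hom :=
  (Functor.associator _ _ _).symm ≪≫
    Functor.isoWhiskerRight (pushforwardCompModulesSpecToSheafIso φ)
      (TopCat.Sheaf.forget _ _ ⋙ (evaluation _ _).obj (op ⊤)) ≪≫
    NatIso.ofComponents (fun M => Iso.refl _) (by intro M N f; rfl)

/-- Pullback of `tilde M` along `Spec.map φ` is `tilde (S ⊗[R] M)`. -/
noncomputable def pullbackTildeIso :
    tilde.functor R ⋙ Scheme.Modules.pullback (Spec.map φ) ≅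
      ModuleCat.extendScalars φ.hom ⋙ tilde.functor S :=
  (conjugateIsoEquiv
    ((ModuleCat.extendRestrictScalarsAdj φ.hom).comp (tilde.adjunction (R := S)))
    ((tilde.adjunction (R := R)).comp
      (Scheme.Modules.pullbackPushforwardAdjunction (Spec.map φ)))).symm (ΓpushIso φ).symm

end Groth.Agent.H39.OmegaC
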