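import Groth.Prelude.Def_Omega3
import Mathlib.CategoryTheory.Adjunction.Mates

/-!
# Toolkit for derivations of `O_X`-modules (`OmegaSh.Der`)
-/

set_option autoImplicit false
universe u
open CategoryTheory AlgebraicGeometry Opposite OmegaSh

namespace Groth.Agent.H39.DerKit

variable {X Y X' Y' : Scheme.{u}}

/-- Extensionality for derivations through their values on sections. -/
lemma der_ext {f : X ⟶ Y} {F : X.Modules} (D₁ D₂ : Der f F)
    (h : ∀ (U : X.Opens) (s : Γ(X, U)), D₁.app U s = D₂.app U s) : D₁ = D₂ := by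
  apply PresheafOfModules.Derivation.ext
  funext V
  ext s
  exact h V.unop s

lemma postcomp_app {f : X ⟶ Y} {F G : X.Modules} (D : Der f F) (α : F ⟶ G) (U : X.Opens)
    (s : Γ(X, U)) : Der.app (D.postcomp α.val) U s = α.app U (D.app U s) := rfl

/-- Uniqueness part of universality, on sections. -/
lemma hom_ext_of_universal {f : X ⟶ Y} {Ω : X.Modules} {d : Der f Ω} (hd : IsUniversal d)
    {G : X.Modules} (u v : Ω ⟶ G)
    (h : ∀ (U : X.Opens) (s : Γ(X, U)), u.app U (d.app U s) = v.app U (d.app U s)) : u = v := by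
  obtain ⟨α, -, hα⟩ := hd G (d.postcomp u.val)
  rw [hα u rfl, hα v (der_ext _ _ fun U s => by rw [postcomp_app, postcomp_app, h])]

/-- Existence part of universality, on sections. -/
lemma exists_of_universal {f : X ⟶ Y} {Ω : X.Modules} {d : Der f Ω} (hd : IsUniversal d)
    {G : X.Modules} (D : Der f G) :
    ∃ α : Ω ⟶ G, ∀ (U : X.Opens) (s : Γ(X, U)), α.app U (d.app U s) = D.app U s := by
  obtain ⟨α, hα, -⟩ := hd G D
  exact ⟨α, fun U s => by rw [← postcomp_app, hα]⟩

/-- The adjoint of a map out of a pullback, on sections. -/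
lemma homEquiv_app (h : X' ⟶ X) {M : X.Modules} {N : X'.Modules}
    (c : (Scheme.Modules.pullback h).obj M ⟶ N) (U : X.Opens) (x : Γ(M, U)) :
    (((Scheme.Modules.pullbackPushforwardAdjunction h).homEquiv M N c).app U) x =
      c.app (h ⁻¹ᵁ U) (pullSect h M U x) := by
  rw [Adjunction.homEquiv_unit]
  rfl

/-- Two maps out of `h^* Ω` agreeing on pulled-back differentials are equal. -/
lemma pullback_hom_ext_of_universal (h : X' ⟶ X) {f : X ⟶ Y} {Ω : X.Modules} {d : Der f Ω}
    (hd : IsUniversal d) {G : X'.Modules} (c c' : (Scheme.Modules.pullback h).obj Ω ⟶ G)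
    (hcc : ∀ (U : X.Opens) (s : Γ(X, U)),
      c.app (h ⁻¹ᵁ U) (pullSect h Ω U (d.app U s)) = c'.app (h ⁻¹ᵁ U) (pullSect h Ω U (d.app U s))) :
    c = c' := by
  apply ((Scheme.Modules.pullbackPushforwardAdjunction h).homEquiv Ω G).injective
  apply hom_ext_of_universal hd
  intro U s
  rw [homEquiv_app, homEquiv_app, hcc]

/-- Pushing a derivation forward along a commutative square. -/
noncomputable def derPush (h : X' ⟶ X) {f : X ⟶ Y} {f' : X' ⟶ Y'} (b : Y' ⟶ Y)
    (hsq : f' ≫ b = h ≫ f) {F' : X'.Modules} (D' : Der f' F') :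
    Der f ((Scheme.Modules.pushforward h).obj F') where
  d {V} := (D'.d (X := op (h ⁻¹ᵁ V.unop))).comp (h.app V.unop).hom.toAddMonoidHom
  d_mul {V} a b := by
    show D'.d (X := op (h ⁻¹ᵁ V.unop)) ((h.app V.unop).hom (a * b)) = _
    rw [map_mul, D'.d_mul]
    rfl
  d_map {V W} g x := by
    show D'.d (X := op (h ⁻¹ᵁ W.unop)) ((h.app W.unop).hom (X.presheaf.map g x)) =
      F'.val.map ((TopologicalSpace.Opens.map h.base).op.map g) (D'.d (X := op (h ⁻¹ᵁ V.unop)) ((h.app V.unop).hom x))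
    have e1 : (h.app W.unop).hom (X.presheaf.map g x) =
        X'.presheaf.map ((TopologicalSpace.Opens.map h.base).op.map g) ((h.app V.unop).hom x) :=
      congr($(h.naturality g) x)
    refine (congrArg (fun z => D'.d (X := op (h ⁻¹ᵁ W.unop)) z) e1).trans ?_
    exact D'.d_map ((TopologicalSpace.Opens.map h.base).op.map g) ((h.app V.unop).hom x)
  d_app {W} a := by
    show D'.d (X := op (h ⁻¹ᵁ (f ⁻¹ᵁ W.unop))) ((h.app (f ⁻¹ᵁ W.unop)).hom ((f.app W.unop).hom a)) = 0
    have e : (f' ≫ b) ⁻¹ᵁ W.unop = (h ≫ f) ⁻¹ᵁ W.unop := by rw [hsq]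
    have h1 : (h.app (f ⁻¹ᵁ W.unop)).hom ((f.app W.unop).hom a) =
        X'.presheaf.map (eqToHom e.symm).op
          ((f'.app (b ⁻¹ᵁ W.unop)).hom ((b.app W.unop).hom a)) := by
      have h2 := Scheme.Hom.congr_app hsq.symm W.unop
      exact congr($h2 a)
    have h4 : D'.d (X := op (f' ⁻¹ᵁ (b ⁻¹ᵁ W.unop)))
        ((f'.app (b ⁻¹ᵁ W.unop)).hom ((b.app W.unop).hom a)) = 0 := D'.d_app _
    rw [h1]
    refine (D'.d_map (X := op ((f' ≫ b) ⁻¹ᵁ W.unop)) (eqToHom e.symm).op
      ((f'.app (b ⁻¹ᵁ W.unop)).hom ((b.app W.unop).hom a))).trans ?_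
    exact (congrArg _ h4).trans (map_zero _)

lemma derPush_app (h : X' ⟶ X) {f : X ⟶ Y} {f' : X' ⟶ Y'} (b : Y' ⟶ Y)
    (hsq : f' ≫ b = h ≫ f) {F' : X'.Modules} (D' : Der f' F') (U : X.Opens) (s : Γ(X, U)) :
    (derPush h b hsq D').app U s = D'.app (h ⁻¹ᵁ U) (h.app U s) := rfl

/-- `pullbackId` on sections is the pullback of sections along the identity. -/
lemma pullSect_id_hom (M : X.Modules) (U : X.Opens) (x : Γ(M, U)) :
    ((Scheme.Modules.pullbackId X).hom.app M).app U (pullSect (𝟙 X) M U x) = x := by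
  have h1 := unit_conjugateEquiv Adjunction.id
    (Scheme.Modules.pullbackPushforwardAdjunction (𝟙 X)) (Scheme.Modules.pullbackId X).hom M
  rw [Scheme.Modules.conjugateEquiv_pullbackId_hom] at h1
  have h2 := congrArg (fun t => (Scheme.Modules.Hom.app t U) x) h1
  exact h2.symm

lemma pullbackId_inv_app (M : X.Modules) (U : X.Opens) (x : Γ(M, U)) :
    ((Scheme.Modules.pullbackId X).inv.app M).app U x = pullSect (𝟙 X) M U x := by
  have h := pullSect_id_hom M U x
  have h2 := congrArg (((Scheme.Modules.pullbackId X).inv.app M).app U) h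
  rw [← h2]
  have h3 : (Scheme.Modules.pullbackId X).hom.app M ≫ (Scheme.Modules.pullbackId X).inv.app M = 𝟙 _ :=
    (Scheme.Modules.pullbackId X).hom_inv_id_app M
  have h4 := congrArg (fun t => (Scheme.Modules.Hom.app t U) (pullSect (𝟙 X) M U x)) h3
  exact h4

end Groth.Agent.H39.DerKit
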