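import Mathlib.RingTheory.Etale.Kaehler
import Mathlib.RingTheory.Etale.Basic

/-!
# Extending additive Leibniz maps (derivations) to localizations

Instance-light versions, for use with sections of sheaves of modules on schemes.
-/

set_option autoImplicit false
universe u v

namespace Groth.Agent.H39.DerLoc

variable {S T : Type u} [CommRing S] [CommRing T] [Algebra S T] (M : Submonoid S)
  [IsLocalization M T] {N : Type v} [AddCommGroup N] [Module T N]

include M in
/-- Two additive Leibniz maps on a localization which agree on the base ring are equal. -/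
theorem leibniz_ext (d₁ d₂ : T →+ N)
    (h₁ : ∀ a b, d₁ (a * b) = a • d₁ b + b • d₁ a)
    (h₂ : ∀ a b, d₂ (a * b) = a • d₂ b + b • d₂ a)
    (h : ∀ s : S, d₁ (algebraMap S T s) = d₂ (algebraMap S T s)) : d₁ = d₂ := by
  ext t
  obtain ⟨⟨s, m⟩, hsm⟩ := IsLocalization.surj M t
  simp only at hsm
  have hu : IsUnit (algebraMap S T m) := IsLocalization.map_units T m
  have e1 := h₁ t (algebraMap S T m)
  have e2 := h₂ t (algebraMap S T m)
  rw [hsm] at e1 e2
  have e3 : algebraMap S T m • d₁ t = algebraMap S T m • d₂ t := by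
    have := h s
    rw [e1, e2, h m] at this
    exact add_left_cancel this
  obtain ⟨w, hw⟩ := hu
  have := congrArg (fun x => (↑w⁻¹ : T) • x) e3
  simp only [← hw, smul_smul, Units.inv_mul, one_smul] at this
  exact this

include M in
/-- An additive Leibniz map from `S` into a module over the localization `T` extends to `T`. -/
theorem exists_leibniz_extension (δ : S →+ N)
    (hδ : ∀ a b, δ (a * b) = algebraMap S T a • δ b + algebraMap S T b • δ a) :
    ∃ δ' : T →+ N, (∀ a b, δ' (a * b) = a • δ' b + b • δ' a) ∧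
      ∀ s, δ' (algebraMap S T s) = δ s := by
  letI : Module S N := Module.compHom N (algebraMap S T)
  haveI : IsScalarTower S T N := IsScalarTower.of_algebraMap_smul fun _ _ => rfl
  let D₀ : Derivation ℤ S N := Derivation.mk' δ.toIntLinearMap (fun a b => hδ a b)
  haveI := Algebra.FormallyEtale.of_isLocalization (Rₘ := T) M
  have hbc := KaehlerDifferential.isBaseChange_of_formallyEtale ℤ S T
  let L : Ω[T⁄ℤ] →ₗ[T] N := hbc.lift D₀.liftKaehlerDifferential
  let D₁ : Derivation ℤ T N := L.compDer (KaehlerDifferential.D ℤ T)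
  refine ⟨(D₁ : T →ₗ[ℤ] N).toAddMonoidHom, fun a b => D₁.leibniz a b, fun s => ?_⟩
  show L (KaehlerDifferential.D ℤ T (algebraMap S T s)) = δ s
  rw [← KaehlerDifferential.map_D ℤ ℤ S T]
  have := hbc.lift_eq D₀.liftKaehlerDifferential (KaehlerDifferential.D ℤ S s)
  rw [this, Derivation.liftKaehlerDifferential_comp_D]
  rfl

include M in
/-- Semilinear variant of `leibniz_ext`: the maps are Leibniz along a ring map `ψ : T →+* T'`. -/
theorem leibniz_ext' {T' : Type u} [CommRing T'] (ψ : T →+* T') {N' : Type v} [AddCommGroup N']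
    [Module T' N'] (d₁ d₂ : T →+ N')
    (h₁ : ∀ a b, d₁ (a * b) = ψ a • d₁ b + ψ b • d₁ a)
    (h₂ : ∀ a b, d₂ (a * b) = ψ a • d₂ b + ψ b • d₂ a)
    (h : ∀ s : S, d₁ (algebraMap S T s) = d₂ (algebraMap S T s)) : d₁ = d₂ := by
  ext t
  obtain ⟨⟨s, m⟩, hsm⟩ := IsLocalization.surj M t
  simp only at hsm
  have hu : IsUnit (ψ (algebraMap S T m)) := (IsLocalization.map_units T m).map ψ
  have e1 := h₁ t (algebraMap S T m)
  have e2 := h₂ t (algebraMap S T m)
  rw [hsm] at e1 e2
  have e3 : ψ (algebraMap S T m) • d₁ t = ψ (algebraMap S T m) • d₂ t := by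
    have := h s
    rw [e1, e2, h m] at this
    exact add_left_cancel this
  obtain ⟨w, hw⟩ := hu
  have := congrArg (fun x => (↑w⁻¹ : T') • x) e3
  simp only [← hw, smul_smul, Units.inv_mul, one_smul] at this
  exact this

end Groth.Agent.H39.DerLoc
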