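import Groth.Prelude.Def_Omega3
import Groth.Agent.H39.DerLoc
import Groth.Agent.H39.DerKit

/-!
# Derivations of `O_X` into a sheaf of modules on an affine scheme

Construction of `OmegaSh.Der f F` from a Leibniz map on global sections (affine case), by extension
to basic opens (localization) and then to all opens (sheaf property).
-/

set_option autoImplicit false
universe u
open CategoryTheory AlgebraicGeometry Opposite OmegaSh TopologicalSpace

namespace Groth.Agent.H39.DerAff

variable {X : Scheme.{u}} (F : X.Modules)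

/-- The structure presheaf as a presheaf of abelian groups. -/
noncomputable def OAb (X : Scheme.{u}) : TopCat.Presheaf Ab.{u} X where
  obj U := AddCommGrpCat.of Γ(X, U.unop)
  map i := AddCommGrpCat.ofHom (X.presheaf.map i).hom.toAddMonoidHom
  map_id U := by
    ext a
    show (X.presheaf.map (𝟙 U)).hom a = a
    rw [X.presheaf.map_id]; rfl
  map_comp f g := by
    ext a
    show (X.presheaf.map (f ≫ g)).hom a = (X.presheaf.map g).hom ((X.presheaf.map f).hom a)
    rw [X.presheaf.map_comp]; rfl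

/-- Sections of a sheaf of modules are determined by their restrictions to a basis. -/
lemma sect_ext_of_basis {ι : Type*} {B : ι → X.Opens} (hB : Opens.IsBasis (Set.range B))
    (U : X.Opens) (a b : Γ(F, U))
    (h : ∀ i (hi : B i ≤ U), F.presheaf.map (homOfLE hi).op a = F.presheaf.map (homOfLE hi).op b) :
    a = b := by
  have hcover : U ≤ ⨆ i : {i : ι // B i ≤ U}, B i.1 := by
    intro x hx
    obtain ⟨V, ⟨i, rfl⟩, hxV, hVU⟩ := Opens.isBasis_iff_nbhd.mp hB hx
    exact Opens.mem_iSup.mpr ⟨⟨i, hVU⟩, hxV⟩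
  exact TopCat.Sheaf.eq_of_locally_eq' (⟨F.presheaf, F.isSheaf⟩ : TopCat.Sheaf Ab.{u} X)
    (fun i : {i : ι // B i ≤ U} => B i.1) U (fun i => homOfLE i.2) hcover a b
    (fun i => h i.1 i.2)

/-- Sections of a sheaf of modules are determined by their restrictions to a cover. -/
lemma sect_ext_of_cover {ι : Type*} (B : ι → X.Opens) (U : X.Opens) (hle : ∀ i, B i ≤ U)
    (hcover : U ≤ ⨆ i, B i) (a b : Γ(F, U))
    (h : ∀ i, F.presheaf.map (homOfLE (hle i)).op a = F.presheaf.map (homOfLE (hle i)).op b) :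
    a = b :=
  TopCat.Sheaf.eq_of_locally_eq' (⟨F.presheaf, F.isSheaf⟩ : TopCat.Sheaf Ab.{u} X)
    B U (fun i => homOfLE (hle i)) hcover a b h

/-- Extend a compatible family of additive maps on a basis to all opens. -/
theorem exists_extension {ι : Type*} {B : ι → X.Opens} (hB : Opens.IsBasis (Set.range B))
    (δ : ∀ i, Γ(X, B i) →+ Γ(F, B i))
    (hδ : ∀ i j (h : B i ≤ B j) (a : Γ(X, B j)),
      δ i (X.presheaf.map (homOfLE h).op a) = F.presheaf.map (homOfLE h).op (δ j a)) :
    ∃ D : ∀ U : X.Opens, Γ(X, U) →+ Γ(F, U),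
      (∀ (U V : X.Opens) (h : V ≤ U) (a : Γ(X, U)),
        D V (X.presheaf.map (homOfLE h).op a) = F.presheaf.map (homOfLE h).op (D U a)) ∧
      ∀ i, D (B i) = δ i := by
  let α : (inducedFunctor B).op ⋙ OAb X ⟶ (inducedFunctor B).op ⋙ F.presheaf :=
    { app := fun i => AddCommGrpCat.ofHom (δ i.unop)
      naturality := by
        intro i j g
        ext a
        exact hδ j.unop i.unop (leOfHom g.unop.hom) a }
  let D := TopCat.Sheaf.restrictHomEquivHom (OAb X)
    (⟨F.presheaf, F.isSheaf⟩ : TopCat.Sheaf Ab.{u} X) hB α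
  refine ⟨fun U => (D.app (op U)).hom, ?_, ?_⟩
  · intro U V h a
    exact congr($(D.naturality (homOfLE h).op) a)
  · intro i
    have := TopCat.Sheaf.extend_hom_app (OAb X)
      (⟨F.presheaf, F.isSheaf⟩ : TopCat.Sheaf Ab.{u} X) hB α i
    show (D.app (op (B i))).hom = δ i
    rw [this]
    rfl

lemma resM_resM {A B C : X.Opens} (j₁ : B ⟶ A) (j₂ : C ⟶ B) (x : Γ(F, A)) :
    F.presheaf.map j₂.op (F.presheaf.map j₁.op x) = F.presheaf.map (j₂ ≫ j₁).op x := by
  rw [← ConcreteCategory.comp_apply, ← Functor.map_comp]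
  rfl

lemma resO_resO {A B C : X.Opens} (j₁ : B ⟶ A) (j₂ : C ⟶ B) (x : Γ(X, A)) :
    X.presheaf.map j₂.op (X.presheaf.map j₁.op x) = X.presheaf.map (j₂ ≫ j₁).op x := by
  rw [← CommRingCat.comp_apply, ← Functor.map_comp]
  rfl

/-- The Leibniz rule for a family of additive maps follows from the rule on a basis. -/
theorem leibniz_of_basis {ι : Type*} {B : ι → X.Opens} (hB : Opens.IsBasis (Set.range B))
    (D : ∀ U : X.Opens, Γ(X, U) →+ Γ(F, U))
    (hnat : ∀ (U V : X.Opens) (h : V ≤ U) (a : Γ(X, U)),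
        D V (X.presheaf.map (homOfLE h).op a) = F.presheaf.map (homOfLE h).op (D U a))
    (hL : ∀ i (a b : Γ(X, B i)), D (B i) (a * b) = a • D (B i) b + b • D (B i) a)
    (U : X.Opens) (a b : Γ(X, U)) : D U (a * b) = a • D U b + b • D U a := by
  apply sect_ext_of_basis F hB
  intro i hi
  rw [← hnat U (B i) hi, map_mul, hL, hnat, hnat, map_add, Scheme.Modules.map_smul,
    Scheme.Modules.map_smul]

section Affine

variable [IsAffine X]

/-- The extension of a Leibniz map on global sections to a basic open. -/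
theorem exists_local (δ : Γ(X, ⊤) →+ Γ(F, ⊤)) (hL : ∀ a b, δ (a * b) = a • δ b + b • δ a)
    (g : Γ(X, ⊤)) :
    ∃ δg : Γ(X, X.basicOpen g) →+ Γ(F, X.basicOpen g),
      (∀ a b, δg (a * b) = a • δg b + b • δg a) ∧
      ∀ s : Γ(X, ⊤), δg (X.presheaf.map (homOfLE (X.basicOpen_le g)).op s) =
        F.presheaf.map (homOfLE (X.basicOpen_le g)).op (δ s) := by
  have key := DerLoc.exists_leibniz_extension (S := Γ(X, ⊤)) (T := Γ(X, X.basicOpen g))
    (Submonoid.powers g) (N := Γ(F, X.basicOpen g))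
    ((F.presheaf.map (homOfLE (X.basicOpen_le g)).op).hom.comp δ) (by
      intro a b
      show F.presheaf.map (homOfLE (X.basicOpen_le g)).op (δ (a * b)) = _
      rw [hL, map_add, Scheme.Modules.map_smul, Scheme.Modules.map_smul]
      rfl)
  obtain ⟨δg, h1, h2⟩ := key
  exact ⟨δg, h1, fun s => h2 s⟩

/-- Compatibility of Leibniz extensions on nested basic opens. -/
theorem local_compat (δ : Γ(X, ⊤) →+ Γ(F, ⊤)) (g g' : Γ(X, ⊤))
    (h : X.basicOpen g' ≤ X.basicOpen g)
    (d : Γ(X, X.basicOpen g) →+ Γ(F, X.basicOpen g))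
    (d' : Γ(X, X.basicOpen g') →+ Γ(F, X.basicOpen g'))
    (hd : ∀ a b, d (a * b) = a • d b + b • d a)
    (hd' : ∀ a b, d' (a * b) = a • d' b + b • d' a)
    (hs : ∀ s : Γ(X, ⊤), d (X.presheaf.map (homOfLE (X.basicOpen_le g)).op s) =
        F.presheaf.map (homOfLE (X.basicOpen_le g)).op (δ s))
    (hs' : ∀ s : Γ(X, ⊤), d' (X.presheaf.map (homOfLE (X.basicOpen_le g')).op s) =
        F.presheaf.map (homOfLE (X.basicOpen_le g')).op (δ s))
    (a : Γ(X, X.basicOpen g)) :
    d' (X.presheaf.map (homOfLE h).op a) = F.presheaf.map (homOfLE h).op (d a) := by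
  let ψ : Γ(X, X.basicOpen g) →+* Γ(X, X.basicOpen g') := (X.presheaf.map (homOfLE h).op).hom
  have key := DerLoc.leibniz_ext' (S := Γ(X, ⊤)) (T := Γ(X, X.basicOpen g))
    (Submonoid.powers g) ψ (N' := Γ(F, X.basicOpen g'))
    (d'.comp ψ.toAddMonoidHom) ((F.presheaf.map (homOfLE h).op).hom.comp d)
    (by
      intro a b
      show d' (ψ (a * b)) = _
      rw [map_mul, hd']
      rfl)
    (by
      intro a b
      show F.presheaf.map (homOfLE h).op (d (a * b)) = _
      rw [hd, map_add, Scheme.Modules.map_smul, Scheme.Modules.map_smul]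
      rfl)
    (by
      intro s
      show d' (X.presheaf.map (homOfLE h).op
        (X.presheaf.map (homOfLE (X.basicOpen_le g)).op s)) =
        F.presheaf.map (homOfLE h).op (d (X.presheaf.map (homOfLE (X.basicOpen_le g)).op s))
      rw [hs, resM_resM, resO_resO]
      exact hs' s)
  exact congr($key a)

/-- A Leibniz map on global sections of an affine scheme extends to a compatible Leibniz family on
all opens. -/
theorem exists_family (δ : Γ(X, ⊤) →+ Γ(F, ⊤)) (hL : ∀ a b, δ (a * b) = a • δ b + b • δ a) :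
    ∃ D : ∀ U : X.Opens, Γ(X, U) →+ Γ(F, U),
      (∀ (U V : X.Opens) (h : V ≤ U) (a : Γ(X, U)),
        D V (X.presheaf.map (homOfLE h).op a) = F.presheaf.map (homOfLE h).op (D U a)) ∧
      (∀ (U : X.Opens) (a b : Γ(X, U)), D U (a * b) = a • D U b + b • D U a) ∧
      ∀ s, D ⊤ s = δ s := by
  choose δg hδg1 hδg2 using exists_local F δ hL
  obtain ⟨D, hnat, hD⟩ := exists_extension F (isBasis_basicOpen X) δg (fun g' g h a =>
    local_compat F δ g g' h (δg g) (δg g') (hδg1 g) (hδg1 g') (hδg2 g) (hδg2 g') a)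
  refine ⟨D, hnat, ?_, ?_⟩
  · intro U a b
    exact leibniz_of_basis F (isBasis_basicOpen X) D hnat
      (fun g a b => by rw [hD g]; exact hδg1 g a b) U a b
  · intro s
    have h1 : X.basicOpen (1 : Γ(X, ⊤)) = ⊤ := Scheme.basicOpen_of_isUnit _ isUnit_one
    apply sect_ext_of_cover F (fun _ : Unit => X.basicOpen (1 : Γ(X, ⊤))) ⊤ (fun _ => le_top)
      (by rw [h1]; exact le_iSup (fun _ : Unit => (⊤ : X.Opens)) ())
    intro _
    have e1 := hnat ⊤ (X.basicOpen (1 : Γ(X, ⊤))) le_top s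
    rw [hD] at e1
    have e2 := hδg2 1 s
    exact e1.symm.trans e2

end Affine

/-- A Leibniz family killing the global sections coming from an affine base kills all sections
coming from the base. -/
theorem app_eq_zero_of_top {S : Scheme.{u}} [IsAffine S] (f : X ⟶ S)
    (D : ∀ U : X.Opens, Γ(X, U) →+ Γ(F, U))
    (hnat : ∀ (U V : X.Opens) (h : V ≤ U) (a : Γ(X, U)),
        D V (X.presheaf.map (homOfLE h).op a) = F.presheaf.map (homOfLE h).op (D U a))
    (hL : ∀ (U : X.Opens) (a b : Γ(X, U)), D U (a * b) = a • D U b + b • D U a)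
    (h0 : ∀ c : Γ(S, ⊤), D ⊤ (f.appTop c) = 0) (W : S.Opens) (a : Γ(S, W)) :
    D (f ⁻¹ᵁ W) (f.app W a) = 0 := by
  -- basic opens
  have hbasic : ∀ (h : Γ(S, ⊤)) (a : Γ(S, S.basicOpen h)),
      D (f ⁻¹ᵁ S.basicOpen h) (f.app (S.basicOpen h) a) = 0 := by
    intro h a
    have key := DerLoc.leibniz_ext' (S := Γ(S, ⊤)) (T := Γ(S, S.basicOpen h))
      (Submonoid.powers h) (f.app (S.basicOpen h)).hom (N' := Γ(F, f ⁻¹ᵁ S.basicOpen h))
      ((D (f ⁻¹ᵁ S.basicOpen h)).comp (f.app (S.basicOpen h)).hom.toAddMonoidHom) 0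
      (by
        intro a b
        show D (f ⁻¹ᵁ S.basicOpen h) ((f.app (S.basicOpen h)).hom (a * b)) = _
        rw [map_mul, hL]
        rfl)
      (by intro a b; simp)
      (by
        intro c
        show D (f ⁻¹ᵁ S.basicOpen h) ((f.app (S.basicOpen h)).hom
          (S.presheaf.map (homOfLE (S.basicOpen_le h)).op c)) = 0
        have e1 : (f.app (S.basicOpen h)).hom (S.presheaf.map (homOfLE (S.basicOpen_le h)).op c) =
            X.presheaf.map (homOfLE (f.preimage_mono (S.basicOpen_le h))).op (f.appTop c) :=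
          congr($(f.naturality (homOfLE (S.basicOpen_le h)).op) c)
        rw [e1]
        have e2 := hnat ⊤ (f ⁻¹ᵁ S.basicOpen h) le_top (f.appTop c)
        rw [h0, map_zero] at e2
        exact e2)
    exact congr($key a)
  apply sect_ext_of_cover F (fun i : {h : Γ(S, ⊤) // S.basicOpen h ≤ W} => f ⁻¹ᵁ S.basicOpen i.1)
    (f ⁻¹ᵁ W) (fun i => f.preimage_mono i.2)
  · intro x hx
    obtain ⟨V, ⟨h, rfl⟩, hxV, hVW⟩ := Opens.isBasis_iff_nbhd.mp (isBasis_basicOpen S)
      (show f x ∈ W from hx)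
    exact Opens.mem_iSup.mpr ⟨⟨h, hVW⟩, hxV⟩
  · intro i
    rw [map_zero, ← hnat]
    have e1 : X.presheaf.map (homOfLE (f.preimage_mono i.2)).op (f.app W a) =
        f.app (S.basicOpen i.1) (S.presheaf.map (homOfLE i.2).op a) :=
      congr($(f.naturality (homOfLE i.2).op) a).symm
    rw [e1]
    exact hbasic i.1 _

/-- Package a compatible Leibniz family killing the base into a derivation. -/
noncomputable def mkDer {S : Scheme.{u}} (f : X ⟶ S)
    (D : ∀ U : X.Opens, Γ(X, U) →+ Γ(F, U))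
    (hnat : ∀ (U V : X.Opens) (h : V ≤ U) (a : Γ(X, U)),
        D V (X.presheaf.map (homOfLE h).op a) = F.presheaf.map (homOfLE h).op (D U a))
    (hL : ∀ (U : X.Opens) (a b : Γ(X, U)), D U (a * b) = a • D U b + b • D U a)
    (happ : ∀ (W : S.Opens) (a : Γ(S, W)), D (f ⁻¹ᵁ W) (f.app W a) = 0) : Der f F where
  d {V} := D V.unop
  d_mul {V} a b := hL V.unop a b
  d_map {V W} g x := hnat V.unop W.unop g.unop.le x
  d_app {W} a := happ W.unop a

@[simp] lemma mkDer_app {S : Scheme.{u}} (f : X ⟶ S)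
    (D : ∀ U : X.Opens, Γ(X, U) →+ Γ(F, U)) (hnat) (hL) (happ) (U : X.Opens) :
    (mkDer F f D hnat hL happ).app U = D U := rfl

lemma der_app_map {S : Scheme.{u}} {f : X ⟶ S} (D : Der f F) {U V : X.Opens} (h : V ≤ U)
    (a : Γ(X, U)) :
    D.app V (X.presheaf.map (homOfLE h).op a) = F.presheaf.map (homOfLE h).op (D.app U a) :=
  D.d_map (homOfLE h).op a

lemma der_app_mul {S : Scheme.{u}} {f : X ⟶ S} (D : Der f F) (U : X.Opens) (a b : Γ(X, U)) :
    D.app U (a * b) = a • D.app U b + b • D.app U a :=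
  D.d_mul a b

lemma der_app_app {S : Scheme.{u}} {f : X ⟶ S} (D : Der f F) (W : S.Opens) (a : Γ(S, W)) :
    D.app (f ⁻¹ᵁ W) (f.app W a) = 0 :=
  D.d_app (X := op W) a

/-- On an affine scheme a derivation is determined by its effect on global sections. -/
theorem der_ext_of_top [IsAffine X] {S : Scheme.{u}} {f : X ⟶ S} (D₁ D₂ : Der f F)
    (h : ∀ s, D₁.app ⊤ s = D₂.app ⊤ s) : D₁ = D₂ := by
  apply DerKit.der_ext
  intro U s
  apply sect_ext_of_basis F (isBasis_basicOpen X)
  intro g hg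
  rw [← der_app_map, ← der_app_map]
  have key := DerLoc.leibniz_ext (S := Γ(X, ⊤)) (T := Γ(X, X.basicOpen g))
    (Submonoid.powers g) (N := Γ(F, X.basicOpen g)) (D₁.app (X.basicOpen g))
    (D₂.app (X.basicOpen g)) (der_app_mul F D₁ _) (der_app_mul F D₂ _)
    (by
      intro s
      show D₁.app (X.basicOpen g) (X.presheaf.map (homOfLE (X.basicOpen_le g)).op s) =
        D₂.app (X.basicOpen g) (X.presheaf.map (homOfLE (X.basicOpen_le g)).op s)
      rw [der_app_map, der_app_map, h])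
  rw [key]

/-- Derivations on an affine scheme over an affine base are the same as Leibniz maps on global
sections killing the base. -/
theorem exists_der_iff [IsAffine X] {S : Scheme.{u}} [IsAffine S] (f : X ⟶ S)
    (δ : Γ(X, ⊤) →+ Γ(F, ⊤)) :
    ((∀ a b : Γ(X, ⊤), δ (a * b) = a • δ b + b • δ a) ∧ ∀ c : Γ(S, ⊤), δ (f.appTop c) = 0) ↔
      ∃ D : Der f F, D.app ⊤ = δ := by
  constructor
  · rintro ⟨hL, h0⟩
    obtain ⟨D, hnat, hLD, hD⟩ := exists_family F δ hL
    refine ⟨mkDer F f D hnat hLD (app_eq_zero_of_top F f D hnat hLD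
      (fun c => by rw [hD]; exact h0 c)), ?_⟩
    ext s
    exact hD s
  · rintro ⟨D, rfl⟩
    exact ⟨fun a b => der_app_mul F D ⊤ a b, fun c => der_app_app F D ⊤ c⟩

end Groth.Agent.H39.DerAff
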