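import Groth.Agent.H39.DerKit
import Groth.Agent.H39.OmegaC
import Groth.Agent.S5947

/-!
# Tracking pulled-back sections through the structural isomorphisms of `Scheme.Modules.pullback`
-/

set_option autoImplicit false
universe u
open CategoryTheory AlgebraicGeometry Opposite OmegaSh TopologicalSpace

namespace Groth.Agent.H39.PullTrack

variable {X Y Z : Scheme.{u}}

/-- Morphisms of modules commute with restriction of sections. -/
lemma app_res {M N : X.Modules} (φ : M ⟶ N) {V W : X.Opens} (h : V ≤ W) (x : Γ(M, W)) :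
    φ.app V (M.presheaf.map (homOfLE h).op x) = N.presheaf.map (homOfLE h).op (φ.app W x) :=
  congr($(φ.mapPresheaf.naturality (homOfLE h).op) x)

lemma res_res (M : X.Modules) {A B C : X.Opens} (h₁ : B ≤ A) (h₂ : C ≤ B) (x : Γ(M, A)) :
    M.presheaf.map (homOfLE h₂).op (M.presheaf.map (homOfLE h₁).op x) =
      M.presheaf.map (homOfLE (h₂.trans h₁)).op x := by
  rw [← ConcreteCategory.comp_apply, ← Functor.map_comp]
  rfl

lemma res_self (M : X.Modules) {A : X.Opens} (h : A ≤ A) (x : Γ(M, A)) :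
    M.presheaf.map (homOfLE h).op x = x := by
  have : (homOfLE h).op = 𝟙 (op A) := rfl
  rw [this, M.presheaf.map_id]
  rfl

/-- Pull a section over `W` back to a section of the pullback over any open `W' ≤ h⁻¹ W`. -/
noncomputable def pullSectLE (h : Y ⟶ X) (M : X.Modules) (W : X.Opens) (W' : Y.Opens)
    (hle : W' ≤ h ⁻¹ᵁ W) : Γ(M, W) →+ Γ((Scheme.Modules.pullback h).obj M, W') :=
  (((Scheme.Modules.pullback h).obj M).presheaf.map (homOfLE hle).op).hom.comp
    (pullSect h M W).hom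

lemma pullSectLE_apply (h : Y ⟶ X) (M : X.Modules) (W : X.Opens) (W' : Y.Opens)
    (hle : W' ≤ h ⁻¹ᵁ W) (x : Γ(M, W)) :
    pullSectLE h M W W' hle x =
      ((Scheme.Modules.pullback h).obj M).presheaf.map (homOfLE hle).op (pullSect h M W x) := rfl

lemma pullSectLE_self (h : Y ⟶ X) (M : X.Modules) (W : X.Opens) (x : Γ(M, W)) :
    pullSectLE h M W (h ⁻¹ᵁ W) le_rfl x = pullSect h M W x := by
  rw [pullSectLE_apply, res_self]

/-- `pullSect` commutes with restriction. -/
lemma pullSect_res (h : Y ⟶ X) (M : X.Modules) {W₁ W₂ : X.Opens} (h12 : W₂ ≤ W₁) (x : Γ(M, W₁)) :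
    pullSect h M W₂ (M.presheaf.map (homOfLE h12).op x) =
      ((Scheme.Modules.pullback h).obj M).presheaf.map
        (homOfLE (show h ⁻¹ᵁ W₂ ≤ h ⁻¹ᵁ W₁ from fun _ hy => h12 hy)).op (pullSect h M W₁ x) :=
  app_res ((Scheme.Modules.pullbackPushforwardAdjunction h).unit.app M) h12 x

lemma pullSectLE_res_target (h : Y ⟶ X) (M : X.Modules) (W : X.Opens) {W' W'' : Y.Opens}
    (hle : W' ≤ h ⁻¹ᵁ W) (h2 : W'' ≤ W') (x : Γ(M, W)) :
    ((Scheme.Modules.pullback h).obj M).presheaf.map (homOfLE h2).op (pullSectLE h M W W' hle x) =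
      pullSectLE h M W W'' (h2.trans hle) x := by
  rw [pullSectLE_apply, pullSectLE_apply, res_res]

lemma pullSectLE_res_source (h : Y ⟶ X) (M : X.Modules) {W₁ W₂ : X.Opens} (h12 : W₂ ≤ W₁)
    (W' : Y.Opens) (hle : W' ≤ h ⁻¹ᵁ W₂) (x : Γ(M, W₁)) :
    pullSectLE h M W₂ W' hle (M.presheaf.map (homOfLE h12).op x) =
      pullSectLE h M W₁ W' (hle.trans (fun _ hy => h12 hy)) x := by
  rw [pullSectLE_apply, pullSectLE_apply, pullSect_res, res_res]

/-- Naturality of `pullSect` in the module. -/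
lemma map_pullSect (h : Y ⟶ X) {M N : X.Modules} (α : M ⟶ N) (W : X.Opens) (x : Γ(M, W)) :
    ((Scheme.Modules.pullback h).map α).app (h ⁻¹ᵁ W) (pullSect h M W x) =
      pullSect h N W (α.app W x) := by
  have h1 := (Scheme.Modules.pullbackPushforwardAdjunction h).unit.naturality α
  exact (congrArg (fun t => (Scheme.Modules.Hom.app t W) x) h1).symm

lemma map_pullSectLE (h : Y ⟶ X) {M N : X.Modules} (α : M ⟶ N) (W : X.Opens) (W' : Y.Opens)
    (hle : W' ≤ h ⁻¹ᵁ W) (x : Γ(M, W)) :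
    ((Scheme.Modules.pullback h).map α).app W' (pullSectLE h M W W' hle x) =
      pullSectLE h N W W' hle (α.app W x) := by
  rw [pullSectLE_apply, app_res, map_pullSect, pullSectLE_apply]

/-- `pullSect` and composition of pullbacks. -/
lemma pullbackComp_inv_pullSect (f : Z ⟶ Y) (g : Y ⟶ X) (M : X.Modules) (W : X.Opens)
    (x : Γ(M, W)) :
    ((Scheme.Modules.pullbackComp f g).inv.app M).app ((f ≫ g) ⁻¹ᵁ W) (pullSect (f ≫ g) M W x) =
      pullSect f ((Scheme.Modules.pullback g).obj M) (g ⁻¹ᵁ W) (pullSect g M W x) := by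
  have h1 := unit_conjugateEquiv
    ((Scheme.Modules.pullbackPushforwardAdjunction g).comp
      (Scheme.Modules.pullbackPushforwardAdjunction f))
    (Scheme.Modules.pullbackPushforwardAdjunction (f ≫ g))
    (Scheme.Modules.pullbackComp f g).inv M
  rw [Scheme.Modules.conjugateEquiv_pullbackComp_inv] at h1
  have h2 := congrArg (fun t => (Scheme.Modules.Hom.app t W) x) h1
  exact h2.symm

lemma pullbackComp_hom_pullSect (f : Z ⟶ Y) (g : Y ⟶ X) (M : X.Modules) (W : X.Opens)
    (x : Γ(M, W)) :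
    ((Scheme.Modules.pullbackComp f g).hom.app M).app ((f ≫ g) ⁻¹ᵁ W)
        (pullSect f ((Scheme.Modules.pullback g).obj M) (g ⁻¹ᵁ W) (pullSect g M W x)) =
      pullSect (f ≫ g) M W x := by
  rw [← pullbackComp_inv_pullSect]
  have h3 : (Scheme.Modules.pullbackComp f g).inv.app M ≫
      (Scheme.Modules.pullbackComp f g).hom.app M = 𝟙 _ :=
    (Scheme.Modules.pullbackComp f g).inv_hom_id_app M
  exact congrArg (fun t => (Scheme.Modules.Hom.app t ((f ≫ g) ⁻¹ᵁ W)) (pullSect (f ≫ g) M W x)) h3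

lemma pullbackComp_hom_pullSectLE (f : Z ⟶ Y) (g : Y ⟶ X) (M : X.Modules) (W : X.Opens)
    (W' : Y.Opens) (W'' : Z.Opens) (h1 : W' ≤ g ⁻¹ᵁ W) (h2 : W'' ≤ f ⁻¹ᵁ W') (x : Γ(M, W)) :
    ((Scheme.Modules.pullbackComp f g).hom.app M).app W''
        (pullSectLE f ((Scheme.Modules.pullback g).obj M) W' W'' h2 (pullSectLE g M W W' h1 x)) =
      pullSectLE (f ≫ g) M W W'' (h2.trans (fun _ hy => h1 hy)) x := by
  have hle : W'' ≤ (f ≫ g) ⁻¹ᵁ W := h2.trans (fun _ hy => h1 hy)
  rw [pullSectLE_apply g, pullSectLE_res_source, pullSectLE_apply, pullSectLE_apply]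
  have hφ := app_res (M := (Scheme.Modules.pullback f).obj ((Scheme.Modules.pullback g).obj M))
    ((Scheme.Modules.pullbackComp f g).hom.app M) hle
    (pullSect f ((Scheme.Modules.pullback g).obj M) (g ⁻¹ᵁ W) (pullSect g M W x))
  rw [pullbackComp_hom_pullSect] at hφ
  exact hφ

lemma pullbackComp_inv_pullSectLE (f : Z ⟶ Y) (g : Y ⟶ X) (M : X.Modules) (W : X.Opens)
    (W' : Y.Opens) (W'' : Z.Opens) (h1 : W' ≤ g ⁻¹ᵁ W) (h2 : W'' ≤ f ⁻¹ᵁ W') (x : Γ(M, W)) :
    ((Scheme.Modules.pullbackComp f g).inv.app M).app W''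
        (pullSectLE (f ≫ g) M W W'' (h2.trans (fun _ hy => h1 hy)) x) =
      pullSectLE f ((Scheme.Modules.pullback g).obj M) W' W'' h2 (pullSectLE g M W W' h1 x) := by
  rw [← pullbackComp_hom_pullSectLE f g M W W' W'' h1 h2]
  have h3 : (Scheme.Modules.pullbackComp f g).hom.app M ≫
      (Scheme.Modules.pullbackComp f g).inv.app M = 𝟙 _ :=
    (Scheme.Modules.pullbackComp f g).hom_inv_id_app M
  exact congrArg (fun t => (Scheme.Modules.Hom.app t W'')
    (pullSectLE f ((Scheme.Modules.pullback g).obj M) W' W'' h2 (pullSectLE g M W W' h1 x))) h3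

/-- `pullSect` and pullbacks along equal morphisms. -/
lemma pullbackCongr_hom_pullSectLE {f g : Y ⟶ X} (e : f = g) (M : X.Modules) (W : X.Opens)
    (W' : Y.Opens) (h1 : W' ≤ f ⁻¹ᵁ W) (x : Γ(M, W)) :
    ((Scheme.Modules.pullbackCongr e).hom.app M).app W' (pullSectLE f M W W' h1 x) =
      pullSectLE g M W W' (e ▸ h1) x := by
  subst e
  have : (Scheme.Modules.pullbackCongr (rfl : f = f)).hom.app M = 𝟙 _ := by
    simp [Scheme.Modules.pullbackCongr]
  rw [this]
  rfl

end Groth.Agent.H39.PullTrack
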