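import Groth.Agent.H39.ConormalSect
import Groth.Agent.H39.FSmooth
import Groth.Agent.H8.StalkLocal
import Groth.Agent.H8.RelFPBaseChange
import Mathlib.RingTheory.Smooth.Kaehler
import Mathlib.RingTheory.Smooth.Basic

/-!
# The map `C_{X'/X} → j^*Ω_{X/Y}` on sections; injectivity for formally smooth `X'/Y`
-/

set_option autoImplicit false
set_option linter.style.haveILetI false
universe u
open CategoryTheory CategoryTheory.Limits AlgebraicGeometry Opposite OmegaSh TopologicalSpace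
open scoped TensorProduct

namespace Groth.Agent.H39.ConormalMono

open Groth.Agent.H39 Groth.Agent.H8 Groth.Agent.H39.ConormalLocal Groth.Agent.H39.ConormalSect

/-- A morphism of quasi-coherent modules which is injective on sections over the members of an
affine open cover is a monomorphism. -/
theorem mono_of_injective_affine_cover {X : Scheme.{u}} {A B : X.Modules} [A.IsQuasicoherent]
    [B.IsQuasicoherent] (φ : A ⟶ B) {ι : Type*} (U : ι → X.Opens) (hU : IsOpenCover U)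
    (hU' : ∀ i, IsAffineOpen (U i)) (h : ∀ i, Function.Injective (φ.app (U i))) : Mono φ := by
  apply mono_of_app_injective
  intro O
  rw [injective_iff_map_eq_zero]
  intro a ha
  apply DerAff.sect_ext_of_basis A (isBasis_basicOpen_of_affine_cover U hU hU') O a 0
  rintro ⟨i, f⟩ hi
  have hinj := app_basicOpen_injective φ (hU' i) (h i) f
  apply hinj
  rw [app_res, ha, map_zero, map_zero, map_zero]

/-- Ring level: for a surjection `P → S` of `R`-algebras with `S` formally smooth over `R`, the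
map `I/I² → S ⊗[P] Ω[P⁄R]` is injective. -/
theorem kerCotangentToTensor_injective (R P S : Type u) [CommRing R] [CommRing P] [CommRing S]
    [Algebra R P] [Algebra P S] [Algebra R S] [IsScalarTower R P S]
    (hf : Function.Surjective (algebraMap P S)) [Algebra.FormallySmooth R S] :
    Function.Injective (KaehlerDifferential.kerCotangentToTensor R P S) := by
  let f : P →ₐ[R] S := IsScalarTower.toAlgHom R P S
  have hks : Function.Surjective f.kerSquareLift := by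
    intro s
    obtain ⟨p, rfl⟩ := hf s
    exact ⟨Ideal.Quotient.mk _ p, rfl⟩
  have sqz : RingHom.ker f.kerSquareLift.toRingHom ^ 2 = ⊥ := by
    rw [AlgHom.ker_kerSquareLift, Ideal.cotangentIdeal_square]
  have hnil : IsNilpotent (RingHom.ker f.kerSquareLift) := ⟨2, sqz⟩
  let g : S →ₐ[R] P ⧸ RingHom.ker f.toRingHom ^ 2 :=
    Algebra.FormallySmooth.liftOfSurjective (AlgHom.id R S) f.kerSquareLift hks hnil
  have hg : f.kerSquareLift.comp g = AlgHom.id R S :=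
    Algebra.FormallySmooth.comp_liftOfSurjective _ _ hks hnil
  obtain ⟨l, hl⟩ := (retractionKerCotangentToTensorEquivSection (R := R) hf).symm
    ⟨g, hg⟩
  exact Function.LeftInverse.injective (g := l) (fun x => LinearMap.congr_fun hl x)

section

variable {X' X Y : Scheme.{u}} (j : X' ⟶ X) [QuasiCompact j]

/-- Over a small affine, every section of the conormal sheaf is the class of a section of the
ideal. -/
theorem conormalSect_surjective {V₁ : X.Opens} (hV₁ : IsAffineOpen V₁)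
    (hW : IsAffineOpen (j ⁻¹ᵁ V₁)) (hsurj : Function.Surjective (j.app V₁))
    (q : Γ(Omega.conormal j, j ⁻¹ᵁ V₁)) :
    ∃ s : Γ(ClSub.idealMod j.ker, V₁), conormalSect j V₁ s = q := by
  letI : Algebra Γ(X, V₁) Γ(X', j ⁻¹ᵁ V₁) := (j.appLE V₁ (j ⁻¹ᵁ V₁) le_rfl).hom.toAlgebra
  obtain ⟨Θ, hΘ, -⟩ := exists_conormal_equiv j hV₁ hW hsurj
  obtain ⟨x, hx⟩ := Ideal.toCotangent_surjective _ (Θ q)
  have happ : j.appLE V₁ (j ⁻¹ᵁ V₁) le_rfl = j.app V₁ := (Scheme.Hom.app_eq_appLE j).symm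
  have hxk : (x.1 : Γ(X, V₁)) ∈ j.ker.ideal ⟨V₁, hV₁⟩ := by
    rw [Scheme.Hom.ker_apply, ← happ]
    exact x.2
  obtain ⟨s, hs⟩ := exists_idealSect_eq j.ker ⟨V₁, hV₁⟩ x.1 hxk
  refine ⟨s, Θ.injective ?_⟩
  rw [hΘ s x hs.symm, hx]

variable (f : X ⟶ Y) {Ω' : X.Modules} {d : Der f Ω'} (hd : IsUniversal d)
  {φ : Omega.conormal j ⟶ (Scheme.Modules.pullback j).obj Ω'} (hφ : IsConormalDiff j d φ)

include hd hφ in
set_option maxHeartbeats 1000000 in
/-- If `X'` is formally smooth over `Y` then `C_{X'/X} → j^*Ω_{X/Y}` is injective on sections over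
small affines. -/
theorem app_injective_of_formallySmooth (hf : MoreMor.IsFormallySmoothHom (j ≫ f))
    {U : Y.Opens} (hU : IsAffineOpen U) {V₁ : X.Opens} (hV₁ : IsAffineOpen V₁)
    (e₁ : V₁ ≤ f ⁻¹ᵁ U) (hW : IsAffineOpen (j ⁻¹ᵁ V₁))
    (hsurj : Function.Surjective (j.app V₁)) :
    Function.Injective (φ.app (j ⁻¹ᵁ V₁)) := by
  have e₂ : j ⁻¹ᵁ V₁ ≤ (j ≫ f) ⁻¹ᵁ U := fun x hx => e₁ hx
  have e : j ⁻¹ᵁ V₁ ≤ j ⁻¹ᵁ V₁ := le_rfl
  letI a1 : Algebra Γ(Y, U) Γ(X, V₁) := (f.appLE U V₁ e₁).hom.toAlgebra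
  letI a2 : Algebra Γ(Y, U) Γ(X', j ⁻¹ᵁ V₁) := ((j ≫ f).appLE U (j ⁻¹ᵁ V₁) e₂).hom.toAlgebra
  letI a3 : Algebra Γ(X, V₁) Γ(X', j ⁻¹ᵁ V₁) := (j.appLE V₁ (j ⁻¹ᵁ V₁) e).hom.toAlgebra
  haveI : IsScalarTower Γ(Y, U) Γ(X, V₁) Γ(X', j ⁻¹ᵁ V₁) :=
    IsScalarTower.of_algebraMap_eq' (congrArg CommRingCat.Hom.hom
      (Scheme.Hom.appLE_comp_appLE j f U V₁ (j ⁻¹ᵁ V₁) e₁ e).symm)
  haveI : Algebra.FormallySmooth Γ(Y, U) Γ(X', j ⁻¹ᵁ V₁) :=
    FSmooth.formallySmooth_appLE_of_isFormallySmoothHom (j ≫ f) hf hW hU e₂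
  have happ : j.appLE V₁ (j ⁻¹ᵁ V₁) e = j.app V₁ := (Scheme.Hom.app_eq_appLE j).symm
  have hsurj' : Function.Surjective (algebraMap Γ(X, V₁) Γ(X', j ⁻¹ᵁ V₁)) := by
    show Function.Surjective (j.appLE V₁ (j ⁻¹ᵁ V₁) e).hom
    rw [happ]; exact hsurj
  haveI : Ω'.IsQuasicoherent := DerFin.isQuasicoherent_of_isUniversal f hd
  obtain ⟨ψ, hψ⟩ := DerFin.exists_linearEquiv_kaehler_track f hd hU hV₁ e₁
  obtain ⟨E, hE⟩ := PullTrack.exists_sectionsPullbackEquiv j Ω' hV₁ hW e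
  obtain ⟨Θ, hΘ, -⟩ := exists_conormal_equiv j hV₁ hW hsurj
  have hinj := kerCotangentToTensor_injective Γ(Y, U) Γ(X, V₁) Γ(X', j ⁻¹ᵁ V₁) hsurj'
  rw [injective_iff_map_eq_zero]
  intro q hq
  obtain ⟨s, rfl⟩ := conormalSect_surjective j hV₁ hW hsurj q
  have hmem : idealSect j.ker V₁ s ∈ RingHom.ker (algebraMap Γ(X, V₁) Γ(X', j ⁻¹ᵁ V₁)) := by
    rw [RingHom.mem_ker]
    show (j.appLE V₁ (j ⁻¹ᵁ V₁) e).hom _ = 0
    rw [happ]
    exact app_idealSect j V₁ s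
  rw [hφ V₁ s, ← PullTrack.pullSectLE_self] at hq
  have h1 := congrArg (fun z => (LinearEquiv.baseChange Γ(X, V₁) Γ(X', j ⁻¹ᵁ V₁) Γ(Ω', V₁)
    Ω[Γ(X, V₁)⁄Γ(Y, U)] ψ) (E z)) hq
  simp only [hE, LinearEquiv.baseChange_tmul, hψ, map_zero] at h1
  have h2 : KaehlerDifferential.kerCotangentToTensor Γ(Y, U) Γ(X, V₁) Γ(X', j ⁻¹ᵁ V₁)
      (Ideal.toCotangent _ ⟨idealSect j.ker V₁ s, hmem⟩) = 0 := by
    rw [KaehlerDifferential.kerCotangentToTensor_toCotangent]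
    exact h1
  have h3 := hinj (h2.trans (map_zero _).symm)
  apply Θ.injective
  rw [hΘ s ⟨idealSect j.ker V₁ s, hmem⟩ rfl, h3, map_zero]

end

section

variable {X' X Y : Scheme.{u}} (j : X' ⟶ X) [QuasiCompact j]
  (f : X ⟶ Y) {Ω' : X.Modules} {d : Der f Ω'} (hd : IsUniversal d)
  {φ : Omega.conormal j ⟶ (Scheme.Modules.pullback j).obj Ω'} (hφ : IsConormalDiff j d φ)

include hd hφ in
set_option maxHeartbeats 1000000 in
/-- If the ring-level map `I/I² → B̄ ⊗ Ω[B/A]` is injective then `C_{X'/X} → j^*Ω_{X/Y}` is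
injective on sections over the small affine. -/
theorem app_injective_of_injective
    {U : Y.Opens} (hU : IsAffineOpen U) {V₁ : X.Opens} (hV₁ : IsAffineOpen V₁)
    (e₁ : V₁ ≤ f ⁻¹ᵁ U) (hW : IsAffineOpen (j ⁻¹ᵁ V₁))
    (hsurj : Function.Surjective (j.app V₁))
    (hinj : letI : Algebra Γ(Y, U) Γ(X, V₁) := (f.appLE U V₁ e₁).hom.toAlgebra
      letI : Algebra Γ(Y, U) Γ(X', j ⁻¹ᵁ V₁) :=
        ((j ≫ f).appLE U (j ⁻¹ᵁ V₁) (fun x hx => e₁ hx)).hom.toAlgebra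
      letI : Algebra Γ(X, V₁) Γ(X', j ⁻¹ᵁ V₁) := (j.appLE V₁ (j ⁻¹ᵁ V₁) le_rfl).hom.toAlgebra
      Function.Injective
        (KaehlerDifferential.kerCotangentToTensor Γ(Y, U) Γ(X, V₁) Γ(X', j ⁻¹ᵁ V₁))) :
    Function.Injective (φ.app (j ⁻¹ᵁ V₁)) := by
  have e₂ : j ⁻¹ᵁ V₁ ≤ (j ≫ f) ⁻¹ᵁ U := fun x hx => e₁ hx
  have e : j ⁻¹ᵁ V₁ ≤ j ⁻¹ᵁ V₁ := le_rfl
  letI a1 : Algebra Γ(Y, U) Γ(X, V₁) := (f.appLE U V₁ e₁).hom.toAlgebra
  letI a2 : Algebra Γ(Y, U) Γ(X', j ⁻¹ᵁ V₁) := ((j ≫ f).appLE U (j ⁻¹ᵁ V₁) e₂).hom.toAlgebra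
  letI a3 : Algebra Γ(X, V₁) Γ(X', j ⁻¹ᵁ V₁) := (j.appLE V₁ (j ⁻¹ᵁ V₁) e).hom.toAlgebra
  have happ : j.appLE V₁ (j ⁻¹ᵁ V₁) e = j.app V₁ := (Scheme.Hom.app_eq_appLE j).symm
  haveI : Ω'.IsQuasicoherent := DerFin.isQuasicoherent_of_isUniversal f hd
  obtain ⟨ψ, hψ⟩ := DerFin.exists_linearEquiv_kaehler_track f hd hU hV₁ e₁
  obtain ⟨E, hE⟩ := PullTrack.exists_sectionsPullbackEquiv j Ω' hV₁ hW e
  obtain ⟨Θ, hΘ, -⟩ := exists_conormal_equiv j hV₁ hW hsurj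
  rw [injective_iff_map_eq_zero]
  intro q hq
  obtain ⟨s, rfl⟩ := conormalSect_surjective j hV₁ hW hsurj q
  have hmem : idealSect j.ker V₁ s ∈ RingHom.ker (algebraMap Γ(X, V₁) Γ(X', j ⁻¹ᵁ V₁)) := by
    rw [RingHom.mem_ker]
    show (j.appLE V₁ (j ⁻¹ᵁ V₁) e).hom _ = 0
    rw [happ]
    exact app_idealSect j V₁ s
  rw [hφ V₁ s, ← PullTrack.pullSectLE_self] at hq
  have h1 := congrArg (fun z => (LinearEquiv.baseChange Γ(X, V₁) Γ(X', j ⁻¹ᵁ V₁) Γ(Ω', V₁)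
    Ω[Γ(X, V₁)⁄Γ(Y, U)] ψ) (E z)) hq
  simp only [hE, LinearEquiv.baseChange_tmul, hψ, map_zero] at h1
  have h2 : KaehlerDifferential.kerCotangentToTensor Γ(Y, U) Γ(X, V₁) Γ(X', j ⁻¹ᵁ V₁)
      (Ideal.toCotangent _ ⟨idealSect j.ker V₁ s, hmem⟩) = 0 := by
    rw [KaehlerDifferential.kerCotangentToTensor_toCotangent]
    exact h1
  have h3 := hinj (h2.trans (map_zero _).symm)
  apply Θ.injective
  rw [hΘ s ⟨idealSect j.ker V₁ s, hmem⟩ rfl, h3, map_zero]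

end

/-- Ring level: if the surjection `P → S` of `R`-algebras has an `R`-algebra section, the map
`I/I² → S ⊗[P] Ω[P⁄R]` is injective. -/
theorem kerCotangentToTensor_injective_of_section (R P S : Type u) [CommRing R] [CommRing P]
    [CommRing S] [Algebra R P] [Algebra P S] [Algebra R S] [IsScalarTower R P S]
    (hf : Function.Surjective (algebraMap P S)) (s₀ : S →ₐ[R] P)
    (hs : ∀ x, algebraMap P S (s₀ x) = x) :
    Function.Injective (KaehlerDifferential.kerCotangentToTensor R P S) := by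
  let f : P →ₐ[R] S := IsScalarTower.toAlgHom R P S
  let g : S →ₐ[R] P ⧸ RingHom.ker f.toRingHom ^ 2 := (Ideal.Quotient.mkₐ R _).comp s₀
  have hg : f.kerSquareLift.comp g = AlgHom.id R S := by
    ext x
    exact hs x
  obtain ⟨l, hl⟩ := (retractionKerCotangentToTensorEquivSection (R := R) hf).symm ⟨g, hg⟩
  exact Function.LeftInverse.injective (g := l) (fun x => LinearMap.congr_fun hl x)

end Groth.Agent.H39.ConormalMono
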