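import Groth.Agent.H39.ConormalReg
import Groth.Agent.H8.LocFree

/-!
# The conormal sheaf of an `H₁`-regular immersion is finite locally free
-/

set_option autoImplicit false
set_option linter.style.haveILetI false
universe u
open CategoryTheory CategoryTheory.Limits AlgebraicGeometry Opposite OmegaSh TopologicalSpace
open scoped TensorProduct

namespace Groth.Agent.H39.ConormalFree

open Groth.Agent.H39 Groth.Agent.H8 Groth.Agent.H39.ConormalLocal Groth.Agent.H39.ConormalSect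
  Groth.Agent.H39.ConormalMono Groth.Agent.H39.ConormalSplit Groth.Agent.H39.ConormalMap
  Groth.Agent.H39.ConormalMapMono Groth.Agent.H39.ConormalTrans Groth.Agent.H39.ConormalReg

/-- For an `H₁`-regular sequence `g` generating `I`: if `∑ bₖ gₖ ∈ I²` then all `bₖ ∈ I`. -/
lemma coeff_mem_of_sum_mem_sq {R : Type u} [CommRing R] {c : ℕ} (g : Fin c → R)
    (hg : CAlgX.IsH1Regular g) (b : Fin c → R)
    (h : ∑ k, b k * g k ∈ Ideal.span (Set.range g) ^ 2) (k : Fin c) :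
    b k ∈ Ideal.span (Set.range g) := by
  set I := Ideal.span (Set.range g) with hI
  have h' : ∑ k, b k * g k ∈ I • Submodule.span R (Set.range g) := by
    rw [pow_two] at h
    exact h
  obtain ⟨a, ha, hab⟩ := (Submodule.mem_ideal_smul_span_iff_exists_sum I g _).mp h'
  have hfs := Finsupp.sum_fintype a (fun i c => c • g i) (fun i => zero_smul _ _)
  rw [hfs] at hab
  have hrel : ∑ i, (b i - a i) * g i = 0 := by
    have : ∑ i, (b i - a i) * g i = ∑ i, b i * g i - ∑ i, a i • g i := by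
      rw [← Finset.sum_sub_distrib]
      exact Finset.sum_congr rfl fun i _ => by rw [smul_eq_mul]; ring
    rw [this, hab, sub_self]
  have hmem := hg (fun i => b i - a i) hrel
  have hle : Submodule.span R
      {v : Fin c → R | ∃ i j : Fin c, v = Pi.single i (g j) - Pi.single j (g i)} ≤
      Submodule.pi Set.univ (fun _ : Fin c => I) := by
    rw [Submodule.span_le]
    rintro v ⟨i, j, rfl⟩ m -
    have hs : ∀ (i' j' : Fin c), Pi.single (M := fun _ => R) i' (g j') m ∈ I := by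
      intro i' j'
      by_cases hm : m = i'
      · subst hm
        rw [Pi.single_eq_same]
        exact Ideal.subset_span ⟨j', rfl⟩
      · rw [Pi.single_eq_of_ne hm]
        exact I.zero_mem
    rw [Pi.sub_apply]
    exact I.sub_mem (hs i j) (hs j i)
  have hk : b k - a k ∈ I := hle hmem k (Set.mem_univ k)
  have : b k = (b k - a k) + a k := by ring
  rw [this]
  exact I.add_mem hk (ha k)

section Sections

variable {Z Y : Scheme.{u}} (i : Z ⟶ Y) [QuasiCompact i]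

set_option maxHeartbeats 1000000 in
/-- Over a small affine on which the ideal of `Z` is generated by an `H₁`-regular sequence, the
sections of the conormal sheaf form a finite free module. -/
theorem finite_free_conormal_sections {V₁ : Y.Opens} (hV₁ : IsAffineOpen V₁)
    (hW : IsAffineOpen (i ⁻¹ᵁ V₁)) (hsurj : Function.Surjective (i.app V₁))
    (rs : List Γ(Y, V₁)) (hrs : CAlgX.IsH1Regular rs.get)
    (hker : RingHom.ker (i.app V₁).hom = Ideal.ofList rs) :
    Module.Finite Γ(Z, i ⁻¹ᵁ V₁) Γ(Omega.conormal i, i ⁻¹ᵁ V₁) ∧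
      Module.Free Γ(Z, i ⁻¹ᵁ V₁) Γ(Omega.conormal i, i ⁻¹ᵁ V₁) := by
  have e0 : i ⁻¹ᵁ V₁ ≤ i ⁻¹ᵁ V₁ := le_rfl
  letI : Algebra Γ(Y, V₁) Γ(Z, i ⁻¹ᵁ V₁) := (i.appLE V₁ (i ⁻¹ᵁ V₁) e0).hom.toAlgebra
  obtain ⟨Θ, hΘ, hΘsmul⟩ := exists_conormal_equiv i hV₁ hW hsurj
  have happ : i.appLE V₁ (i ⁻¹ᵁ V₁) e0 = i.app V₁ := (Scheme.Hom.app_eq_appLE i).symm
  have hsurj' : Function.Surjective (algebraMap Γ(Y, V₁) Γ(Z, i ⁻¹ᵁ V₁)) := by
    show Function.Surjective (i.appLE V₁ (i ⁻¹ᵁ V₁) e0).hom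
    rw [happ]; exact hsurj
  have hkerI : RingHom.ker (algebraMap Γ(Y, V₁) Γ(Z, i ⁻¹ᵁ V₁)) =
      Ideal.span (Set.range rs.get) := by
    rw [Groth.Agent.H79.RegKindRel.range_get_eq]
    show RingHom.ker (i.appLE V₁ (i ⁻¹ᵁ V₁) e0).hom = Ideal.ofList rs
    rw [happ]; exact hker
  have hgI : ∀ k, rs.get k ∈ RingHom.ker (algebraMap Γ(Y, V₁) Γ(Z, i ⁻¹ᵁ V₁)) := by
    intro k; rw [hkerI]; exact Ideal.subset_span ⟨k, rfl⟩
  let q : Fin rs.length → Γ(Omega.conormal i, i ⁻¹ᵁ V₁) := fun k =>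
    Θ.symm (Ideal.toCotangent _ ⟨rs.get k, hgI k⟩)
  have hΘq : ∀ k, Θ (q k) = Ideal.toCotangent _ ⟨rs.get k, hgI k⟩ :=
    fun k => Θ.apply_symm_apply _
  have hmemsum : ∀ b : Fin rs.length → Γ(Y, V₁), ∑ k, b k * rs.get k ∈
      RingHom.ker (algebraMap Γ(Y, V₁) Γ(Z, i ⁻¹ᵁ V₁)) :=
    fun b => Ideal.sum_mem _ fun k _ => Ideal.mul_mem_left _ _ (hgI k)
  have hsum : ∀ b : Fin rs.length → Γ(Y, V₁),
      Θ (∑ k, algebraMap Γ(Y, V₁) Γ(Z, i ⁻¹ᵁ V₁) (b k) • q k) =
        Ideal.toCotangent _ ⟨∑ k, b k * rs.get k, hmemsum b⟩ := by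
    intro b
    rw [map_sum]
    have h1 : ∀ k, Θ (algebraMap Γ(Y, V₁) Γ(Z, i ⁻¹ᵁ V₁) (b k) • q k) =
        Ideal.toCotangent _ (b k • (⟨rs.get k, hgI k⟩ :
          RingHom.ker (algebraMap Γ(Y, V₁) Γ(Z, i ⁻¹ᵁ V₁)))) := by
      intro k
      rw [hΘsmul, hΘq, map_smul]
    rw [Finset.sum_congr rfl (fun k _ => h1 k), ← map_sum]
    congr 1
    apply Subtype.ext
    rw [Submodule.coe_sum]
    rfl
  have hli : LinearIndependent Γ(Z, i ⁻¹ᵁ V₁) q := by
    rw [Fintype.linearIndependent_iff]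
    intro c hc k
    choose b hb using fun k => hsurj' (c k)
    have h2 : Θ (∑ k, algebraMap Γ(Y, V₁) Γ(Z, i ⁻¹ᵁ V₁) (b k) • q k) = 0 := by
      simp_rw [hb]
      rw [hc, map_zero]
    rw [hsum, Ideal.toCotangent_eq_zero] at h2
    have h2' : ∑ k, b k * rs.get k ∈ Ideal.span (Set.range rs.get) ^ 2 := by
      rw [← hkerI]; exact h2
    have h3 := coeff_mem_of_sum_mem_sq rs.get hrs b h2' k
    rw [← hkerI, RingHom.mem_ker, hb] at h3
    exact h3
  have hsp : ⊤ ≤ Submodule.span Γ(Z, i ⁻¹ᵁ V₁) (Set.range q) := by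
    intro q' _
    obtain ⟨x, hx⟩ := Ideal.toCotangent_surjective _ (Θ q')
    have hx1 : (x : Γ(Y, V₁)) ∈ Ideal.span (Set.range rs.get) := by rw [← hkerI]; exact x.2
    obtain ⟨b, hb⟩ := (Ideal.mem_span_range_iff_exists_fun).mp hx1
    have h4 : q' = ∑ k, algebraMap Γ(Y, V₁) Γ(Z, i ⁻¹ᵁ V₁) (b k) • q k := by
      apply Θ.injective
      rw [hsum, ← hx]
      congr 1
      exact Subtype.ext hb.symm
    rw [h4]
    exact Submodule.sum_mem _ fun k _ => Submodule.smul_mem _ _ (Submodule.subset_span ⟨k, rfl⟩)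
  let bas := Module.Basis.mk hli hsp
  exact ⟨Module.Finite.of_basis bas, Module.Free.of_basis bas⟩

end Sections

section Global

variable {Z Y : Scheme.{u}} (i : Z ⟶ Y) [IsImmersion i] [QuasiCompact i]

omit [QuasiCompact i] in
/-- Around every point, an `H₁`-regular immersion has a small affine with regular data. -/
lemma exists_small_h1 (hi : ∀ z, RegImm.IsRegularImmersionAt RegImm.Kind.h1 i z) (z : Z) :
    ∃ V₁ : Y.Opens, IsAffineOpen V₁ ∧ i z ∈ V₁ ∧ V₁ ≤ i.coborderRange ∧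
      ∃ rs : List Γ(Y, V₁), CAlgX.IsH1Regular rs.get ∧
        RingHom.ker (i.app V₁).hom = Ideal.ofList rs := by
  obtain ⟨U', hzU', hcl, rs, hrs, hker⟩ := hi z
  have hiz : i z ∈ i.coborderRange := by
    have h1 : i.coborderRange.ι (i.liftCoborder z) = i z := by
      rw [← Scheme.Hom.comp_apply i.liftCoborder, i.liftCoborder_ι]
    rw [← h1]
    exact (i.liftCoborder z).2
  have hmem : i z ∈ U'.1 ⊓ i.coborderRange := ⟨hzU', hiz⟩
  obtain ⟨V₁, hV₁, hzV₁, hle⟩ := (Opens.isBasis_iff_nbhd.mp Y.isBasis_affineOpens) hmem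
  obtain ⟨-, rs₁, hrs₁, hker₁⟩ := Groth.Agent.H79.RegImmRel.regImm_data_restrict i
    RegImm.Kind.h1 U'.2 hV₁ (hle.trans inf_le_left) hcl rs hrs hker z hzV₁
  exact ⟨V₁, hV₁, hzV₁, hle.trans inf_le_right, rs₁, hrs₁, hker₁⟩

/-- The conormal sheaf of a quasi-compact `H₁`-regular immersion is finite locally free. -/
theorem isFinLocFree_conormal_of_h1 (hi : ∀ z, RegImm.IsRegularImmersionAt RegImm.Kind.h1 i z) :
    FlatMod.IsFinLocFree (Omega.conormal i) := by
  haveI : (ClSub.idealMod i.ker).IsQuasicoherent :=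
    inferInstanceAs (kernel (ClSub.toSubscheme i.ker)).IsQuasicoherent
  haveI : (Omega.conormal i).IsQuasicoherent :=
    Groth.Agent.H8.isQuasicoherent_pullback i (ClSub.idealMod i.ker)
  apply Groth.Agent.H8.isFinLocFree_of_projective_sections
  intro z
  obtain ⟨V₁, hV₁, hzV₁, hle, rs, hrs, hker⟩ := exists_small_h1 i hi z
  obtain ⟨hW, hsurj⟩ := coborder_affine' i hV₁ hle
  obtain ⟨hfin, hfree⟩ := finite_free_conormal_sections i hV₁ hW hsurj rs hrs hker
  exact ⟨i ⁻¹ᵁ V₁, hW, hzV₁, hfin, inferInstance⟩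

end Global

end Groth.Agent.H39.ConormalFree
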