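import Groth.Agent.H39.DiffCompatLocal
import Groth.Agent.H22.SerreAffine
import Groth.Agent.H18.Serre.Generation

/-!
# Conormal sheaves and differentials: local computations

Toolkit for the conormal sequences of an immersion:
* `pullback_hom_ext`: maps out of a pullback module are determined on pulled-back sections;
* sections of the ideal module `ClSub.idealMod I` over affine opens;
* `exact_of_exact_affine_cover`: exactness of a complex of quasi-coherent modules from exactness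
  of sections over an affine open cover;
* `coborder` affine cover adapted to a quasi-compact immersion;
* `local_exact`: the sequence `C_{X/Y} → j^*Ω_{Y/Z} → Ω_{X/Z} → 0` on sections.
-/

set_option autoImplicit false
set_option linter.style.haveILetI false
universe u
open CategoryTheory CategoryTheory.Limits AlgebraicGeometry Opposite OmegaSh TopologicalSpace
open scoped TensorProduct

namespace Groth.Agent.H39.ConormalLocal

open Groth.Agent.H39 Groth.Agent.H8

/-- Maps out of a pullback module are determined by their values on pulled-back sections. -/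
lemma pullback_hom_ext {X' X : Scheme.{u}} (h : X' ⟶ X) {M : X.Modules} {G : X'.Modules}
    (c c' : (Scheme.Modules.pullback h).obj M ⟶ G)
    (hcc : ∀ (U : X.Opens) (x : Γ(M, U)),
      c.app (h ⁻¹ᵁ U) (pullSect h M U x) = c'.app (h ⁻¹ᵁ U) (pullSect h M U x)) : c = c' := by
  apply ((Scheme.Modules.pullbackPushforwardAdjunction h).homEquiv M G).injective
  apply Scheme.Modules.hom_ext
  intro U
  ext x
  rw [DerKit.homEquiv_app, DerKit.homEquiv_app, hcc]

section Ideal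

variable {S : Scheme.{u}} (𝓘 : S.IdealSheafData)

lemma ι_injective (V : S.Opens) : Function.Injective ((ClSub.idealModι 𝓘).app V) := by
  haveI : Mono (ClSub.idealModι 𝓘) := inferInstanceAs (Mono (kernel.ι (ClSub.toSubscheme 𝓘)))
  exact app_injective_of_mono _ V

/-- A section of the ideal module restricts to zero on the closed subscheme (any open). -/
lemma subschemeι_app_idealSect (V : S.Opens) (t : Γ(ClSub.idealMod 𝓘, V)) :
    (𝓘.subschemeι.app V).hom (idealSect 𝓘 V t) = 0 :=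
  app_comp_eq_zero (ShortComplex.mk (kernel.ι (ClSub.toSubscheme 𝓘))
    (ClSub.toSubscheme 𝓘) (kernel.condition _)) V t

lemma idealSect_mem_ideal (U : S.affineOpens) (t : Γ(ClSub.idealMod 𝓘, U.1)) :
    idealSect 𝓘 U.1 t ∈ 𝓘.ideal U := by
  rw [← Scheme.IdealSheafData.ker_subschemeι_app, RingHom.mem_ker]
  exact subschemeι_app_idealSect 𝓘 U.1 t

lemma exists_idealSect_eq (U : S.affineOpens) (a : Γ(S, U.1)) (ha : a ∈ 𝓘.ideal U) :
    ∃ t : Γ(ClSub.idealMod 𝓘, U.1), idealSect 𝓘 U.1 t = a := by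
  let SC : ShortComplex S.Modules := ShortComplex.mk (kernel.ι (ClSub.toSubscheme 𝓘))
    (ClSub.toSubscheme 𝓘) (kernel.condition _)
  have hS : SC.Exact := ShortComplex.exact_of_f_is_kernel SC (kernelIsKernel _)
  haveI : Mono SC.f := inferInstanceAs (Mono (kernel.ι (ClSub.toSubscheme 𝓘)))
  refine exists_app_eq_of_exact SC hS U.1 _ ?_
  rw [← Scheme.IdealSheafData.ker_subschemeι_app, RingHom.mem_ker] at ha
  exact ha

end Ideal

/-- A section of the kernel ideal of `j` pulls back to zero along `j` (any open). -/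
lemma app_idealSect {X Y : Scheme.{u}} (j : X ⟶ Y) (U : Y.Opens)
    (s : Γ(ClSub.idealMod j.ker, U)) : (j.app U).hom (idealSect j.ker U s) = 0 := by
  have h0 := subschemeι_app_idealSect j.ker U s
  have h1 := Scheme.Hom.congr_app j.toImage_imageι.symm U
  rw [Scheme.Hom.comp_app] at h1
  have h2 := congr($h1 (idealSect j.ker U s))
  refine h2.trans ?_
  show (X.presheaf.map _).hom ((j.toImage.app _).hom ((j.ker.subschemeι.app U).hom _)) = 0
  rw [h0, map_zero, map_zero]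

/-- A complex of quasi-coherent modules is exact as soon as it is exact on sections over the
members of an affine open cover. -/
theorem exact_of_exact_affine_cover {X : Scheme.{u}} (S : ShortComplex X.Modules)
    [S.X₂.IsQuasicoherent] [S.X₃.IsQuasicoherent]
    {ι : Type*} (U : ι → X.Opens) (hU : IsOpenCover U) (hU' : ∀ i, IsAffineOpen (U i))
    (h : ∀ (i : ι) (t : Γ(S.X₂, U i)), S.g.app (U i) t = 0 → ∃ s, S.f.app (U i) s = t) :
    S.Exact := by
  rw [ShortComplex.exact_iff_epi_kernel_lift]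
  haveI : (kernel S.g).IsQuasicoherent := Groth.Agent.H22.QCohLimits.isQuasicoherent_kernel S.g
  refine Groth.Agent.H18.Serre.epi_of_surjective_affine_cover _ U hU hU' (fun i k => ?_)
  have hk : S.g.app (U i) ((kernel.ι S.g).app (U i) k) = 0 :=
    congrArg (fun φ : kernel S.g ⟶ S.X₃ => φ.app (U i) k) (kernel.condition S.g)
  obtain ⟨s, hs⟩ := h i _ hk
  refine ⟨s, ?_⟩
  apply app_injective_of_mono (kernel.ι S.g) (U i)
  have e : (kernel.ι S.g).app (U i) ((kernel.lift S.g S.f S.zero).app (U i) s) =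
      S.f.app (U i) s :=
    congrArg (fun φ : S.X₁ ⟶ S.X₂ => φ.app (U i) s) (kernel.lift_ι S.g S.f S.zero)
  rw [e, hs]

section Coborder

variable {X Y : Scheme.{u}} (j : X ⟶ Y) [IsImmersion j]

/-- For an affine open `V'` of the coborder range of an immersion `j`, the image open of `Y` is
affine, has affine preimage in `X`, and `j` is surjective on its sections. -/
theorem coborder_affine {V' : j.coborderRange.toScheme.Opens} (hV' : IsAffineOpen V') :
    IsAffineOpen (j.coborderRange.ι ''ᵁ V') ∧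
      IsAffineOpen (j ⁻¹ᵁ j.coborderRange.ι ''ᵁ V') ∧
      Function.Surjective (j.app (j.coborderRange.ι ''ᵁ V')) := by
  refine ⟨hV'.image_of_isOpenImmersion _, ?_, ?_⟩
  · rw [← Scheme.Hom.liftCoborder_preimage]
    exact hV'.preimage j.liftCoborder
  · have h1 := liftCoborder_app (f := j) V'
    have h2 : Function.Surjective (j.liftCoborder.app V') :=
      Scheme.Hom.app_surjective j.liftCoborder V' hV'
    rw [h1] at h2
    intro y
    obtain ⟨x, hx⟩ := h2 (X.presheaf.map (eqToHom (j.liftCoborder_preimage V')).op y)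
    refine ⟨x, ?_⟩
    have hinj : Function.Injective
        (X.presheaf.map (eqToHom (j.liftCoborder_preimage V')).op) :=
      (ConcreteCategory.bijective_of_isIso _).1
    exact hinj hx

/-- Index type of the cover of the source of an immersion by small affines. -/
structure Idx {Z : Scheme.{u}} (f : Y ⟶ Z) : Type u where
  U : Z.Opens
  V' : j.coborderRange.toScheme.Opens
  hU : IsAffineOpen U
  hV' : IsAffineOpen V'
  e₁ : j.coborderRange.ι ''ᵁ V' ≤ f ⁻¹ᵁ U

theorem isOpenCover_idx {Z : Scheme.{u}} (f : Y ⟶ Z) :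
    IsOpenCover (fun i : Idx j f => j ⁻¹ᵁ j.coborderRange.ι ''ᵁ i.V') := by
  rw [IsOpenCover, eq_top_iff]
  intro x _
  obtain ⟨U, hU, hxU, -⟩ := (Opens.isBasis_iff_nbhd.mp Z.isBasis_affineOpens)
    (Opens.mem_top (f (j x)))
  have hx1 : j.liftCoborder x ∈ j.coborderRange.ι ⁻¹ᵁ (f ⁻¹ᵁ U) := by
    show f (j.coborderRange.ι (j.liftCoborder x)) ∈ U
    rw [← Scheme.Hom.comp_apply j.liftCoborder, j.liftCoborder_ι]
    exact hxU
  obtain ⟨V', hV', hxV', hle⟩ :=
    (Opens.isBasis_iff_nbhd.mp j.coborderRange.toScheme.isBasis_affineOpens) hx1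
  refine Opens.mem_iSup.mpr ⟨⟨U, V', hU, hV',
    (j.coborderRange.ι.image_mono hle).trans (j.coborderRange.ι.image_preimage_le _)⟩, ?_⟩
  show x ∈ j ⁻¹ᵁ j.coborderRange.ι ''ᵁ V'
  rw [← Scheme.Hom.liftCoborder_preimage]
  exact hxV'

end Coborder

section LocalExact

variable {X Y Z : Scheme.{u}} (f : Y ⟶ Z) (j : X ⟶ Y) [QuasiCompact j]
  {ΩY : Y.Modules} {dY : Der f ΩY} (hY : IsUniversal dY)
  {ΩX : X.Modules} {dX : Der (j ≫ f) ΩX} (hX : IsUniversal dX)
  {φ : Omega.conormal j ⟶ (Scheme.Modules.pullback j).obj ΩY} (hφ : IsConormalDiff j dY φ)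
  {c : (Scheme.Modules.pullback j).obj ΩY ⟶ ΩX} (hc : IsDiffCompat j dY dX c)

include hφ hc in
/-- The composite `C_{X/Y} → j^*Ω_{Y/Z} → Ω_{X/Z}` vanishes. -/
theorem conormalDiff_comp : φ ≫ c = 0 := by
  apply pullback_hom_ext j
  intro U s
  show c.app _ (φ.app _ (conormalSect j U s)) = (0 : Omega.conormal j ⟶ ΩX).app _ _
  rw [hφ U s, hc U]
  have h0 : j.app U (idealSect j.ker U s) = 0 := app_idealSect j U s
  rw [h0, map_zero]
  rfl

include hY hX hφ hc in
set_option maxHeartbeats 1000000 in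
/-- On a small affine `j⁻¹V₁` on which `j` is a closed immersion, the sequence
`C_{X/Y} → j^*Ω_{Y/Z} → Ω_{X/Z} → 0` is exact on sections. -/
theorem local_exact {U : Z.Opens} (hU : IsAffineOpen U) {V₁ : Y.Opens} (hV₁ : IsAffineOpen V₁)
    (e₁ : V₁ ≤ f ⁻¹ᵁ U) (hW : IsAffineOpen (j ⁻¹ᵁ V₁))
    (hsurj : Function.Surjective (j.app V₁)) :
    Function.Surjective (c.app (j ⁻¹ᵁ V₁)) ∧
      ∀ q, c.app (j ⁻¹ᵁ V₁) q = 0 →
        ∃ s : Γ(ClSub.idealMod j.ker, V₁), φ.app (j ⁻¹ᵁ V₁) (conormalSect j V₁ s) = q := by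
  have e₂ : j ⁻¹ᵁ V₁ ≤ (j ≫ f) ⁻¹ᵁ U := fun x hx => e₁ hx
  have e : j ⁻¹ᵁ V₁ ≤ j ⁻¹ᵁ V₁ := le_rfl
  letI a1 : Algebra Γ(Z, U) Γ(Y, V₁) := (f.appLE U V₁ e₁).hom.toAlgebra
  letI a2 : Algebra Γ(Z, U) Γ(X, j ⁻¹ᵁ V₁) := ((j ≫ f).appLE U (j ⁻¹ᵁ V₁) e₂).hom.toAlgebra
  letI a3 : Algebra Γ(Y, V₁) Γ(X, j ⁻¹ᵁ V₁) := (j.appLE V₁ (j ⁻¹ᵁ V₁) e).hom.toAlgebra
  haveI : IsScalarTower Γ(Z, U) Γ(Y, V₁) Γ(X, j ⁻¹ᵁ V₁) :=
    IsScalarTower.of_algebraMap_eq' (congrArg CommRingCat.Hom.hom
      (Scheme.Hom.appLE_comp_appLE j f U V₁ (j ⁻¹ᵁ V₁) e₁ e).symm)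
  have happ : j.appLE V₁ (j ⁻¹ᵁ V₁) e = j.app V₁ := (Scheme.Hom.app_eq_appLE j).symm
  have hsurj' : Function.Surjective (algebraMap Γ(Y, V₁) Γ(X, j ⁻¹ᵁ V₁)) := by
    show Function.Surjective (j.appLE V₁ (j ⁻¹ᵁ V₁) e).hom
    rw [happ]; exact hsurj
  obtain ⟨Ψ, ψ', hΨ, hψ', hfac⟩ := DiffCompatLocal.exists_tracking f (j ≫ f) j hY hX hc hU hV₁ e₁
    hU hW e₂ e (KaehlerDifferential.mapBaseChange Γ(Z, U) Γ(Y, V₁) Γ(X, j ⁻¹ᵁ V₁)) (fun s => by
      rw [KaehlerDifferential.mapBaseChange_tmul, one_smul, KaehlerDifferential.map_D]; rfl)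
  constructor
  · intro t
    obtain ⟨z, hz⟩ := KaehlerDifferential.mapBaseChange_surjective Γ(Z, U) Γ(Y, V₁)
      Γ(X, j ⁻¹ᵁ V₁) hsurj' (ψ' t)
    refine ⟨Ψ.symm z, ?_⟩
    apply ψ'.injective
    rw [hfac, LinearEquiv.apply_symm_apply, hz]
  · intro q hq
    have h1 : KaehlerDifferential.mapBaseChange Γ(Z, U) Γ(Y, V₁) Γ(X, j ⁻¹ᵁ V₁) (Ψ q) = 0 := by
      rw [← hfac, hq, map_zero]
    obtain ⟨k, hk⟩ := (KaehlerDifferential.exact_kerCotangentToTensor_mapBaseChange Γ(Z, U)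
      Γ(Y, V₁) Γ(X, j ⁻¹ᵁ V₁) hsurj' (Ψ q)).mp h1
    obtain ⟨x, rfl⟩ := Ideal.toCotangent_surjective _ k
    rw [KaehlerDifferential.kerCotangentToTensor_toCotangent] at hk
    have hxk : (x.1 : Γ(Y, V₁)) ∈ j.ker.ideal ⟨V₁, hV₁⟩ := by
      rw [Scheme.Hom.ker_apply, ← happ]
      exact x.2
    obtain ⟨s, hs⟩ := exists_idealSect_eq j.ker ⟨V₁, hV₁⟩ x.1 hxk
    refine ⟨s, ?_⟩
    rw [hφ V₁ s]
    apply Ψ.injective
    rw [← hk, hs, ← PullTrack.pullSectLE_self, hΨ]

end LocalExact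

end Groth.Agent.H39.ConormalLocal
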