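import Mathlib.RingTheory.Kaehler.Basic
import Mathlib.RingTheory.Ideal.Cotangent
import Mathlib.LinearAlgebra.TensorProduct.Quotient
import Mathlib.Tactic.LinearCombination
import Mathlib.Tactic.Ring

/-!
# The kernel of `I/I² → B̄ ⊗ Ω[B⁄C]` when `C → B̄` is surjective

For ring maps `C → B → B̄` with `B → B̄` and `C → B̄` surjective (kernels `I`, `J`), an element `x ∈ I`
with `1 ⊗ d x = 0` lies in `I² + J B`.
-/

set_option autoImplicit false
universe u
open scoped TensorProduct
open KaehlerDifferential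

namespace Groth.Agent.H39.CotangentSeq

variable {C B B' : Type u} [CommRing C] [CommRing B] [CommRing B'] [Algebra C B] [Algebra B B']
  [Algebra C B'] [IsScalarTower C B B']

/-- `1 ⊗ ω = 0` in `B' ⊗[B] M` iff `ω ∈ I M`, for `B → B'` surjective with kernel `I`. -/
theorem mem_smul_top_of_one_tmul_eq_zero (hB : Function.Surjective (algebraMap B B'))
    {M : Type u} [AddCommGroup M] [Module B M] (m : M) (h : (1 : B') ⊗ₜ[B] m = 0) :
    m ∈ (RingHom.ker (algebraMap B B')) • (⊤ : Submodule B M) := by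
  let f : B →ₐ[B] B' := Algebra.ofId B B'
  have hf : Function.Surjective f := hB
  let e₃ : B' ≃ₗ[B] B ⧸ RingHom.ker (algebraMap B B') :=
    (Ideal.quotientKerAlgEquivOfSurjective hf).symm.toLinearEquiv
  have he₃ : e₃ 1 = 1 := map_one (Ideal.quotientKerAlgEquivOfSurjective hf).symm
  let e := (TensorProduct.congr e₃ (LinearEquiv.refl B M)).trans
    (TensorProduct.quotTensorEquivQuotSMul M (RingHom.ker (algebraMap B B')))
  have h1 : e ((1 : B') ⊗ₜ[B] m) = Submodule.Quotient.mk m := by
    show TensorProduct.quotTensorEquivQuotSMul M _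
      (TensorProduct.congr e₃ (LinearEquiv.refl B M) ((1 : B') ⊗ₜ[B] m)) = _
    rw [TensorProduct.congr_tmul, he₃, LinearEquiv.refl_apply,
      TensorProduct.quotTensorEquivQuotSMul_mk_one_tmul]
  rw [h, map_zero] at h1
  exact (Submodule.Quotient.mk_eq_zero _).mp h1.symm

set_option maxHeartbeats 1000000 in
theorem mem_sup_of_one_tmul_D_eq_zero (hB : Function.Surjective (algebraMap B B'))
    (hC : Function.Surjective (algebraMap C B')) (x : B)
    (hx : x ∈ RingHom.ker (algebraMap B B'))
    (hD : (1 : B') ⊗ₜ[B] D C B x = 0) :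
    x ∈ (RingHom.ker (algebraMap B B')) ^ 2 ⊔
      Ideal.map (algebraMap C B) (RingHom.ker (algebraMap C B')) := by
  set I := RingHom.ker (algebraMap B B') with hI
  set J := RingHom.ker (algebraMap C B') with hJ
  set K := I ^ 2 ⊔ Ideal.map (algebraMap C B) J with hK
  let mk : B →+* B ⧸ K := Ideal.Quotient.mk K
  have hker : J ≤ RingHom.ker (mk.comp (algebraMap C B)) := by
    intro c hc
    rw [RingHom.mem_ker, RingHom.comp_apply, Ideal.Quotient.eq_zero_iff_mem]
    exact le_sup_right (α := Ideal B) (Ideal.mem_map_of_mem _ hc)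
  let τ : B' →+* B ⧸ K := RingHom.liftOfSurjective (algebraMap C B') hC ⟨mk.comp (algebraMap C B), hker⟩
  have hτ : ∀ c : C, τ (algebraMap C B' c) = mk (algebraMap C B c) := fun c =>
    RingHom.liftOfRightInverse_comp_apply _ _ _ _ c
  -- (F)
  have hF : ∀ b : B, ∃ u ∈ I, mk b - τ (algebraMap B B' b) = mk u := by
    intro b
    obtain ⟨c, hc⟩ := hC (algebraMap B B' b)
    refine ⟨b - algebraMap C B c, ?_, ?_⟩
    · rw [hI, RingHom.mem_ker, map_sub, ← IsScalarTower.algebraMap_apply, hc, sub_self]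
    · rw [← hc, hτ, map_sub]
  -- (G)
  have hG : ∀ u ∈ I, ∀ v ∈ I, mk u * mk v = 0 := by
    intro u hu v hv
    rw [← map_mul, Ideal.Quotient.eq_zero_iff_mem]
    exact le_sup_left (α := Ideal B) (by rw [pow_two]; exact Ideal.mul_mem_mul hu hv)
  let δ₀ : B →ₗ[C] B ⧸ K :=
    { toFun := fun b => mk b - τ (algebraMap B B' b)
      map_add' := fun a b => by simp only [map_add]; ring
      map_smul' := fun c b => by
        simp only [RingHom.id_apply]
        rw [Algebra.smul_def, map_mul, map_mul, map_mul, ← IsScalarTower.algebraMap_apply, hτ,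
          Algebra.smul_def, IsScalarTower.algebraMap_apply C B (B ⧸ K), mul_sub]
        rfl }
  have hδ₀ : ∀ b, δ₀ b = mk b - τ (algebraMap B B' b) := fun b => rfl
  have hleib : ∀ a b : B, δ₀ (a * b) = a • δ₀ b + b • δ₀ a := by
    intro a b
    obtain ⟨u, hu, hu'⟩ := hF a
    obtain ⟨v, hv, hv'⟩ := hF b
    have h0 := hG u hu v hv
    rw [← hu', ← hv'] at h0
    rw [hδ₀, hδ₀, hδ₀, Algebra.smul_def, Algebra.smul_def, map_mul, map_mul, map_mul]
    have e1 : algebraMap B (B ⧸ K) a = mk a := rfl
    have e2 : algebraMap B (B ⧸ K) b = mk b := rfl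
    rw [e1, e2]
    linear_combination (-1 : B ⧸ K) * h0
  let δ : Derivation C B (B ⧸ K) := Derivation.mk' δ₀ hleib
  let L : Ω[B⁄C] →ₗ[B] B ⧸ K := δ.liftKaehlerDifferential
  have hL : ∀ b, L (D C B b) = mk b - τ (algebraMap B B' b) := fun b =>
    Derivation.liftKaehlerDifferential_comp_D δ b
  -- range of L in the image of I
  have hrange : ∀ ω : Ω[B⁄C], L ω ∈ Ideal.map mk I := by
    intro ω
    have hm : ω ∈ Submodule.span B (Set.range (D C B)) := by
      rw [KaehlerDifferential.span_range_derivation]; trivial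
    induction hm using Submodule.span_induction with
    | mem y hy =>
      obtain ⟨b, rfl⟩ := hy
      obtain ⟨u, hu, hu'⟩ := hF b
      rw [hL, hu']
      exact Ideal.mem_map_of_mem _ hu
    | zero => rw [map_zero]; exact Ideal.zero_mem _
    | add y z _ _ hy hz => rw [map_add]; exact Ideal.add_mem _ hy hz
    | smul b y _ hy =>
      rw [map_smul, Algebra.smul_def]
      exact Ideal.mul_mem_left _ _ hy
  have hsq : ∀ p ∈ Ideal.map mk I, ∀ q ∈ Ideal.map mk I, p * q = 0 := by
    intro p hp q hq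
    have h1 : p * q ∈ Ideal.map mk I * Ideal.map mk I := Ideal.mul_mem_mul hp hq
    rw [← Ideal.map_mul, ← pow_two] at h1
    have h2 : Ideal.map mk (I ^ 2) ≤ ⊥ := by
      rw [Ideal.map_le_iff_le_comap]
      intro y hy
      rw [Ideal.mem_comap, Ideal.mem_bot, Ideal.Quotient.eq_zero_iff_mem]
      exact le_sup_left (α := Ideal B) hy
    exact (Ideal.mem_bot).mp (h2 h1)
  have hDx := mem_smul_top_of_one_tmul_eq_zero hB (D C B x) hD
  have hLx : L (D C B x) = 0 := by
    refine Submodule.smul_induction_on (p := fun ω => L ω = 0) hDx (fun r hr n _ => ?_)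
      (fun y z hy hz => ?_)
    · show L (r • n) = 0
      rw [map_smul, Algebra.smul_def]
      exact hsq _ (Ideal.mem_map_of_mem _ hr) _ (hrange n)
    · show L (y + z) = 0
      rw [map_add, hy, hz, add_zero]
  rw [hL, (RingHom.mem_ker).mp hx, map_zero, sub_zero] at hLx
  exact Ideal.Quotient.eq_zero_iff_mem.mp hLx

end Groth.Agent.H39.CotangentSeq
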