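import Groth.Agent.H39.ConormalSplit
import Groth.Agent.H39.CotangentSeq

/-!
# Canonical maps of conormal sheaves on sections
-/

set_option autoImplicit false
set_option linter.style.haveILetI false
universe u
open CategoryTheory CategoryTheory.Limits AlgebraicGeometry Opposite OmegaSh TopologicalSpace
open scoped TensorProduct

namespace Groth.Agent.H39.ConormalMap

open Groth.Agent.H39 Groth.Agent.H8 Groth.Agent.H39.ConormalLocal Groth.Agent.H39.ConormalSect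
  Groth.Agent.H39.ConormalMono Groth.Agent.H39.ConormalSplit

/-- `idealSect` commutes with restriction. -/
lemma idealSect_res {S : Scheme.{u}} (𝓘 : S.IdealSheafData) {V W : S.Opens} (h : V ≤ W)
    (t : Γ(ClSub.idealMod 𝓘, W)) :
    idealSect 𝓘 V ((ClSub.idealMod 𝓘).presheaf.map (homOfLE h).op t) =
      S.presheaf.map (homOfLE h).op (idealSect 𝓘 W t) :=
  app_res (ClSub.idealModι 𝓘) h t

/-- `idealSect` is linear. -/
lemma idealSect_smul {S : Scheme.{u}} (𝓘 : S.IdealSheafData) (V : S.Opens) (r : Γ(S, V))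
    (t : Γ(ClSub.idealMod 𝓘, V)) : idealSect 𝓘 V (r • t) = r * idealSect 𝓘 V t :=
  Scheme.Modules.Hom.app_smul (ClSub.idealModι 𝓘) r t

/-- For a quasi-compact morphism, a function on any open which pulls back to zero is a section of
the kernel ideal module. -/
theorem exists_idealSect_eq_of_app_eq_zero {X Y : Scheme.{u}} (j : X ⟶ Y) [QuasiCompact j]
    (O : Y.Opens) (a : Γ(Y, O)) (ha : (j.app O).hom a = 0) :
    ∃ s : Γ(ClSub.idealMod j.ker, O), idealSect j.ker O s = a := by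
  let SC : ShortComplex Y.Modules := ShortComplex.mk (kernel.ι (ClSub.toSubscheme j.ker))
    (ClSub.toSubscheme j.ker) (kernel.condition _)
  have hS : SC.Exact := ShortComplex.exact_of_f_is_kernel SC (kernelIsKernel _)
  haveI : Mono SC.f := inferInstanceAs (Mono (kernel.ι (ClSub.toSubscheme j.ker)))
  refine exists_app_eq_of_exact SC hS O (strSect Y O a) ?_
  have hB : Opens.IsBasis (Set.range (fun V : Y.affineOpens => V.1)) := by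
    rw [Subtype.range_coe]; exact Y.isBasis_affineOpens
  apply DerAff.sect_ext_of_basis (ClSub.quotMod j.ker) hB O _ 0
  intro V hV
  rw [map_zero, ← app_res]
  have hmem : Y.presheaf.map (homOfLE hV).op a ∈ j.ker.ideal V := by
    rw [Scheme.Hom.ker_apply, RingHom.mem_ker]
    have h1 := congr($(j.naturality (homOfLE hV).op) a)
    refine h1.trans ?_
    show (X.presheaf.map _).hom ((j.app O).hom a) = 0
    rw [ha, map_zero]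
  rw [← Scheme.IdealSheafData.ker_subschemeι_app, RingHom.mem_ker] at hmem
  exact hmem

section Track

variable {Z X Y : Scheme.{u}} (p : X ⟶ Y) (i : Z ⟶ X) (j : Z ⟶ Y) [QuasiCompact i]
  (hij : i ≫ p = j)
  {ψ : (Scheme.Modules.pullback (𝟙 Z)).obj (Omega.conormal j) ⟶ Omega.conormal i}
  (hψ : IsConormalMap i j p (𝟙 Z) ψ)

include hij hψ in
/-- The canonical map `C_{Z/Y} → C_{Z/X}` on classes of sections of the ideal. -/
theorem conormalMap_track (V : Y.Opens) (s' : Γ(ClSub.idealMod j.ker, V)) (W : Z.Opens)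
    (h₁ : W ≤ (𝟙 Z : Z ⟶ Z) ⁻¹ᵁ (j ⁻¹ᵁ V)) (h₂ : W ≤ i ⁻¹ᵁ (p ⁻¹ᵁ V)) :
    ∃ s : Γ(ClSub.idealMod i.ker, p ⁻¹ᵁ V),
      idealSect i.ker (p ⁻¹ᵁ V) s = p.app V (idealSect j.ker V s') ∧
      ψ.app W (PullTrack.pullSectLE (𝟙 Z) (Omega.conormal j) (j ⁻¹ᵁ V) W h₁
        (conormalSect j V s')) =
      PullTrack.pullSectLE i (ClSub.idealMod i.ker) (p ⁻¹ᵁ V) W h₂ s := by
  have h0 : (i.app (p ⁻¹ᵁ V)).hom (p.app V (idealSect j.ker V s')) = 0 := by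
    have h1 : (i.app (p ⁻¹ᵁ V)).hom ((p.app V).hom (idealSect j.ker V s')) =
        ((i ≫ p).app V).hom (idealSect j.ker V s') := rfl
    rw [h1]
    have h2 := Scheme.Hom.congr_app hij V
    rw [h2]
    show (Z.presheaf.map _).hom ((j.app V).hom (idealSect j.ker V s')) = 0
    rw [app_idealSect j V s', map_zero]
  obtain ⟨s, hs⟩ := exists_idealSect_eq_of_app_eq_zero i (p ⁻¹ᵁ V) _ h0
  refine ⟨s, hs, ?_⟩
  have h3 := hψ.2 V s' s hs W h₁ h₂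
  rw [PullTrack.pullSectLE_apply, PullTrack.app_res]
  exact h3

end Track

section Cover

variable {Z X Y : Scheme.{u}} (p : X ⟶ Y) (i : Z ⟶ X) (j : Z ⟶ Y) [IsImmersion i]
  [IsImmersion j]

/-- Index type of the cover of `Z` by small affines adapted to `Z ⟶ X ⟶ Y`. -/
structure IdxC : Type u where
  V : Y.Opens
  V₁ : X.Opens
  hV : IsAffineOpen V
  hVle : V ≤ j.coborderRange
  hV₁ : IsAffineOpen V₁
  hV₁le : V₁ ≤ i.coborderRange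
  e : V₁ ≤ p ⁻¹ᵁ V
  hWeq : i ⁻¹ᵁ V₁ = j ⁻¹ᵁ V

variable (hij : i ≫ p = j)

include hij in
theorem isOpenCover_idxC : IsOpenCover (fun k : IdxC p i j => i ⁻¹ᵁ k.V₁) := by
  have hpt : ∀ z : Z, p (i z) = j z := fun z => by
    rw [← Scheme.Hom.comp_apply, hij]
  have hpre : ∀ O : Y.Opens, i ⁻¹ᵁ (p ⁻¹ᵁ O) = j ⁻¹ᵁ O := by
    intro O; ext z
    show p (i z) ∈ O ↔ j z ∈ O
    rw [hpt]
  rw [IsOpenCover, eq_top_iff]
  intro z _
  -- small affine of `Y` for `j`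
  have hz0 : j.liftCoborder z ∈ (⊤ : j.coborderRange.toScheme.Opens) := trivial
  obtain ⟨V'j, hV'j, hzV'j, -⟩ :=
    (Opens.isBasis_iff_nbhd.mp j.coborderRange.toScheme.isBasis_affineOpens) hz0
  obtain ⟨hV0, hW0, hsurj0⟩ := coborder_affine j hV'j
  have hzW0 : z ∈ j ⁻¹ᵁ j.coborderRange.ι ''ᵁ V'j := by
    rw [← Scheme.Hom.liftCoborder_preimage]; exact hzV'j
  -- small affine of `X` for `i`
  have hx1 : i.liftCoborder z ∈ i.coborderRange.ι ⁻¹ᵁ (p ⁻¹ᵁ j.coborderRange.ι ''ᵁ V'j) := by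
    show p (i.coborderRange.ι (i.liftCoborder z)) ∈ j.coborderRange.ι ''ᵁ V'j
    rw [← Scheme.Hom.comp_apply i.liftCoborder, i.liftCoborder_ι, hpt]
    exact hzW0
  obtain ⟨V'i, hV'i, hzV'i, hle⟩ :=
    (Opens.isBasis_iff_nbhd.mp i.coborderRange.toScheme.isBasis_affineOpens) hx1
  obtain ⟨hV10, hW10, -⟩ := coborder_affine i hV'i
  have e0 : i.coborderRange.ι ''ᵁ V'i ≤ p ⁻¹ᵁ j.coborderRange.ι ''ᵁ V'j :=
    (i.coborderRange.ι.image_mono hle).trans (i.coborderRange.ι.image_preimage_le _)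
  have hzW10 : z ∈ i ⁻¹ᵁ i.coborderRange.ι ''ᵁ V'i := by
    rw [← Scheme.Hom.liftCoborder_preimage]; exact hzV'i
  -- a basic open of `j⁻¹V` inside `i⁻¹V₁⁰`
  obtain ⟨t, htW, hzt⟩ := hW0.exists_basicOpen_le
    (V := i ⁻¹ᵁ i.coborderRange.ι ''ᵁ V'i) ⟨z, hzW10⟩ hzW0
  obtain ⟨c, rfl⟩ := hsurj0 t
  have hDc : Z.basicOpen ((j.app (j.coborderRange.ι ''ᵁ V'j)).hom c) =
      j ⁻¹ᵁ (Y.basicOpen c) := (Scheme.preimage_basicOpen j c).symm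
  rw [hDc] at htW hzt
  have hV1eq := Scheme.basicOpen_appLE p (i.coborderRange.ι ''ᵁ V'i)
    (j.coborderRange.ι ''ᵁ V'j) e0 c
  refine Opens.mem_iSup.mpr ⟨⟨Y.basicOpen c,
    X.basicOpen (p.appLE (j.coborderRange.ι ''ᵁ V'j) (i.coborderRange.ι ''ᵁ V'i) e0 c),
    hV0.basicOpen c, (Y.basicOpen_le c).trans (j.coborderRange.ι_image_le V'j),
    hV10.basicOpen _, ?_, ?_, ?_⟩, ?_⟩
  · rw [hV1eq]; exact inf_le_left.trans (i.coborderRange.ι_image_le V'i)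
  · rw [hV1eq]; exact inf_le_right
  · rw [hV1eq]
    show i ⁻¹ᵁ (i.coborderRange.ι ''ᵁ V'i) ⊓ i ⁻¹ᵁ (p ⁻¹ᵁ Y.basicOpen c) = _
    rw [hpre]
    exact inf_eq_right.mpr htW
  · show z ∈ i ⁻¹ᵁ X.basicOpen _
    rw [hV1eq]
    show z ∈ i ⁻¹ᵁ (i.coborderRange.ι ''ᵁ V'i) ⊓ i ⁻¹ᵁ (p ⁻¹ᵁ Y.basicOpen c)
    rw [hpre]
    exact ⟨hzW10, hzt⟩

end Cover

lemma appLE_surjective_of_eq {X Y : Scheme.{u}} (f : X ⟶ Y) (V : Y.Opens) (W : X.Opens)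
    (hW : W = f ⁻¹ᵁ V) (hle : W ≤ f ⁻¹ᵁ V) (h : Function.Surjective (f.app V)) :
    Function.Surjective (f.appLE V W hle) := by
  subst hW
  rwa [← Scheme.Hom.app_eq_appLE]

lemma ker_appLE_of_eq {X Y : Scheme.{u}} (f : X ⟶ Y) (V : Y.Opens) (W : X.Opens)
    (hW : W = f ⁻¹ᵁ V) (hle : W ≤ f ⁻¹ᵁ V) :
    RingHom.ker (f.appLE V W hle).hom = RingHom.ker (f.app V).hom := by
  subst hW
  rw [← Scheme.Hom.app_eq_appLE]

section LocalC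

variable {Z X Y : Scheme.{u}} (p : X ⟶ Y) (i : Z ⟶ X) (j : Z ⟶ Y) [QuasiCompact i]
  [QuasiCompact j] (hij : i ≫ p = j)
  {Ω : X.Modules} {d : Der p Ω} (hd : IsUniversal d)
  {ψ : (Scheme.Modules.pullback (𝟙 Z)).obj (Omega.conormal j) ⟶ Omega.conormal i}
  (hψ : IsConormalMap i j p (𝟙 Z) ψ)
  {φ : Omega.conormal i ⟶ (Scheme.Modules.pullback i).obj Ω} (hφ : IsConormalDiff i d φ)

include hij hd hψ hφ in
set_option maxHeartbeats 2000000 in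
/-- On a small affine, `C_{Z/Y} → C_{Z/X} → i^*Ω_{X/Y} → 0` is exact on sections. -/
theorem local_exact_conormal {V : Y.Opens} (hV : IsAffineOpen V) {V₁ : X.Opens}
    (hV₁ : IsAffineOpen V₁) (e : V₁ ≤ p ⁻¹ᵁ V) (hW : IsAffineOpen (i ⁻¹ᵁ V₁))
    (hsurj : Function.Surjective (i.app V₁)) (hWeq : i ⁻¹ᵁ V₁ = j ⁻¹ᵁ V)
    (hsurjj : Function.Surjective (j.app V)) :
    Function.Surjective (φ.app (i ⁻¹ᵁ V₁)) ∧
      ∀ q, φ.app (i ⁻¹ᵁ V₁) q = 0 → ∃ q', ψ.app (i ⁻¹ᵁ V₁) q' = q := by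
  subst hij
  have e₂ : i ⁻¹ᵁ V₁ ≤ (i ≫ p) ⁻¹ᵁ V := fun x hx => e hx
  have e0 : i ⁻¹ᵁ V₁ ≤ i ⁻¹ᵁ V₁ := le_rfl
  letI a1 : Algebra Γ(Y, V) Γ(X, V₁) := (p.appLE V V₁ e).hom.toAlgebra
  letI a2 : Algebra Γ(Y, V) Γ(Z, i ⁻¹ᵁ V₁) := ((i ≫ p).appLE V (i ⁻¹ᵁ V₁) e₂).hom.toAlgebra
  letI a3 : Algebra Γ(X, V₁) Γ(Z, i ⁻¹ᵁ V₁) := (i.appLE V₁ (i ⁻¹ᵁ V₁) e0).hom.toAlgebra
  haveI : IsScalarTower Γ(Y, V) Γ(X, V₁) Γ(Z, i ⁻¹ᵁ V₁) :=
    IsScalarTower.of_algebraMap_eq' (congrArg CommRingCat.Hom.hom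
      (Scheme.Hom.appLE_comp_appLE i p V V₁ (i ⁻¹ᵁ V₁) e e0).symm)
  have happ : i.appLE V₁ (i ⁻¹ᵁ V₁) e0 = i.app V₁ := (Scheme.Hom.app_eq_appLE i).symm
  have hsurj' : Function.Surjective (algebraMap Γ(X, V₁) Γ(Z, i ⁻¹ᵁ V₁)) := by
    show Function.Surjective (i.appLE V₁ (i ⁻¹ᵁ V₁) e0).hom
    rw [happ]; exact hsurj
  have hC : Function.Surjective (algebraMap Γ(Y, V) Γ(Z, i ⁻¹ᵁ V₁)) :=
    appLE_surjective_of_eq (i ≫ p) V (i ⁻¹ᵁ V₁) hWeq e₂ hsurjj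
  have hJ : RingHom.ker (algebraMap Γ(Y, V) Γ(Z, i ⁻¹ᵁ V₁)) = (i ≫ p).ker.ideal ⟨V, hV⟩ := by
    rw [Scheme.Hom.ker_apply]
    exact ker_appLE_of_eq (i ≫ p) V (i ⁻¹ᵁ V₁) hWeq e₂
  haveI : Ω.IsQuasicoherent := DerFin.isQuasicoherent_of_isUniversal p hd
  obtain ⟨ψK, hψK⟩ := DerFin.exists_linearEquiv_kaehler_track p hd hV hV₁ e
  obtain ⟨E, hE⟩ := PullTrack.exists_sectionsPullbackEquiv i Ω hV₁ hW e0
  obtain ⟨Θ, hΘ, hΘsmul⟩ := exists_conormal_equiv i hV₁ hW hsurj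
  let Ψ := E.trans (LinearEquiv.baseChange Γ(X, V₁) Γ(Z, i ⁻¹ᵁ V₁) Γ(Ω, V₁)
    Ω[Γ(X, V₁)⁄Γ(Y, V)] ψK)
  have hΨ : ∀ b : Γ(X, V₁), Ψ (pullSect i Ω V₁ (d.app V₁ b)) =
      (1 : Γ(Z, i ⁻¹ᵁ V₁)) ⊗ₜ[Γ(X, V₁)] KaehlerDifferential.D Γ(Y, V) Γ(X, V₁) b := by
    intro b
    show (LinearEquiv.baseChange Γ(X, V₁) Γ(Z, i ⁻¹ᵁ V₁) Γ(Ω, V₁) Ω[Γ(X, V₁)⁄Γ(Y, V)] ψK)
      (E (pullSect i Ω V₁ (d.app V₁ b))) = _
    rw [← PullTrack.pullSectLE_self, hE, LinearEquiv.baseChange_tmul, hψK]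
  have hker : ∀ s : Γ(ClSub.idealMod i.ker, V₁),
      idealSect i.ker V₁ s ∈ RingHom.ker (algebraMap Γ(X, V₁) Γ(Z, i ⁻¹ᵁ V₁)) := by
    intro s
    rw [RingHom.mem_ker]
    show (i.appLE V₁ (i ⁻¹ᵁ V₁) e0).hom _ = 0
    rw [happ]
    exact app_idealSect i V₁ s
  constructor
  · intro t
    haveI : Subsingleton Ω[Γ(Z, i ⁻¹ᵁ V₁)⁄Γ(Y, V)] :=
      KaehlerDifferential.subsingleton_of_surjective Γ(Y, V) Γ(Z, i ⁻¹ᵁ V₁) hC
    have h1 : KaehlerDifferential.mapBaseChange Γ(Y, V) Γ(X, V₁) Γ(Z, i ⁻¹ᵁ V₁) (Ψ t) = 0 :=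
      Subsingleton.elim _ _
    obtain ⟨k, hk⟩ := (KaehlerDifferential.exact_kerCotangentToTensor_mapBaseChange Γ(Y, V)
      Γ(X, V₁) Γ(Z, i ⁻¹ᵁ V₁) hsurj' (Ψ t)).mp h1
    obtain ⟨x, rfl⟩ := Ideal.toCotangent_surjective _ k
    rw [KaehlerDifferential.kerCotangentToTensor_toCotangent] at hk
    have hxk : (x.1 : Γ(X, V₁)) ∈ i.ker.ideal ⟨V₁, hV₁⟩ := by
      rw [Scheme.Hom.ker_apply, ← happ]
      exact x.2
    obtain ⟨s, hs⟩ := exists_idealSect_eq i.ker ⟨V₁, hV₁⟩ x.1 hxk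
    refine ⟨conormalSect i V₁ s, ?_⟩
    rw [hφ V₁ s]
    apply Ψ.injective
    rw [hs, hΨ, hk]
  · intro q hq
    obtain ⟨s₁, rfl⟩ := conormalSect_surjective i hV₁ hW hsurj q
    have hmem := hker s₁
    have h1 : (1 : Γ(Z, i ⁻¹ᵁ V₁)) ⊗ₜ[Γ(X, V₁)]
        KaehlerDifferential.D Γ(Y, V) Γ(X, V₁) (idealSect i.ker V₁ s₁) = 0 := by
      rw [← hΨ, ← hφ V₁ s₁, hq, map_zero]
    have h2 := CotangentSeq.mem_sup_of_one_tmul_D_eq_zero hsurj' hC _ hmem h1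
    let M₀ : Submodule Γ(X, V₁)
        (RingHom.ker (algebraMap Γ(X, V₁) Γ(Z, i ⁻¹ᵁ V₁))).Cotangent :=
      { carrier := {m | ∃ q', Θ (ψ.app (i ⁻¹ᵁ V₁) q') = m}
        add_mem' := by
          rintro _ _ ⟨q₁, rfl⟩ ⟨q₂, rfl⟩
          exact ⟨q₁ + q₂, by rw [map_add, map_add]⟩
        zero_mem' := ⟨0, by rw [map_zero, map_zero]⟩
        smul_mem' := by
          rintro b _ ⟨q', rfl⟩
          refine ⟨algebraMap Γ(X, V₁) Γ(Z, i ⁻¹ᵁ V₁) b • q', ?_⟩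
          rw [Scheme.Modules.Hom.app_smul ψ, hΘsmul] }
    have hgen : ∀ w ∈ Ideal.map (algebraMap Γ(Y, V) Γ(X, V₁))
        (RingHom.ker (algebraMap Γ(Y, V) Γ(Z, i ⁻¹ᵁ V₁))),
        ∃ hw : w ∈ RingHom.ker (algebraMap Γ(X, V₁) Γ(Z, i ⁻¹ᵁ V₁)),
          Ideal.toCotangent _ ⟨w, hw⟩ ∈ M₀ := by
      intro w hw
      induction hw using Submodule.span_induction with
      | mem w hw =>
        obtain ⟨c, hc, rfl⟩ := hw
        have hw' : algebraMap Γ(Y, V) Γ(X, V₁) c ∈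
            RingHom.ker (algebraMap Γ(X, V₁) Γ(Z, i ⁻¹ᵁ V₁)) := by
          rw [RingHom.mem_ker, ← IsScalarTower.algebraMap_apply]
          exact hc
        refine ⟨hw', ?_⟩
        have hc' : c ∈ (i ≫ p).ker.ideal ⟨V, hV⟩ := by rw [← hJ]; exact hc
        obtain ⟨s', hs'⟩ := exists_idealSect_eq (i ≫ p).ker ⟨V, hV⟩ c hc'
        have h₁ : i ⁻¹ᵁ V₁ ≤ (𝟙 Z : Z ⟶ Z) ⁻¹ᵁ ((i ≫ p) ⁻¹ᵁ V) := e₂
        have h₂ : i ⁻¹ᵁ V₁ ≤ i ⁻¹ᵁ (p ⁻¹ᵁ V) := e₂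
        obtain ⟨s, hs, hψs⟩ := conormalMap_track p i (i ≫ p) rfl hψ V s' (i ⁻¹ᵁ V₁) h₁ h₂
        have h3 : PullTrack.pullSectLE i (ClSub.idealMod i.ker) (p ⁻¹ᵁ V) (i ⁻¹ᵁ V₁) h₂ s =
            conormalSect i V₁ ((ClSub.idealMod i.ker).presheaf.map (homOfLE e).op s) := by
          have h4 := PullTrack.pullSectLE_res_source i (ClSub.idealMod i.ker) e (i ⁻¹ᵁ V₁) e0 s
          rw [PullTrack.pullSectLE_self] at h4
          exact h4.symm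
        show ∃ q', Θ (ψ.app (i ⁻¹ᵁ V₁) q') = _
        refine ⟨PullTrack.pullSectLE (𝟙 Z) (Omega.conormal (i ≫ p)) ((i ≫ p) ⁻¹ᵁ V) (i ⁻¹ᵁ V₁) h₁
            (conormalSect (i ≫ p) V s'), ?_⟩
        rw [hψs, h3]
        refine hΘ _ ⟨_, hw'⟩ ?_
        rw [idealSect_res, hs, hs']
        rfl
      | zero =>
        exact ⟨Ideal.zero_mem _, by
          have : (⟨0, Ideal.zero_mem _⟩ : RingHom.ker (algebraMap Γ(X, V₁) Γ(Z, i ⁻¹ᵁ V₁))) = 0 :=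
            rfl
          rw [this, map_zero]; exact M₀.zero_mem⟩
      | add a b _ _ ha hb =>
        obtain ⟨ha1, ha2⟩ := ha
        obtain ⟨hb1, hb2⟩ := hb
        refine ⟨Ideal.add_mem _ ha1 hb1, ?_⟩
        have : (⟨a + b, Ideal.add_mem _ ha1 hb1⟩ :
            RingHom.ker (algebraMap Γ(X, V₁) Γ(Z, i ⁻¹ᵁ V₁))) = ⟨a, ha1⟩ + ⟨b, hb1⟩ := rfl
        rw [this, map_add]
        exact M₀.add_mem ha2 hb2
      | smul r a _ ha =>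
        obtain ⟨ha1, ha2⟩ := ha
        refine ⟨Ideal.mul_mem_left _ _ ha1, ?_⟩
        have : (⟨r • a, Ideal.mul_mem_left _ _ ha1⟩ :
            RingHom.ker (algebraMap Γ(X, V₁) Γ(Z, i ⁻¹ᵁ V₁))) = r • ⟨a, ha1⟩ := rfl
        rw [this, map_smul]
        exact M₀.smul_mem r ha2
    obtain ⟨y, hy, w, hw, hyw⟩ := Submodule.mem_sup.mp h2
    obtain ⟨hw1, hw2⟩ := hgen w hw
    have hy1 : y ∈ RingHom.ker (algebraMap Γ(X, V₁) Γ(Z, i ⁻¹ᵁ V₁)) :=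
      Ideal.pow_le_self two_ne_zero hy
    have hsum : Ideal.toCotangent _ (⟨idealSect i.ker V₁ s₁, hmem⟩ :
        RingHom.ker (algebraMap Γ(X, V₁) Γ(Z, i ⁻¹ᵁ V₁))) ∈ M₀ := by
      have h4 : (⟨idealSect i.ker V₁ s₁, hmem⟩ :
          RingHom.ker (algebraMap Γ(X, V₁) Γ(Z, i ⁻¹ᵁ V₁))) = ⟨y, hy1⟩ + ⟨w, hw1⟩ :=
        Subtype.ext hyw.symm
      rw [h4, map_add, (Ideal.toCotangent_eq_zero _ ⟨y, hy1⟩).mpr hy, zero_add]
      exact hw2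
    obtain ⟨q', hq'⟩ := hsum
    refine ⟨q', Θ.injective ?_⟩
    rw [hq', hΘ s₁ ⟨_, hmem⟩ rfl]

end LocalC

/-- Maps out of an iterated pullback are determined on twice pulled-back sections. -/
lemma pullback_pullback_hom_ext {X'' X' X : Scheme.{u}} (g : X'' ⟶ X') (h : X' ⟶ X)
    {M : X.Modules} {G : X''.Modules}
    (c c' : (Scheme.Modules.pullback g).obj ((Scheme.Modules.pullback h).obj M) ⟶ G)
    (hcc : ∀ (U : X.Opens) (x : Γ(M, U)),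
      c.app (g ⁻¹ᵁ (h ⁻¹ᵁ U)) (pullSect g _ (h ⁻¹ᵁ U) (pullSect h M U x)) =
        c'.app (g ⁻¹ᵁ (h ⁻¹ᵁ U)) (pullSect g _ (h ⁻¹ᵁ U) (pullSect h M U x))) : c = c' := by
  apply ((Scheme.Modules.pullbackPushforwardAdjunction g).homEquiv _ G).injective
  apply pullback_hom_ext h
  intro U x
  rw [DerKit.homEquiv_app, DerKit.homEquiv_app, hcc]

section Global

variable {Z X Y : Scheme.{u}} (p : X ⟶ Y) (i : Z ⟶ X) (j : Z ⟶ Y) [QuasiCompact i]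
  (hij : i ≫ p = j)
  {Ω : X.Modules} {d : Der p Ω}
  {ψ : (Scheme.Modules.pullback (𝟙 Z)).obj (Omega.conormal j) ⟶ Omega.conormal i}
  (hψ : IsConormalMap i j p (𝟙 Z) ψ)
  {φ : Omega.conormal i ⟶ (Scheme.Modules.pullback i).obj Ω} (hφ : IsConormalDiff i d φ)

include hij hψ hφ in
/-- The composite `C_{Z/Y} → C_{Z/X} → i^*Ω_{X/Y}` vanishes. -/
theorem conormalMap_comp_conormalDiff : ψ ≫ φ = 0 := by
  apply pullback_pullback_hom_ext (𝟙 Z) j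
  intro V s'
  have h₂ : (𝟙 Z : Z ⟶ Z) ⁻¹ᵁ (j ⁻¹ᵁ V) ≤ i ⁻¹ᵁ (p ⁻¹ᵁ V) := by
    subst hij; exact le_rfl
  obtain ⟨s, hs, hψs⟩ := conormalMap_track p i j hij hψ V s' ((𝟙 Z : Z ⟶ Z) ⁻¹ᵁ (j ⁻¹ᵁ V))
    le_rfl h₂
  rw [PullTrack.pullSectLE_self] at hψs
  show φ.app _ (ψ.app _ (pullSect (𝟙 Z) (Omega.conormal j) (j ⁻¹ᵁ V) (conormalSect j V s'))) =
    (0 : (Scheme.Modules.pullback (𝟙 Z)).obj (Omega.conormal j) ⟶
      (Scheme.Modules.pullback i).obj Ω).app _ _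
  have h3 : PullTrack.pullSectLE i (ClSub.idealMod i.ker) (p ⁻¹ᵁ V)
      ((𝟙 Z : Z ⟶ Z) ⁻¹ᵁ (j ⁻¹ᵁ V)) h₂ s =
      (Omega.conormal i).presheaf.map (homOfLE h₂).op (conormalSect i (p ⁻¹ᵁ V) s) :=
    PullTrack.pullSectLE_apply _ _ _ _ _ _
  rw [hψs, h3, PullTrack.app_res, hφ (p ⁻¹ᵁ V) s, hs, DerAff.der_app_app, map_zero, map_zero]
  rfl

variable [IsImmersion i] [IsImmersion j] [QuasiCompact j] (hd : IsUniversal d)

include hij hd hψ hφ in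
/-- The sequence `C_{Z/Y} → C_{Z/X} → i^*Ω_{X/Y} → 0` is exact. -/
theorem exact_conormalMap :
    (ShortComplex.mk ψ φ (conormalMap_comp_conormalDiff p i j hij hψ hφ)).Exact ∧ Epi φ := by
  haveI : Ω.IsQuasicoherent := DerFin.isQuasicoherent_of_isUniversal p hd
  haveI : ((Scheme.Modules.pullback i).obj Ω).IsQuasicoherent :=
    Groth.Agent.H8.isQuasicoherent_pullback i Ω
  haveI : (ClSub.idealMod i.ker).IsQuasicoherent :=
    inferInstanceAs (kernel (ClSub.toSubscheme i.ker)).IsQuasicoherent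
  haveI : (Omega.conormal i).IsQuasicoherent :=
    Groth.Agent.H8.isQuasicoherent_pullback i (ClSub.idealMod i.ker)
  have hloc := fun k : IdxC p i j =>
    local_exact_conormal p i j hij hd hψ hφ k.hV k.hV₁ k.e (coborder_affine' i k.hV₁ k.hV₁le).1
      (coborder_affine' i k.hV₁ k.hV₁le).2 k.hWeq (coborder_affine' j k.hV k.hVle).2
  have haff := fun k : IdxC p i j => (coborder_affine' i k.hV₁ k.hV₁le).1
  constructor
  · refine exact_of_exact_affine_cover (ShortComplex.mk ψ φ _) _ (isOpenCover_idxC p i j hij) haff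
      (fun k t ht => ?_)
    obtain ⟨s, hs⟩ := (hloc k).2 t ht
    exact ⟨_, hs⟩
  · exact Groth.Agent.H18.Serre.epi_of_surjective_affine_cover φ _ (isOpenCover_idxC p i j hij) haff
      (fun k => (hloc k).1)

end Global

end Groth.Agent.H39.ConormalMap
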