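import Mathlib

/-!
# Conormal modules and formally smooth algebras (ring level)

If `A → B` is formally smooth and both `A → C`, `B → C` are surjective with kernels `J`, `I`, then
`J/J² → I/I²` is injective.
-/

set_option autoImplicit false
universe u

namespace Groth.Agent.H39.CotangentSmooth

/-- If `A → B` is formally smooth and `A → C` is surjective with kernel `J`, `B → C` has kernel `I`,
then an element of `J` whose image lies in `I²` lies in `J²`. -/
theorem mem_sq_of_algebraMap_mem_sq {A B C : Type u} [CommRing A] [CommRing B] [CommRing C]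
    [Algebra A B] [Algebra B C] [Algebra A C] [IsScalarTower A B C]
    [Algebra.FormallySmooth A B]
    (hA : Function.Surjective (algebraMap A C))
    (c : A) (hc : algebraMap A B c ∈ RingHom.ker (algebraMap B C) ^ 2) :
    c ∈ RingHom.ker (algebraMap A C) ^ 2 := by
  set J := RingHom.ker (algebraMap A C) with hJ
  let g : (A ⧸ J ^ 2) →ₐ[A] C := Ideal.Quotient.liftₐ (J ^ 2) (Algebra.ofId A C) (fun a ha => by
    have : a ∈ J := Ideal.pow_le_self two_ne_zero ha
    exact this)
  have hgmk : ∀ a : A, g (Ideal.Quotient.mk (J ^ 2) a) = algebraMap A C a := fun a => rfl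
  have hg : Function.Surjective g := fun x => by
    obtain ⟨a, rfl⟩ := hA x
    exact ⟨Ideal.Quotient.mk _ a, hgmk a⟩
  have hker : RingHom.ker (g : (A ⧸ J ^ 2) →+* C) ≤ J.map (Ideal.Quotient.mk (J ^ 2)) := by
    intro t ht
    obtain ⟨a, rfl⟩ := Ideal.Quotient.mk_surjective t
    have : a ∈ J := by
      rw [hJ, RingHom.mem_ker, ← hgmk]
      exact ht
    exact Ideal.mem_map_of_mem _ this
  have hsq : RingHom.ker (g : (A ⧸ J ^ 2) →+* C) ^ 2 = ⊥ := by
    rw [eq_bot_iff]
    refine (Ideal.pow_right_mono hker 2).trans ?_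
    rw [← Ideal.map_pow, Ideal.map_quotient_self]
  have hnil : IsNilpotent (RingHom.ker (g : (A ⧸ J ^ 2) →+* C)) := ⟨2, hsq⟩
  let σ : B →ₐ[A] (A ⧸ J ^ 2) :=
    Algebra.FormallySmooth.liftOfSurjective (IsScalarTower.toAlgHom A B C) g hg hnil
  have hσ : ∀ b, g (σ b) = algebraMap B C b := fun b =>
    Algebra.FormallySmooth.liftOfSurjective_apply (IsScalarTower.toAlgHom A B C) g hg hnil b
  have h1 : RingHom.ker (algebraMap B C) ≤
      (RingHom.ker (g : (A ⧸ J ^ 2) →+* C)).comap (σ : B →+* (A ⧸ J ^ 2)) := by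
    intro b hb
    rw [Ideal.mem_comap, RingHom.mem_ker]
    exact (hσ b).trans hb
  have h2 : (RingHom.ker (algebraMap B C) ^ 2).map (σ : B →+* (A ⧸ J ^ 2)) ≤ ⊥ := by
    rw [Ideal.map_pow, ← hsq]
    exact Ideal.pow_right_mono (Ideal.map_le_iff_le_comap.mpr h1) 2
  have h3 : σ (algebraMap A B c) = 0 := by
    have := h2 (Ideal.mem_map_of_mem (σ : B →+* (A ⧸ J ^ 2)) hc)
    exact this
  rw [σ.commutes] at h3
  exact Ideal.Quotient.eq_zero_iff_mem.mp h3

end Groth.Agent.H39.CotangentSmooth
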