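import Groth.Agent.H39.ConormalMap
import Groth.Agent.H39.CotangentSmooth

/-!
# Injectivity of the canonical map of conormal sheaves for a smooth morphism
-/

set_option autoImplicit false
set_option linter.style.haveILetI false
universe u
open CategoryTheory CategoryTheory.Limits AlgebraicGeometry Opposite OmegaSh TopologicalSpace
open scoped TensorProduct

namespace Groth.Agent.H39.ConormalMapMono

open Groth.Agent.H39 Groth.Agent.H8 Groth.Agent.H39.ConormalLocal Groth.Agent.H39.ConormalSect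
  Groth.Agent.H39.ConormalMono Groth.Agent.H39.ConormalSplit Groth.Agent.H39.ConormalMap

section Sq

variable {X Y : Scheme.{u}} (j : X ⟶ Y) [QuasiCompact j] {V₁ : Y.Opens} (hV₁ : IsAffineOpen V₁)
  (hW : IsAffineOpen (j ⁻¹ᵁ V₁)) (hsurj : Function.Surjective (j.app V₁))

include hV₁ hW hsurj in
/-- Over a small affine the class of a section of the ideal vanishes iff the section lies in the
square of the ideal. -/
theorem conormalSect_eq_zero_iff (s : Γ(ClSub.idealMod j.ker, V₁)) :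
    conormalSect j V₁ s = 0 ↔ idealSect j.ker V₁ s ∈ RingHom.ker (j.app V₁).hom ^ 2 := by
  letI : Algebra Γ(Y, V₁) Γ(X, j ⁻¹ᵁ V₁) := (j.appLE V₁ (j ⁻¹ᵁ V₁) le_rfl).hom.toAlgebra
  obtain ⟨Θ, hΘ, -⟩ := exists_conormal_equiv j hV₁ hW hsurj
  have happ : j.appLE V₁ (j ⁻¹ᵁ V₁) le_rfl = j.app V₁ := (Scheme.Hom.app_eq_appLE j).symm
  have hker : RingHom.ker (algebraMap Γ(Y, V₁) Γ(X, j ⁻¹ᵁ V₁)) = RingHom.ker (j.app V₁).hom := by
    show RingHom.ker (j.appLE V₁ (j ⁻¹ᵁ V₁) le_rfl).hom = _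
    rw [happ]
  have hmem : idealSect j.ker V₁ s ∈ RingHom.ker (algebraMap Γ(Y, V₁) Γ(X, j ⁻¹ᵁ V₁)) := by
    rw [hker, RingHom.mem_ker]; exact app_idealSect j V₁ s
  rw [← hker, ← Ideal.toCotangent_eq_zero _ ⟨_, hmem⟩, ← hΘ s ⟨_, hmem⟩ rfl]
  constructor
  · intro h; rw [h, map_zero]
  · intro h; exact Θ.injective (h.trans (map_zero Θ).symm)

end Sq

/-- Every section of `𝟙^* M` is the pullback of a section of `M`. -/
lemma exists_pullSect_id_eq {X : Scheme.{u}} (M : X.Modules) (U : X.Opens)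
    (q : Γ((Scheme.Modules.pullback (𝟙 X)).obj M, U)) :
    ∃ x : Γ(M, U), pullSect (𝟙 X) M U x = q := by
  refine ⟨((Scheme.Modules.pullbackId X).hom.app M).app U q, ?_⟩
  rw [← DerKit.pullbackId_inv_app]
  have h3 : (Scheme.Modules.pullbackId X).hom.app M ≫ (Scheme.Modules.pullbackId X).inv.app M =
      𝟙 _ := (Scheme.Modules.pullbackId X).hom_inv_id_app M
  exact congrArg (fun t => (Scheme.Modules.Hom.app t U) q) h3

section LocalInj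

variable {Z X Y : Scheme.{u}} (p : X ⟶ Y) (i : Z ⟶ X) (j : Z ⟶ Y) [QuasiCompact i]
  [QuasiCompact j] (hij : i ≫ p = j)
  {ψ : (Scheme.Modules.pullback (𝟙 Z)).obj (Omega.conormal j) ⟶ Omega.conormal i}
  (hψ : IsConormalMap i j p (𝟙 Z) ψ)

include hij hψ in
set_option maxHeartbeats 1000000 in
/-- On a small affine, `C_{Z/Y} → C_{Z/X}` is injective on sections when `X → Y` is formally
smooth there. -/
theorem local_injective_conormalMap {V : Y.Opens} (hV : IsAffineOpen V) {V₁ : X.Opens}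
    (hV₁ : IsAffineOpen V₁) (e : V₁ ≤ p ⁻¹ᵁ V) (hW : IsAffineOpen (i ⁻¹ᵁ V₁))
    (hsurj : Function.Surjective (i.app V₁)) (hWeq : i ⁻¹ᵁ V₁ = j ⁻¹ᵁ V)
    (hWj : IsAffineOpen (j ⁻¹ᵁ V)) (hsurjj : Function.Surjective (j.app V))
    (hsm : (p.appLE V V₁ e).hom.FormallySmooth) :
    Function.Injective (ψ.app (i ⁻¹ᵁ V₁)) := by
  subst hij
  have e₂ : i ⁻¹ᵁ V₁ ≤ (i ≫ p) ⁻¹ᵁ V := fun x hx => e hx
  have e0 : i ⁻¹ᵁ V₁ ≤ i ⁻¹ᵁ V₁ := le_rfl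
  letI a1 : Algebra Γ(Y, V) Γ(X, V₁) := (p.appLE V V₁ e).hom.toAlgebra
  letI a2 : Algebra Γ(Y, V) Γ(Z, i ⁻¹ᵁ V₁) := ((i ≫ p).appLE V (i ⁻¹ᵁ V₁) e₂).hom.toAlgebra
  letI a3 : Algebra Γ(X, V₁) Γ(Z, i ⁻¹ᵁ V₁) := (i.appLE V₁ (i ⁻¹ᵁ V₁) e0).hom.toAlgebra
  haveI : IsScalarTower Γ(Y, V) Γ(X, V₁) Γ(Z, i ⁻¹ᵁ V₁) :=
    IsScalarTower.of_algebraMap_eq' (congrArg CommRingCat.Hom.hom
      (Scheme.Hom.appLE_comp_appLE i p V V₁ (i ⁻¹ᵁ V₁) e e0).symm)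
  haveI : Algebra.FormallySmooth Γ(Y, V) Γ(X, V₁) := hsm
  have happ : i.appLE V₁ (i ⁻¹ᵁ V₁) e0 = i.app V₁ := (Scheme.Hom.app_eq_appLE i).symm
  have hC : Function.Surjective (algebraMap Γ(Y, V) Γ(Z, i ⁻¹ᵁ V₁)) :=
    appLE_surjective_of_eq (i ≫ p) V (i ⁻¹ᵁ V₁) hWeq e₂ hsurjj
  have hJ : RingHom.ker (algebraMap Γ(Y, V) Γ(Z, i ⁻¹ᵁ V₁)) = RingHom.ker ((i ≫ p).app V).hom :=
    ker_appLE_of_eq (i ≫ p) V (i ⁻¹ᵁ V₁) hWeq e₂
  have hI : RingHom.ker (algebraMap Γ(X, V₁) Γ(Z, i ⁻¹ᵁ V₁)) = RingHom.ker (i.app V₁).hom := by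
    show RingHom.ker (i.appLE V₁ (i ⁻¹ᵁ V₁) e0).hom = _
    rw [happ]
  rw [injective_iff_map_eq_zero]
  intro q' hq'
  obtain ⟨x, rfl⟩ := exists_pullSect_id_eq (Omega.conormal (i ≫ p)) (i ⁻¹ᵁ V₁) q'
  -- move `x` to the open `(i ≫ p)⁻¹ V`
  have hge : (i ≫ p) ⁻¹ᵁ V ≤ i ⁻¹ᵁ V₁ := hWeq.ge
  obtain ⟨s', hs'⟩ := conormalSect_surjective (i ≫ p) hV hWj hsurjj
    ((Omega.conormal (i ≫ p)).presheaf.map (homOfLE hge).op x)
  have hx : x = (Omega.conormal (i ≫ p)).presheaf.map (homOfLE e₂).op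
      (conormalSect (i ≫ p) V s') := by
    rw [hs', PullTrack.res_res, PullTrack.res_self]
  have h₁ : i ⁻¹ᵁ V₁ ≤ (𝟙 Z : Z ⟶ Z) ⁻¹ᵁ ((i ≫ p) ⁻¹ᵁ V) := e₂
  have h₂ : i ⁻¹ᵁ V₁ ≤ i ⁻¹ᵁ (p ⁻¹ᵁ V) := e₂
  have hq : pullSect (𝟙 Z) (Omega.conormal (i ≫ p)) (i ⁻¹ᵁ V₁) x =
      PullTrack.pullSectLE (𝟙 Z) (Omega.conormal (i ≫ p)) ((i ≫ p) ⁻¹ᵁ V) (i ⁻¹ᵁ V₁) h₁
        (conormalSect (i ≫ p) V s') := by
    rw [hx]
    have h4 := PullTrack.pullSectLE_res_source (𝟙 Z) (Omega.conormal (i ≫ p)) e₂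
      ((𝟙 Z : Z ⟶ Z) ⁻¹ᵁ (i ⁻¹ᵁ V₁)) (le_refl _) (conormalSect (i ≫ p) V s')
    rw [PullTrack.pullSectLE_self] at h4
    exact h4
  obtain ⟨s, hs, hψs⟩ := conormalMap_track p i (i ≫ p) rfl hψ V s' (i ⁻¹ᵁ V₁) h₁ h₂
  have h3 : PullTrack.pullSectLE i (ClSub.idealMod i.ker) (p ⁻¹ᵁ V) (i ⁻¹ᵁ V₁) h₂ s =
      conormalSect i V₁ ((ClSub.idealMod i.ker).presheaf.map (homOfLE e).op s) := by
    have h4 := PullTrack.pullSectLE_res_source i (ClSub.idealMod i.ker) e (i ⁻¹ᵁ V₁) e0 s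
    rw [PullTrack.pullSectLE_self] at h4
    exact h4.symm
  rw [hq, hψs, h3, conormalSect_eq_zero_iff i hV₁ hW hsurj, idealSect_res, hs, ← hI] at hq'
  have h5 : algebraMap Γ(Y, V) Γ(X, V₁) (idealSect (i ≫ p).ker V s') ∈
      RingHom.ker (algebraMap Γ(X, V₁) Γ(Z, i ⁻¹ᵁ V₁)) ^ 2 := hq'
  have h6 := CotangentSmooth.mem_sq_of_algebraMap_mem_sq hC _ h5
  rw [hJ, ← conormalSect_eq_zero_iff (i ≫ p) hV hWj hsurjj] at h6
  rw [hx, h6, map_zero, map_zero]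
  rfl

end LocalInj

section GlobalMono

variable {Z X Y : Scheme.{u}} (p : X ⟶ Y) (i : Z ⟶ X) (j : Z ⟶ Y) [IsImmersion i]
  [IsImmersion j] [QuasiCompact i] [QuasiCompact j] (hij : i ≫ p = j)
  {ψ : (Scheme.Modules.pullback (𝟙 Z)).obj (Omega.conormal j) ⟶ Omega.conormal i}
  (hψ : IsConormalMap i j p (𝟙 Z) ψ)

include hij hψ in
/-- For smooth `p : X ⟶ Y`, the canonical map `C_{Z/Y} → C_{Z/X}` is a monomorphism. -/
theorem mono_conormalMap [Smooth p] : Mono ψ := by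
  haveI : (ClSub.idealMod i.ker).IsQuasicoherent :=
    inferInstanceAs (kernel (ClSub.toSubscheme i.ker)).IsQuasicoherent
  haveI : (Omega.conormal i).IsQuasicoherent :=
    Groth.Agent.H8.isQuasicoherent_pullback i (ClSub.idealMod i.ker)
  haveI : (ClSub.idealMod j.ker).IsQuasicoherent :=
    inferInstanceAs (kernel (ClSub.toSubscheme j.ker)).IsQuasicoherent
  haveI : (Omega.conormal j).IsQuasicoherent :=
    Groth.Agent.H8.isQuasicoherent_pullback j (ClSub.idealMod j.ker)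
  haveI : ((Scheme.Modules.pullback (𝟙 Z)).obj (Omega.conormal j)).IsQuasicoherent :=
    Groth.Agent.H8.isQuasicoherent_pullback (𝟙 Z) (Omega.conormal j)
  have haff := fun k : IdxC p i j => (coborder_affine' i k.hV₁ k.hV₁le).1
  refine mono_of_injective_affine_cover ψ _ (isOpenCover_idxC p i j hij) haff (fun k => ?_)
  exact local_injective_conormalMap p i j hij hψ k.hV k.hV₁ k.e
    (coborder_affine' i k.hV₁ k.hV₁le).1 (coborder_affine' i k.hV₁ k.hV₁le).2 k.hWeq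
    (coborder_affine' j k.hV k.hVle).1 (coborder_affine' j k.hV k.hVle).2
    (p.smooth_appLE k.hV k.hV₁ k.e).formallySmooth

end GlobalMono

end Groth.Agent.H39.ConormalMapMono
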