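import Mathlib
import Groth.Prelude.Def_CAlgX

/-!
# `I ∩ J² = I J` when `J/I` is generated by an `H₁`-regular sequence (global form)
-/

set_option autoImplicit false
universe u

namespace Groth.Agent.H39.H1RegIdeal

lemma sum_single_mul {R : Type*} [CommRing R] {c : ℕ} (i : Fin c) (r : R) (a : Fin c → R) :
    ∑ k, Pi.single (M := fun _ => R) i r k * a k = r * a i := by
  rw [Finset.sum_eq_single i (fun k _ hk => by rw [Pi.single_eq_of_ne hk, zero_mul])
    (fun h => absurd (Finset.mem_univ i) h), Pi.single_eq_same]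

section

variable {A B : Type u} [CommRing A] [CommRing B] (f : A →+* B) (hf : Function.Surjective f)
  {c : ℕ} (g : Fin c → B) (ft : Fin c → A) (hft : ∀ i, f (ft i) = g i)

include hft in
lemma ft_mem (i : Fin c) : ft i ∈ Ideal.comap f (Ideal.span (Set.range g)) := by
  rw [Ideal.mem_comap, hft]
  exact Ideal.subset_span ⟨i, rfl⟩

include hft in
/-- A combination of the lifted generators with coefficients in `ker f` lies in `ker f * J`. -/
lemma sum_mem_of_forall_mem_ker (w : Fin c → A) (hw : ∀ i, w i ∈ RingHom.ker f) :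
    ∑ i, w i * ft i ∈ RingHom.ker f * Ideal.comap f (Ideal.span (Set.range g)) :=
  Ideal.sum_mem _ fun i _ => Ideal.mul_mem_mul (hw i) (ft_mem f g ft hft i)

include hf hft in
/-- Trivial relations lift to combinations lying in `ker f * J`. -/
lemma exists_lift_of_mem_span (v : Fin c → B)
    (hv : v ∈ Submodule.span B
      {v : Fin c → B | ∃ i j : Fin c, v = Pi.single i (g j) - Pi.single j (g i)}) :
    ∃ vt : Fin c → A, (∀ i, f (vt i) = v i) ∧
      ∑ i, vt i * ft i ∈ RingHom.ker f * Ideal.comap f (Ideal.span (Set.range g)) := by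
  induction hv using Submodule.span_induction with
  | mem v hv =>
    obtain ⟨i, j, rfl⟩ := hv
    refine ⟨Pi.single i (ft j) - Pi.single j (ft i), fun k => ?_, ?_⟩
    · have e : ∀ (i' j' : Fin c), f (Pi.single (M := fun _ => A) i' (ft j') k) =
          Pi.single (M := fun _ => B) i' (g j') k := by
        intro i' j'
        by_cases hk : k = i'
        · subst hk
          rw [Pi.single_eq_same, Pi.single_eq_same, hft]
        · rw [Pi.single_eq_of_ne hk, Pi.single_eq_of_ne hk, map_zero]
      rw [Pi.sub_apply, Pi.sub_apply, map_sub, e i j, e j i]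
    · have e : ∀ k, (Pi.single i (ft j) - Pi.single j (ft i) : Fin c → A) k * ft k =
          Pi.single (M := fun _ => A) i (ft j) k * ft k -
            Pi.single (M := fun _ => A) j (ft i) k * ft k :=
        fun k => by rw [Pi.sub_apply, sub_mul]
      rw [Finset.sum_congr rfl (fun k _ => e k), Finset.sum_sub_distrib, sum_single_mul,
        sum_single_mul, mul_comm (ft j) (ft i), sub_self]
      exact Ideal.zero_mem _
  | zero =>
    refine ⟨0, fun i => by rw [Pi.zero_apply, Pi.zero_apply, map_zero], ?_⟩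
    rw [Finset.sum_eq_zero (fun i _ => by rw [Pi.zero_apply, zero_mul])]
    exact Ideal.zero_mem _
  | add v v' _ _ ih ih' =>
    obtain ⟨w, h1, h2⟩ := ih
    obtain ⟨w', h1', h2'⟩ := ih'
    refine ⟨w + w', fun i => by rw [Pi.add_apply, Pi.add_apply, map_add, h1, h1'], ?_⟩
    have e : ∑ i, (w + w') i * ft i = ∑ i, w i * ft i + ∑ i, w' i * ft i := by
      rw [← Finset.sum_add_distrib]
      exact Finset.sum_congr rfl fun i _ => by rw [Pi.add_apply, add_mul]
    rw [e]
    exact Ideal.add_mem _ h2 h2'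
  | smul β v _ ih =>
    obtain ⟨w, h1, h2⟩ := ih
    obtain ⟨r, rfl⟩ := hf β
    refine ⟨fun i => r * w i, fun i => by rw [map_mul, h1, Pi.smul_apply, smul_eq_mul], ?_⟩
    have e : ∑ i, (r * w i) * ft i = r * ∑ i, w i * ft i := by
      rw [Finset.mul_sum]
      exact Finset.sum_congr rfl fun i _ => by ring
    rw [e]
    exact Ideal.mul_mem_left _ _ h2

include hf hft in
lemma comap_eq_sup :
    Ideal.comap f (Ideal.span (Set.range g)) = RingHom.ker f ⊔ Ideal.span (Set.range ft) := by
  have h1 : Ideal.span (Set.range g) = Ideal.map f (Ideal.span (Set.range ft)) := by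
    rw [Ideal.map_span, ← Set.range_comp]
    congr 2
    funext i
    exact (hft i).symm
  rw [h1, Ideal.comap_map_of_surjective f hf, sup_comm]
  rfl

include hf hft in
/-- If `g` is `H₁`-regular in `B = A / ker f` and `J` is the preimage of `(g)`, then
`ker f ∩ J² ≤ ker f * J`. -/
theorem mem_mul_of_mem_inf_sq (hg : CAlgX.IsH1Regular g) (a : A) (ha₁ : a ∈ RingHom.ker f)
    (ha₂ : a ∈ Ideal.comap f (Ideal.span (Set.range g)) ^ 2) :
    a ∈ RingHom.ker f * Ideal.comap f (Ideal.span (Set.range g)) := by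
  set I₁ := RingHom.ker f with hI₁
  set I₂ := Ideal.comap f (Ideal.span (Set.range g)) with hI₂
  set F := Ideal.span (Set.range ft) with hF
  have hI₂eq : I₂ = I₁ ⊔ F := comap_eq_sup f hf g ft hft
  have hFle : F ≤ I₂ := by rw [hI₂eq]; exact le_sup_right
  have hI₁le : I₁ ≤ I₂ := by rw [hI₂eq]; exact le_sup_left
  have hsq : I₂ ^ 2 ≤ I₁ * I₂ ⊔ F * F := by
    rw [pow_two]
    nth_rewrite 1 [hI₂eq]
    rw [Ideal.sup_mul]
    refine sup_le le_sup_left ?_
    nth_rewrite 1 [hI₂eq]
    rw [Ideal.mul_sup]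
    refine sup_le ?_ le_sup_right
    rw [mul_comm]
    exact le_sup_of_le_left (Ideal.mul_mono_right hFle)
  obtain ⟨y, hy, z, hz, hyz⟩ := Submodule.mem_sup.mp (hsq ha₂)
  have hz' : z ∈ F • Submodule.span A (Set.range ft) := hz
  obtain ⟨b, hb, hbz⟩ := (Submodule.mem_ideal_smul_span_iff_exists_sum F ft z).mp hz'
  have hfs := Finsupp.sum_fintype b (fun i c => c • ft i) (fun i => zero_smul _ _)
  rw [hfs] at hbz
  have hbz' : ∑ i, b i * ft i = z := hbz
  have hzI₁ : z ∈ I₁ := by
    have : z = a - y := by rw [← hyz]; ring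
    rw [this]
    exact Ideal.sub_mem I₁ ha₁ ((Ideal.mul_le_left : I₁ * I₂ ≤ I₁) hy)
  have hrel : ∑ i, f (b i) * g i = 0 := by
    have h1 : f z = 0 := hzI₁
    rw [← hbz', map_sum] at h1
    rw [← h1]
    exact Finset.sum_congr rfl fun i _ => by rw [map_mul, hft]
  obtain ⟨vt, hvt, hsum⟩ := exists_lift_of_mem_span f hf g ft hft _ (hg (fun i => f (b i)) hrel)
  have hdiff : ∑ i, (b i - vt i) * ft i ∈ I₁ * I₂ :=
    sum_mem_of_forall_mem_ker f g ft hft (fun i => b i - vt i) (fun i => by
      rw [RingHom.mem_ker, map_sub, hvt, sub_self])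
  have hz2 : z ∈ I₁ * I₂ := by
    have : z = ∑ i, (b i - vt i) * ft i + ∑ i, vt i * ft i := by
      rw [← hbz', ← Finset.sum_add_distrib]
      exact Finset.sum_congr rfl fun i _ => by ring
    rw [this]
    exact Ideal.add_mem _ hdiff hsum
  rw [← hyz]
  exact Ideal.add_mem _ hy hz2

end

end Groth.Agent.H39.H1RegIdeal
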