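import Groth.Agent.H39.ConormalTrans
import Groth.Agent.H39.H1RegIdeal
import Groth.Agent.H79.RegImmRel
import Groth.Prelude.Def_Omega4

/-!
# The conormal sequence of a composite of immersions is left exact when the first immersion is
`H₁`-regular
-/

set_option autoImplicit false
set_option linter.style.haveILetI false
universe u
open CategoryTheory CategoryTheory.Limits AlgebraicGeometry Opposite OmegaSh TopologicalSpace
open scoped TensorProduct

namespace Groth.Agent.H39.ConormalReg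

open Groth.Agent.H39 Groth.Agent.H8 Groth.Agent.H39.ConormalLocal Groth.Agent.H39.ConormalSect
  Groth.Agent.H39.ConormalMono Groth.Agent.H39.ConormalSplit Groth.Agent.H39.ConormalMap
  Groth.Agent.H39.ConormalMapMono Groth.Agent.H39.ConormalTrans

/-- If `h` is surjective on sections over an affine `V` with affine preimage, every section of
`h^*M` over `h⁻¹V` is the pullback of a section of `M` over `V`. -/
lemma exists_pullSect_eq_of_surjective {X' X : Scheme.{u}} (h : X' ⟶ X) (M : X.Modules)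
    [M.IsQuasicoherent] {V : X.Opens} (hV : IsAffineOpen V) (hW : IsAffineOpen (h ⁻¹ᵁ V))
    (hsurj : Function.Surjective (h.app V))
    (t : Γ((Scheme.Modules.pullback h).obj M, h ⁻¹ᵁ V)) :
    ∃ x : Γ(M, V), pullSect h M V x = t := by
  have e0 : h ⁻¹ᵁ V ≤ h ⁻¹ᵁ V := le_rfl
  letI : Algebra Γ(X, V) Γ(X', h ⁻¹ᵁ V) := (h.appLE V (h ⁻¹ᵁ V) e0).hom.toAlgebra
  have happ : h.appLE V (h ⁻¹ᵁ V) e0 = h.app V := (Scheme.Hom.app_eq_appLE h).symm
  have hsurj' : Function.Surjective (algebraMap Γ(X, V) Γ(X', h ⁻¹ᵁ V)) := by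
    show Function.Surjective (h.appLE V (h ⁻¹ᵁ V) e0).hom
    rw [happ]; exact hsurj
  obtain ⟨E, hE⟩ := PullTrack.exists_sectionsPullbackEquiv h M hV hW e0
  have key : ∀ z : Γ(X', h ⁻¹ᵁ V) ⊗[Γ(X, V)] Γ(M, V), ∃ x : Γ(M, V),
      z = (1 : Γ(X', h ⁻¹ᵁ V)) ⊗ₜ[Γ(X, V)] x := by
    intro z
    induction z using TensorProduct.induction_on with
    | zero => exact ⟨0, (TensorProduct.tmul_zero _ _).symm⟩
    | tmul c m =>
      obtain ⟨b, rfl⟩ := hsurj' c
      refine ⟨b • m, ?_⟩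
      rw [Algebra.algebraMap_eq_smul_one, TensorProduct.smul_tmul]
    | add z z' ih ih' =>
      obtain ⟨x, rfl⟩ := ih
      obtain ⟨x', rfl⟩ := ih'
      exact ⟨x + x', (TensorProduct.tmul_add _ _ _).symm⟩
  obtain ⟨x, hx⟩ := key (E t)
  refine ⟨x, E.injective ?_⟩
  rw [hx, ← hE x, PullTrack.pullSectLE_self]

section Cover

variable {Y' Y X : Scheme.{u}} (f : Y ⟶ X) [IsImmersion f] (j : Y' ⟶ Y) [IsImmersion j]

/-- Index type of the cover of `Y'` by small affines adapted to `Y' ⟶ Y ⟶ X` on which the ideal of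
`Y'` in `Y` is generated by an `H₁`-regular sequence. -/
structure IdxH : Type u where
  U : X.Opens
  hU : IsAffineOpen U
  hUle : U ≤ f.coborderRange
  hle : f ⁻¹ᵁ U ≤ j.coborderRange
  rs : List Γ(Y, f ⁻¹ᵁ U)
  hrs : CAlgX.IsH1Regular rs.get
  hker : RingHom.ker (j.app (f ⁻¹ᵁ U)).hom = Ideal.ofList rs

theorem isOpenCover_idxH (hj : ∀ z, RegImm.IsRegularImmersionAt RegImm.Kind.h1 j z) :
    IsOpenCover (fun k : IdxH f j => j ⁻¹ᵁ (f ⁻¹ᵁ k.U)) := by
  rw [IsOpenCover, eq_top_iff]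
  intro y' _
  obtain ⟨U', hyU', hcl, rs, hrs, hker⟩ := hj y'
  have hz0 : f.liftCoborder (j y') ∈ (⊤ : f.coborderRange.toScheme.Opens) := trivial
  obtain ⟨V'f, hV'f, hzV'f, -⟩ :=
    (Opens.isBasis_iff_nbhd.mp f.coborderRange.toScheme.isBasis_affineOpens) hz0
  obtain ⟨hU0, hV0, hsurj0⟩ := coborder_affine f hV'f
  have hzV0 : j y' ∈ f ⁻¹ᵁ f.coborderRange.ι ''ᵁ V'f := by
    rw [← Scheme.Hom.liftCoborder_preimage]; exact hzV'f
  have hjy : j y' ∈ j.coborderRange := by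
    have h1 : j.coborderRange.ι (j.liftCoborder y') = j y' := by
      rw [← Scheme.Hom.comp_apply j.liftCoborder, j.liftCoborder_ι]
    rw [← h1]
    exact (j.liftCoborder y').2
  obtain ⟨t, htle, hzt⟩ := hV0.exists_basicOpen_le (V := j.coborderRange ⊓ U'.1)
    ⟨j y', ⟨hjy, hyU'⟩⟩ hzV0
  obtain ⟨a, rfl⟩ := hsurj0 t
  have hDa : Y.basicOpen ((f.app (f.coborderRange.ι ''ᵁ V'f)).hom a) =
      f ⁻¹ᵁ (X.basicOpen a) := (Scheme.preimage_basicOpen f a).symm
  rw [hDa] at htle hzt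
  have hUle : X.basicOpen a ≤ f.coborderRange :=
    (X.basicOpen_le a).trans (f.coborderRange.ι_image_le V'f)
  have hVaff : IsAffineOpen (f ⁻¹ᵁ X.basicOpen a) :=
    (coborder_affine' f (hU0.basicOpen a) hUle).1
  obtain ⟨-, rs₁, hrs₁, hker₁⟩ := Groth.Agent.H79.RegImmRel.regImm_data_restrict j
    RegImm.Kind.h1 U'.2 hVaff (htle.trans inf_le_right) hcl rs hrs hker y' hzt
  exact Opens.mem_iSup.mpr ⟨⟨X.basicOpen a, hU0.basicOpen a, hUle, htle.trans inf_le_left,
    rs₁, hrs₁, hker₁⟩, hzt⟩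

end Cover

section LocalInj

variable {Y' Y X : Scheme.{u}} (f : Y ⟶ X) (j : Y' ⟶ Y) [QuasiCompact f] [QuasiCompact j]
  {φ₁ : (Scheme.Modules.pullback j).obj (Omega.conormal f) ⟶ Omega.conormal (j ≫ f)}
  (hφ₁ : IsConormalMap (j ≫ f) f (𝟙 X) j φ₁)

omit [QuasiCompact j] in
/-- Classes of sections of `I₁ * I₂` die in `j^* C_{Y/X}`. -/
lemma exists_pullSect_conormalSect_eq_zero (U : X.Opens) (a : Γ(X, U))
    (ha : a ∈ RingHom.ker (f.app U).hom * RingHom.ker ((j ≫ f).app U).hom) :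
    ∃ s₁ : Γ(ClSub.idealMod f.ker, U), idealSect f.ker U s₁ = a ∧
      pullSect j (Omega.conormal f) (f ⁻¹ᵁ U) (conormalSect f U s₁) = 0 := by
  refine Submodule.mul_induction_on ha ?_ ?_
  · intro x hx y hy
    obtain ⟨sx, hsx⟩ := exists_idealSect_eq_of_app_eq_zero f U x hx
    refine ⟨y • sx, ?_, ?_⟩
    · rw [idealSect_smul, hsx, mul_comm]
    · have h1 : conormalSect f U (y • sx) = (f.app U).hom y • conormalSect f U sx :=
        pullSect_smul f (ClSub.idealMod f.ker) U y sx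
      rw [h1, pullSect_smul]
      have h2 : (j.app (f ⁻¹ᵁ U)).hom ((f.app U).hom y) = 0 := hy
      rw [h2, zero_smul]
  · rintro x y ⟨sx, hsx, hx⟩ ⟨sy, hsy, hy⟩
    exact ⟨sx + sy, by rw [map_add, hsx, hsy], by rw [map_add, map_add, hx, hy, add_zero]⟩

include hφ₁ in
set_option maxHeartbeats 1000000 in
/-- On a small affine on which the ideal of `Y'` in `Y` is generated by an `H₁`-regular sequence,
`j^*C_{Y/X} → C_{Y'/X}` is injective on sections. -/
theorem local_injective_of_h1 {U : X.Opens} (hU : IsAffineOpen U)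
    (hVf : IsAffineOpen (f ⁻¹ᵁ U)) (hsurjf : Function.Surjective (f.app U))
    (hW : IsAffineOpen (j ⁻¹ᵁ (f ⁻¹ᵁ U))) (hsurjj : Function.Surjective (j.app (f ⁻¹ᵁ U)))
    (rs : List Γ(Y, f ⁻¹ᵁ U)) (hrs : CAlgX.IsH1Regular rs.get)
    (hker : RingHom.ker (j.app (f ⁻¹ᵁ U)).hom = Ideal.ofList rs) :
    Function.Injective (φ₁.app (j ⁻¹ᵁ (f ⁻¹ᵁ U))) := by
  haveI : (ClSub.idealMod f.ker).IsQuasicoherent :=
    inferInstanceAs (kernel (ClSub.toSubscheme f.ker)).IsQuasicoherent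
  haveI : (Omega.conormal f).IsQuasicoherent :=
    Groth.Agent.H8.isQuasicoherent_pullback f (ClSub.idealMod f.ker)
  have hsurjjf : Function.Surjective ((j ≫ f).app U) := comp_app_surjective f j hsurjf hsurjj
  have hW' : IsAffineOpen ((j ≫ f) ⁻¹ᵁ U) := hW
  rw [injective_iff_map_eq_zero]
  intro t ht
  obtain ⟨x, rfl⟩ := exists_pullSect_eq_of_surjective j (Omega.conormal f) hVf hW hsurjj t
  obtain ⟨s₁, rfl⟩ := conormalSect_surjective f hU hVf hsurjf x
  obtain ⟨s₂, hs₂, hφ⟩ := track₁ f j hφ₁ U s₁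
  have ht' : conormalSect (j ≫ f) U s₂ = 0 := hφ.symm.trans ht
  rw [conormalSect_eq_zero_iff (j ≫ f) hU hW' hsurjjf, hs₂] at ht'
  have ha₁ : idealSect f.ker U s₁ ∈ RingHom.ker (f.app U).hom := app_idealSect f U s₁
  have hI₂ : RingHom.ker ((j ≫ f).app U).hom =
      Ideal.comap (f.app U).hom (Ideal.span (Set.range rs.get)) := by
    rw [Groth.Agent.H79.RegKindRel.range_get_eq]
    show _ = Ideal.comap (f.app U).hom (Ideal.ofList rs)
    rw [← hker, RingHom.comap_ker]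
    rfl
  rw [hI₂] at ht'
  choose ft hft using fun i => hsurjf (rs.get i)
  have h3 := H1RegIdeal.mem_mul_of_mem_inf_sq (f.app U).hom hsurjf rs.get ft hft hrs _ ha₁ ht'
  rw [← hI₂] at h3
  obtain ⟨s₁', hs₁', h0⟩ := exists_pullSect_conormalSect_eq_zero f j U _ h3
  have h4 : s₁' = s₁ := ι_injective f.ker U hs₁'
  rw [← h4]
  exact h0

end LocalInj

section GlobalMono

variable {Y' Y X : Scheme.{u}} (f : Y ⟶ X) (j : Y' ⟶ Y) [IsImmersion f] [IsImmersion j]
  [QuasiCompact f] [QuasiCompact j]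
  {φ₁ : (Scheme.Modules.pullback j).obj (Omega.conormal f) ⟶ Omega.conormal (j ≫ f)}
  (hφ₁ : IsConormalMap (j ≫ f) f (𝟙 X) j φ₁)

include hφ₁ in
/-- If `j` is an `H₁`-regular immersion, `j^*C_{Y/X} → C_{Y'/X}` is a monomorphism. -/
theorem mono_of_h1 (hj : ∀ z, RegImm.IsRegularImmersionAt RegImm.Kind.h1 j z) : Mono φ₁ := by
  haveI : (ClSub.idealMod f.ker).IsQuasicoherent :=
    inferInstanceAs (kernel (ClSub.toSubscheme f.ker)).IsQuasicoherent
  haveI : (Omega.conormal f).IsQuasicoherent :=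
    Groth.Agent.H8.isQuasicoherent_pullback f (ClSub.idealMod f.ker)
  haveI : ((Scheme.Modules.pullback j).obj (Omega.conormal f)).IsQuasicoherent :=
    Groth.Agent.H8.isQuasicoherent_pullback j (Omega.conormal f)
  haveI : (ClSub.idealMod (j ≫ f).ker).IsQuasicoherent :=
    inferInstanceAs (kernel (ClSub.toSubscheme (j ≫ f).ker)).IsQuasicoherent
  haveI : (Omega.conormal (j ≫ f)).IsQuasicoherent :=
    Groth.Agent.H8.isQuasicoherent_pullback (j ≫ f) (ClSub.idealMod (j ≫ f).ker)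
  have h1 := fun k : IdxH f j => coborder_affine' f k.hU k.hUle
  have h2 := fun k : IdxH f j => coborder_affine' j (h1 k).1 k.hle
  refine mono_of_injective_affine_cover φ₁ _ (isOpenCover_idxH f j hj) (fun k => (h2 k).1)
    (fun k => ?_)
  exact local_injective_of_h1 f j hφ₁ k.hU (h1 k).1 (h1 k).2 (h2 k).1 (h2 k).2 k.rs k.hrs k.hker

variable {φ₂ : (Scheme.Modules.pullback (𝟙 Y')).obj (Omega.conormal (j ≫ f)) ⟶ Omega.conormal j}
  (hφ₂ : IsConormalMap j (j ≫ f) f (𝟙 Y') φ₂)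

include hφ₁ hφ₂ in
/-- If `j` is an `H₁`-regular immersion, `0 → j^*C_{Y/X} → C_{Y'/X} → C_{Y'/Y} → 0` is short
exact. -/
theorem shortExact_of_h1 (hj : ∀ z, RegImm.IsRegularImmersionAt RegImm.Kind.h1 j z)
    (w : φ₁ ≫ ((Scheme.Modules.pullbackId Y').inv.app (Omega.conormal (j ≫ f)) ≫ φ₂) = 0) :
    (ShortComplex.mk φ₁ ((Scheme.Modules.pullbackId Y').inv.app (Omega.conormal (j ≫ f)) ≫ φ₂)
      w).ShortExact := by
  have hex := exact_conormalTrans f j hφ₁ hφ₂
  haveI : Mono φ₁ := mono_of_h1 f j hφ₁ hj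
  haveI : Epi φ₂ := hex.2
  haveI : Epi ((Scheme.Modules.pullbackId Y').inv.app (Omega.conormal (j ≫ f)) ≫ φ₂) :=
    epi_comp _ _
  exact { exact := hex.1
          mono_f := inferInstanceAs (Mono φ₁)
          epi_g := inferInstanceAs
            (Epi ((Scheme.Modules.pullbackId Y').inv.app (Omega.conormal (j ≫ f)) ≫ φ₂)) }

end GlobalMono

end Groth.Agent.H39.ConormalReg
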