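import Groth.Agent.H39.ConormalLocal

/-!
# Sections of the conormal sheaf of an immersion over small affines

For a quasi-compact `j : X ⟶ Y` and an affine open `V₁ ⊆ Y` with affine preimage on whose sections
`j` is surjective (kernel `I`), the sections of `C_{X/Y} = j^* 𝓘` over `j⁻¹V₁` are `I/I²`,
compatibly with classes of sections of the ideal.
-/

set_option autoImplicit false
set_option linter.style.haveILetI false
universe u
open CategoryTheory CategoryTheory.Limits AlgebraicGeometry Opposite OmegaSh TopologicalSpace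
open scoped TensorProduct

namespace Groth.Agent.H39.ConormalSect

open Groth.Agent.H39 Groth.Agent.H8 Groth.Agent.H39.ConormalLocal

section

variable {S : Scheme.{u}} (𝓘 : S.IdealSheafData)

/-- `idealSect` as a linear map. -/
noncomputable def idealSectₗ (V : S.Opens) : Γ(ClSub.idealMod 𝓘, V) →ₗ[Γ(S, V)] Γ(S, V) where
  toFun := idealSect 𝓘 V
  map_add' := map_add _
  map_smul' r t := Scheme.Modules.Hom.app_smul (ClSub.idealModι 𝓘) r t

lemma idealSectₗ_apply (V : S.Opens) (t : Γ(ClSub.idealMod 𝓘, V)) :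
    idealSectₗ 𝓘 V t = idealSect 𝓘 V t := rfl

lemma idealSect_injective (V : S.Opens) : Function.Injective (idealSect 𝓘 V) :=
  ι_injective 𝓘 V

/-- Over an affine open, the sections of the ideal module are the ideal. -/
noncomputable def idealEquiv (U : S.affineOpens) :
    Γ(ClSub.idealMod 𝓘, U.1) ≃ₗ[Γ(S, U.1)] (𝓘.ideal U) :=
  LinearEquiv.ofBijective
    ((idealSectₗ 𝓘 U.1).codRestrict (𝓘.ideal U) (fun t => idealSect_mem_ideal 𝓘 U t))
    ⟨fun a b h => idealSect_injective 𝓘 U.1 (congrArg Subtype.val h),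
      fun ⟨a, ha⟩ => by
        obtain ⟨t, ht⟩ := exists_idealSect_eq 𝓘 U a ha
        exact ⟨t, Subtype.ext ht⟩⟩

lemma idealEquiv_apply (U : S.affineOpens) (t : Γ(ClSub.idealMod 𝓘, U.1)) :
    ((idealEquiv 𝓘 U t : 𝓘.ideal U) : Γ(S, U.1)) = idealSect 𝓘 U.1 t := rfl

end

/-- Ring-level: for a surjective algebra map `B → B̄` with kernel `I` and a `B`-module `M`
identified with `I`, `B̄ ⊗[B] M` is `I/I²`. -/
theorem exists_tensor_equiv_cotangent {B B' : Type u} [CommRing B] [CommRing B'] [Algebra B B']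
    (hsurj : Function.Surjective (algebraMap B B')) {M : Type u} [AddCommGroup M] [Module B M]
    (e₁ : M ≃ₗ[B] RingHom.ker (algebraMap B B')) :
    ∃ Θ : B' ⊗[B] M ≃ₗ[B] (RingHom.ker (algebraMap B B')).Cotangent,
      ∀ m : M, Θ ((1 : B') ⊗ₜ[B] m) = Ideal.toCotangent _ (e₁ m) := by
  let f : B →ₐ[B] B' := Algebra.ofId B B'
  have hf : Function.Surjective f := hsurj
  let e₃ : B' ≃ₗ[B] B ⧸ RingHom.ker (algebraMap B B') :=
    (Ideal.quotientKerAlgEquivOfSurjective hf).symm.toLinearEquiv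
  have he₃ : e₃ 1 = 1 := map_one (Ideal.quotientKerAlgEquivOfSurjective hf).symm
  refine ⟨(TensorProduct.congr e₃ e₁).trans
    (TensorProduct.quotTensorEquivQuotSMul (RingHom.ker (algebraMap B B'))
      (RingHom.ker (algebraMap B B'))), fun m => ?_⟩
  show TensorProduct.quotTensorEquivQuotSMul _ _ (TensorProduct.congr e₃ e₁ ((1 : B') ⊗ₜ[B] m)) = _
  rw [TensorProduct.congr_tmul, he₃, TensorProduct.quotTensorEquivQuotSMul_mk_one_tmul]
  rfl

section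

variable {X Y : Scheme.{u}} (j : X ⟶ Y) [QuasiCompact j]

set_option maxHeartbeats 1000000 in
/-- Sections of the conormal sheaf over a small affine. -/
theorem exists_conormal_equiv {V₁ : Y.Opens} (hV₁ : IsAffineOpen V₁)
    (hW : IsAffineOpen (j ⁻¹ᵁ V₁)) (hsurj : Function.Surjective (j.app V₁)) :
    letI : Algebra Γ(Y, V₁) Γ(X, j ⁻¹ᵁ V₁) := (j.appLE V₁ (j ⁻¹ᵁ V₁) le_rfl).hom.toAlgebra
    ∃ Θ : Γ(Omega.conormal j, j ⁻¹ᵁ V₁) ≃+
        (RingHom.ker (algebraMap Γ(Y, V₁) Γ(X, j ⁻¹ᵁ V₁))).Cotangent,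
      (∀ (s : Γ(ClSub.idealMod j.ker, V₁)) (x : RingHom.ker (algebraMap Γ(Y, V₁) Γ(X, j ⁻¹ᵁ V₁))),
        (x : Γ(Y, V₁)) = idealSect j.ker V₁ s →
          Θ (conormalSect j V₁ s) = Ideal.toCotangent _ x) ∧
      ∀ (b : Γ(Y, V₁)) (q : Γ(Omega.conormal j, j ⁻¹ᵁ V₁)),
        Θ (algebraMap Γ(Y, V₁) Γ(X, j ⁻¹ᵁ V₁) b • q) = b • Θ q := by
  letI : Algebra Γ(Y, V₁) Γ(X, j ⁻¹ᵁ V₁) := (j.appLE V₁ (j ⁻¹ᵁ V₁) le_rfl).hom.toAlgebra
  have happ : j.appLE V₁ (j ⁻¹ᵁ V₁) le_rfl = j.app V₁ := (Scheme.Hom.app_eq_appLE j).symm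
  have hsurj' : Function.Surjective (algebraMap Γ(Y, V₁) Γ(X, j ⁻¹ᵁ V₁)) := by
    show Function.Surjective (j.appLE V₁ (j ⁻¹ᵁ V₁) le_rfl).hom
    rw [happ]; exact hsurj
  have hker : j.ker.ideal ⟨V₁, hV₁⟩ = RingHom.ker (algebraMap Γ(Y, V₁) Γ(X, j ⁻¹ᵁ V₁)) := by
    rw [Scheme.Hom.ker_apply]
    show RingHom.ker (j.app V₁).hom = RingHom.ker (j.appLE V₁ (j ⁻¹ᵁ V₁) le_rfl).hom
    rw [happ]
  haveI : (ClSub.idealMod j.ker).IsQuasicoherent :=
    inferInstanceAs (kernel (ClSub.toSubscheme j.ker)).IsQuasicoherent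
  obtain ⟨E, hE⟩ := PullTrack.exists_sectionsPullbackEquiv j (ClSub.idealMod j.ker) hV₁ hW le_rfl
  let e₁ : Γ(ClSub.idealMod j.ker, V₁) ≃ₗ[Γ(Y, V₁)]
      RingHom.ker (algebraMap Γ(Y, V₁) Γ(X, j ⁻¹ᵁ V₁)) :=
    (idealEquiv j.ker ⟨V₁, hV₁⟩).trans (LinearEquiv.ofEq _ _ hker)
  obtain ⟨Θ, hΘ⟩ := exists_tensor_equiv_cotangent hsurj' e₁
  refine ⟨E.toAddEquiv.trans Θ.toAddEquiv, fun s x hx => ?_, fun b q => ?_⟩
  · show Θ (E (conormalSect j V₁ s)) = _
    have h1 : conormalSect j V₁ s =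
        PullTrack.pullSectLE j (ClSub.idealMod j.ker) V₁ (j ⁻¹ᵁ V₁) le_rfl s :=
      (PullTrack.pullSectLE_self j _ V₁ s).symm
    rw [h1, hE, hΘ]
    congr 1
    exact Subtype.ext hx.symm
  · have h1 : E (algebraMap Γ(Y, V₁) Γ(X, j ⁻¹ᵁ V₁) b • q) =
        algebraMap Γ(Y, V₁) Γ(X, j ⁻¹ᵁ V₁) b • E q := E.map_smul _ q
    refine (congrArg Θ h1).trans ?_
    rw [algebraMap_smul, map_smul]
    rfl

end

end Groth.Agent.H39.ConormalSect
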