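import Groth.Agent.H39.ConormalMono
import Groth.Agent.S9370

/-!
# Splitting of the conormal sequence of an immersion with a retraction
-/

set_option autoImplicit false
set_option linter.style.haveILetI false
universe u
open CategoryTheory CategoryTheory.Limits AlgebraicGeometry Opposite OmegaSh TopologicalSpace
open scoped TensorProduct

namespace Groth.Agent.H39.ConormalSplit

open Groth.Agent.H39 Groth.Agent.H8 Groth.Agent.H39.ConormalLocal Groth.Agent.H39.ConormalSect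
  Groth.Agent.H39.ConormalMono

lemma appLE_congr_hom {X Y : Scheme.{u}} {f g : X ⟶ Y} (h : f = g) (U : Y.Opens) (V : X.Opens)
    (e : V ≤ f ⁻¹ᵁ U) : f.appLE U V e = g.appLE U V (h ▸ e) := by
  subst h; rfl

lemma id_appLE_apply {X : Scheme.{u}} (U : X.Opens) (e : U ≤ (𝟙 X) ⁻¹ᵁ U) (s : Γ(X, U)) :
    (𝟙 X : X ⟶ X).appLE U U e s = s := by
  show (X.presheaf.map (homOfLE (le_refl U)).op).hom s = s
  have h2 : (homOfLE (le_refl U)).op = 𝟙 (op U) := Subsingleton.elim _ _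
  rw [h2, X.presheaf.map_id]
  rfl

section

variable {Z X S : Scheme.{u}} (f : X ⟶ S) (i : Z ⟶ X) (g : X ⟶ Z) (hgi : i ≫ g = 𝟙 Z)
  (hgS : g ≫ i ≫ f = f)
  {ΩX : X.Modules} {dX : Der f ΩX} (hX : IsUniversal dX)
  {ΩZ : Z.Modules} {dZ : Der (i ≫ f) ΩZ} (hZ : IsUniversal dZ)
  {c : (Scheme.Modules.pullback i).obj ΩX ⟶ ΩZ} (hc : IsDiffCompat i dX dZ c)

include hgi hgS hX hZ hc in
/-- A retraction `g` of `i` over `S` gives a section of `i^*Ω_{X/S} → Ω_{Z/S}`. -/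
theorem exists_section : ∃ σ : ΩZ ⟶ (Scheme.Modules.pullback i).obj ΩX, σ ≫ c = 𝟙 ΩZ := by
  obtain ⟨cg, hcg, -⟩ := Groth.Agent.S9370.result (i ≫ f) f g (𝟙 S)
    (by rw [Category.comp_id, hgS]) ΩZ dZ hZ ΩX dX hX
  refine ⟨(Scheme.Modules.pullbackId Z).inv.app ΩZ ≫
    (Scheme.Modules.pullbackCongr hgi.symm).hom.app ΩZ ≫
    (Scheme.Modules.pullbackComp i g).inv.app ΩZ ≫ (Scheme.Modules.pullback i).map cg, ?_⟩
  apply DerKit.hom_ext_of_universal hZ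
  intro U s
  have e1 : U ≤ (𝟙 Z : Z ⟶ Z) ⁻¹ᵁ U := le_rfl
  have e2 : U ≤ (i ≫ g) ⁻¹ᵁ U := hgi.symm ▸ e1
  have e3 : U ≤ i ⁻¹ᵁ (g ⁻¹ᵁ U) := e2
  have h1 : ((Scheme.Modules.pullbackId Z).inv.app ΩZ).app U (dZ.app U s) =
      PullTrack.pullSectLE (𝟙 Z) ΩZ U U e1 (dZ.app U s) := by
    rw [DerKit.pullbackId_inv_app]
    exact (PullTrack.pullSectLE_self (𝟙 Z) ΩZ U _).symm
  have h2 := PullTrack.pullbackCongr_hom_pullSectLE hgi.symm ΩZ U U e1 (dZ.app U s)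
  have h3 := PullTrack.pullbackComp_inv_pullSectLE i g ΩZ U (g ⁻¹ᵁ U) U le_rfl e3 (dZ.app U s)
  have h4 := PullTrack.map_pullSectLE i cg (g ⁻¹ᵁ U) U e3
    (PullTrack.pullSectLE g ΩZ U (g ⁻¹ᵁ U) le_rfl (dZ.app U s))
  have h5 : cg.app (g ⁻¹ᵁ U) (PullTrack.pullSectLE g ΩZ U (g ⁻¹ᵁ U) le_rfl (dZ.app U s)) =
      dX.app (g ⁻¹ᵁ U) (g.app U s) := by
    rw [PullTrack.pullSectLE_self]
    exact hcg U s
  show c.app U (((Scheme.Modules.pullback i).map cg).app U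
    (((Scheme.Modules.pullbackComp i g).inv.app ΩZ).app U
      (((Scheme.Modules.pullbackCongr hgi.symm).hom.app ΩZ).app U
        (((Scheme.Modules.pullbackId Z).inv.app ΩZ).app U (dZ.app U s))))) = dZ.app U s
  rw [h1, h2, h3, h4, h5, PullTrack.pullSectLE_apply, PullTrack.app_res, hc, ← DerAff.der_app_map]
  congr 1
  show ((i ≫ g).appLE U U e2).hom s = s
  rw [appLE_congr_hom hgi, id_appLE_apply]

end

/-- For an affine open `V₁` inside the coborder range of an immersion `j`: the preimage is affine and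
`j` is surjective on sections. -/
theorem coborder_affine' {X Y : Scheme.{u}} (j : X ⟶ Y) [IsImmersion j] {V₁ : Y.Opens}
    (hV₁ : IsAffineOpen V₁) (hle : V₁ ≤ j.coborderRange) :
    IsAffineOpen (j ⁻¹ᵁ V₁) ∧ Function.Surjective (j.app V₁) := by
  have hle' : V₁ ≤ j.coborderRange.ι.opensRange := by
    rw [Scheme.Opens.opensRange_ι]; exact hle
  have hV' : IsAffineOpen (j.coborderRange.ι ⁻¹ᵁ V₁) :=
    hV₁.preimage_of_isOpenImmersion j.coborderRange.ι hle'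
  have heq : j.coborderRange.ι ''ᵁ (j.coborderRange.ι ⁻¹ᵁ V₁) = V₁ := by
    rw [Scheme.Hom.image_preimage_eq_opensRange_inf]
    exact inf_eq_right.mpr hle'
  have h := coborder_affine j hV'
  rw [heq] at h
  exact h.2

section Refined

variable {Z X S : Scheme.{u}} (f : X ⟶ S) (i : Z ⟶ X) [IsImmersion i] (g : X ⟶ Z)

/-- Index type of the cover of `Z` by small affines stable under the retraction. -/
structure IdxR : Type u where
  U : S.Opens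
  V₁ : X.Opens
  hU : IsAffineOpen U
  hV₁ : IsAffineOpen V₁
  hW : IsAffineOpen (i ⁻¹ᵁ V₁)
  hsurj : Function.Surjective (i.app V₁)
  e₁ : V₁ ≤ f ⁻¹ᵁ U
  eg : V₁ ≤ g ⁻¹ᵁ (i ⁻¹ᵁ V₁)

variable (hgi : i ≫ g = 𝟙 Z)

include hgi in
theorem isOpenCover_idxR : IsOpenCover (fun k : IdxR f i g => i ⁻¹ᵁ k.V₁) := by
  have hpt : ∀ z : Z, g (i z) = z := fun z => by
    rw [← Scheme.Hom.comp_apply, hgi]; rfl
  rw [IsOpenCover, eq_top_iff]
  intro z _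
  obtain ⟨U, hU, hzU, -⟩ := (Opens.isBasis_iff_nbhd.mp S.isBasis_affineOpens)
    (Opens.mem_top (f (i z)))
  obtain ⟨W₀, hW₀, hzW₀, -⟩ := (Opens.isBasis_iff_nbhd.mp Z.isBasis_affineOpens)
    (Opens.mem_top z)
  have hx1 : i.liftCoborder z ∈ i.coborderRange.ι ⁻¹ᵁ (f ⁻¹ᵁ U ⊓ g ⁻¹ᵁ W₀) := by
    have h0 : i.coborderRange.ι (i.liftCoborder z) = i z := by
      rw [← Scheme.Hom.comp_apply i.liftCoborder, i.liftCoborder_ι]
    refine ⟨?_, ?_⟩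
    · show f (i.coborderRange.ι (i.liftCoborder z)) ∈ U
      rw [h0]; exact hzU
    · show g (i.coborderRange.ι (i.liftCoborder z)) ∈ W₀
      rw [h0, hpt]; exact hzW₀
  obtain ⟨V', hV', hzV', hle⟩ :=
    (Opens.isBasis_iff_nbhd.mp i.coborderRange.toScheme.isBasis_affineOpens) hx1
  obtain ⟨hV0, hW, -⟩ := coborder_affine i hV'
  have hV0le : i.coborderRange.ι ''ᵁ V' ≤ f ⁻¹ᵁ U ⊓ g ⁻¹ᵁ W₀ :=
    (i.coborderRange.ι.image_mono hle).trans (i.coborderRange.ι.image_preimage_le _)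
  have hzW : z ∈ i ⁻¹ᵁ i.coborderRange.ι ''ᵁ V' := by
    rw [← Scheme.Hom.liftCoborder_preimage]; exact hzV'
  have hWW₀ : i ⁻¹ᵁ i.coborderRange.ι ''ᵁ V' ≤ W₀ := by
    intro w hw
    have h1 : g (i w) ∈ W₀ := (hV0le hw).2
    rwa [hpt] at h1
  obtain ⟨t, htW, hzt⟩ := hW₀.exists_basicOpen_le
    (V := i ⁻¹ᵁ i.coborderRange.ι ''ᵁ V') ⟨z, hzW⟩ hzW₀
  have eg0 : i.coborderRange.ι ''ᵁ V' ≤ g ⁻¹ᵁ W₀ := hV0le.trans inf_le_right
  have hV1eq := Scheme.basicOpen_appLE g (i.coborderRange.ι ''ᵁ V') W₀ eg0 t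
  have hV1aff : IsAffineOpen (X.basicOpen (g.appLE W₀ (i.coborderRange.ι ''ᵁ V') eg0 t)) :=
    hV0.basicOpen _
  have hV1le : X.basicOpen (g.appLE W₀ (i.coborderRange.ι ''ᵁ V') eg0 t) ≤
      i.coborderRange.ι ''ᵁ V' := by rw [hV1eq]; exact inf_le_left
  have hV1cob : X.basicOpen (g.appLE W₀ (i.coborderRange.ι ''ᵁ V') eg0 t) ≤ i.coborderRange :=
    hV1le.trans (i.coborderRange.ι_image_le V')
  obtain ⟨hW1, hsurj1⟩ := coborder_affine' i hV1aff hV1cob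
  have hmem : ∀ x : X, x ∈ X.basicOpen (g.appLE W₀ (i.coborderRange.ι ''ᵁ V') eg0 t) ↔
      x ∈ i.coborderRange.ι ''ᵁ V' ∧ g x ∈ Z.basicOpen t := by
    intro x; rw [hV1eq]; rfl
  refine Opens.mem_iSup.mpr ⟨⟨U, _, hU, hV1aff, hW1, hsurj1,
    hV1le.trans (hV0le.trans inf_le_left), ?_⟩, ?_⟩
  · intro x hx
    obtain ⟨hx1, hx2⟩ := (hmem x).mp hx
    show i (g x) ∈ X.basicOpen (g.appLE W₀ (i.coborderRange.ι ''ᵁ V') eg0 t)
    rw [hmem]
    refine ⟨htW hx2, ?_⟩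
    rw [hpt]; exact hx2
  · show i z ∈ X.basicOpen (g.appLE W₀ (i.coborderRange.ι ''ᵁ V') eg0 t)
    rw [hmem]
    refine ⟨hzW, ?_⟩
    rw [hpt]; exact hzt

end Refined

section Mono

variable {Z X S : Scheme.{u}} (f : X ⟶ S) (i : Z ⟶ X) [IsImmersion i] [QuasiCompact i]
  (g : X ⟶ Z) (hgi : i ≫ g = 𝟙 Z) (hgS : g ≫ i ≫ f = f)
  {ΩX : X.Modules} {dX : Der f ΩX} (hX : IsUniversal dX)
  {φ : Omega.conormal i ⟶ (Scheme.Modules.pullback i).obj ΩX} (hφ : IsConormalDiff i dX φ)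

include hgi hgS hX hφ in
set_option maxHeartbeats 1000000 in
/-- With a retraction, `C_{Z/X} → i^*Ω_{X/S}` is a monomorphism. -/
theorem mono_conormalDiff : Mono φ := by
  haveI : ΩX.IsQuasicoherent := DerFin.isQuasicoherent_of_isUniversal f hX
  haveI : ((Scheme.Modules.pullback i).obj ΩX).IsQuasicoherent :=
    Groth.Agent.H8.isQuasicoherent_pullback i ΩX
  haveI : (ClSub.idealMod i.ker).IsQuasicoherent :=
    inferInstanceAs (kernel (ClSub.toSubscheme i.ker)).IsQuasicoherent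
  haveI : (Omega.conormal i).IsQuasicoherent :=
    Groth.Agent.H8.isQuasicoherent_pullback i (ClSub.idealMod i.ker)
  refine mono_of_injective_affine_cover φ _ (isOpenCover_idxR f i g hgi) (fun k => k.hW)
    (fun k => ?_)
  obtain ⟨U, V₁, hU, hV₁, hW, hsurj, e₁, eg⟩ := k
  refine app_injective_of_injective i f hX hφ hU hV₁ e₁ hW hsurj ?_
  have e₂ : i ⁻¹ᵁ V₁ ≤ (i ≫ f) ⁻¹ᵁ U := fun x hx => e₁ hx
  have e : i ⁻¹ᵁ V₁ ≤ i ⁻¹ᵁ V₁ := le_rfl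
  letI a1 : Algebra Γ(S, U) Γ(X, V₁) := (f.appLE U V₁ e₁).hom.toAlgebra
  letI a2 : Algebra Γ(S, U) Γ(Z, i ⁻¹ᵁ V₁) := ((i ≫ f).appLE U (i ⁻¹ᵁ V₁) e₂).hom.toAlgebra
  letI a3 : Algebra Γ(X, V₁) Γ(Z, i ⁻¹ᵁ V₁) := (i.appLE V₁ (i ⁻¹ᵁ V₁) e).hom.toAlgebra
  haveI : IsScalarTower Γ(S, U) Γ(X, V₁) Γ(Z, i ⁻¹ᵁ V₁) :=
    IsScalarTower.of_algebraMap_eq' (congrArg CommRingCat.Hom.hom
      (Scheme.Hom.appLE_comp_appLE i f U V₁ (i ⁻¹ᵁ V₁) e₁ e).symm)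
  have happ : i.appLE V₁ (i ⁻¹ᵁ V₁) e = i.app V₁ := (Scheme.Hom.app_eq_appLE i).symm
  have hsurj' : Function.Surjective (algebraMap Γ(X, V₁) Γ(Z, i ⁻¹ᵁ V₁)) := by
    show Function.Surjective (i.appLE V₁ (i ⁻¹ᵁ V₁) e).hom
    rw [happ]; exact hsurj
  have hcomm : ∀ a : Γ(S, U), (g.appLE (i ⁻¹ᵁ V₁) V₁ eg).hom
      (algebraMap Γ(S, U) Γ(Z, i ⁻¹ᵁ V₁) a) = algebraMap Γ(S, U) Γ(X, V₁) a := by
    intro a
    have h1 := congr($(Scheme.Hom.appLE_comp_appLE g (i ≫ f) U (i ⁻¹ᵁ V₁) V₁ e₂ eg) a)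
    refine h1.trans ?_
    rw [appLE_congr_hom hgS]
    rfl
  let s₀ : Γ(Z, i ⁻¹ᵁ V₁) →ₐ[Γ(S, U)] Γ(X, V₁) :=
    { (g.appLE (i ⁻¹ᵁ V₁) V₁ eg).hom with commutes' := hcomm }
  have hs : ∀ x, algebraMap Γ(X, V₁) Γ(Z, i ⁻¹ᵁ V₁) (s₀ x) = x := by
    intro x
    have h1 := congr($(Scheme.Hom.appLE_comp_appLE i g (i ⁻¹ᵁ V₁) V₁ (i ⁻¹ᵁ V₁) eg e) x)
    refine h1.trans ?_
    rw [appLE_congr_hom hgi, id_appLE_apply]
  exact kerCotangentToTensor_injective_of_section Γ(S, U) Γ(X, V₁) Γ(Z, i ⁻¹ᵁ V₁) hsurj' s₀ hs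

end Mono

/-- In an abelian category, an exact complex `A ⟶ B ⟶ C` with `A ⟶ B` mono and a section of
`B ⟶ C` has a retraction of `A ⟶ B`. -/
theorem exists_retraction_of_section {𝒜 : Type*} [Category 𝒜] [Abelian 𝒜] {A B C : 𝒜}
    (φ : A ⟶ B) (c : B ⟶ C) (w : φ ≫ c = 0) (hex : (ShortComplex.mk φ c w).Exact) [Mono φ]
    (σ : C ⟶ B) (hσ : σ ≫ c = 𝟙 C) : ∃ r : B ⟶ A, φ ≫ r = 𝟙 A := by
  haveI : Mono (ShortComplex.mk φ c w).f := ‹Mono φ›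
  have hk := hex.fIsKernel
  have he : (𝟙 B - c ≫ σ) ≫ c = 0 := by
    rw [Preadditive.sub_comp, Category.id_comp, Category.assoc, hσ, Category.comp_id, sub_self]
  refine ⟨hk.lift (KernelFork.ofι (𝟙 B - c ≫ σ) he), ?_⟩
  have h1 : hk.lift (KernelFork.ofι (𝟙 B - c ≫ σ) he) ≫ φ = 𝟙 B - c ≫ σ :=
    hk.fac (KernelFork.ofι (𝟙 B - c ≫ σ) he) WalkingParallelPair.zero
  rw [← cancel_mono φ, Category.assoc, h1, Preadditive.comp_sub, Category.comp_id,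
    ← Category.assoc, w, zero_comp, sub_zero, Category.id_comp]

section Exact

variable {X Y Z : Scheme.{u}} (f : Y ⟶ Z) (j : X ⟶ Y) [IsImmersion j] [QuasiCompact j]
  {ΩY : Y.Modules} {dY : Der f ΩY} (hY : IsUniversal dY)
  {ΩX : X.Modules} {dX : Der (j ≫ f) ΩX} (hX : IsUniversal dX)
  {φ : Omega.conormal j ⟶ (Scheme.Modules.pullback j).obj ΩY} (hφ : IsConormalDiff j dY φ)
  {c : (Scheme.Modules.pullback j).obj ΩY ⟶ ΩX} (hc : IsDiffCompat j dY dX c)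

include hY hX hφ hc in
/-- The sequence `C_{X/Y} → j^*Ω_{Y/Z} → Ω_{X/Z} → 0` is exact. -/
theorem exact_conormalDiff :
    (ShortComplex.mk φ c (conormalDiff_comp f j hφ hc)).Exact ∧ Epi c := by
  haveI : ΩY.IsQuasicoherent := DerFin.isQuasicoherent_of_isUniversal f hY
  haveI : ΩX.IsQuasicoherent := DerFin.isQuasicoherent_of_isUniversal (j ≫ f) hX
  haveI : ((Scheme.Modules.pullback j).obj ΩY).IsQuasicoherent :=
    Groth.Agent.H8.isQuasicoherent_pullback j ΩY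
  have hloc := fun k : Idx j f =>
    local_exact f j hY hX hφ hc k.hU (coborder_affine j k.hV').1 k.e₁
      (coborder_affine j k.hV').2.1 (coborder_affine j k.hV').2.2
  have haff := fun k : Idx j f => (coborder_affine j k.hV').2.1
  constructor
  · refine exact_of_exact_affine_cover (ShortComplex.mk φ c _) _ (isOpenCover_idx j f) haff
      (fun k t ht => ?_)
    obtain ⟨s, hs⟩ := (hloc k).2 t ht
    exact ⟨_, hs⟩
  · exact Groth.Agent.H18.Serre.epi_of_surjective_affine_cover c _ (isOpenCover_idx j f) haff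
      (fun k => (hloc k).1)

end Exact

end Groth.Agent.H39.ConormalSplit
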