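import Groth.Agent.H39.ConormalMapMono
import Groth.Agent.H56.LciSch
import Groth.Agent.H9.RegImmStalk

/-!
# The stalk of the conormal sheaf of an immersion vanishes iff the immersion is locally open
-/

set_option autoImplicit false
set_option linter.style.haveILetI false
universe u
open CategoryTheory CategoryTheory.Limits AlgebraicGeometry Opposite OmegaSh TopologicalSpace
open scoped TensorProduct

namespace Groth.Agent.H39.ConormalStalk

open Groth.Agent.H39 Groth.Agent.H8 Groth.Agent.H39.ConormalLocal Groth.Agent.H39.ConormalSect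
  Groth.Agent.H39.ConormalMono Groth.Agent.H39.ConormalSplit Groth.Agent.H39.ConormalMap
  Groth.Agent.H39.ConormalMapMono

section

variable {Y X : Scheme.{u}} (j : Y ⟶ X) [IsImmersion j] [QuasiCompact j]

/-- Over a small affine on which the ideal vanishes, the conormal sheaf has no sections. -/
lemma eq_zero_of_ker_eq_bot {V₁ : X.Opens} (hV₁ : IsAffineOpen V₁) (hle : V₁ ≤ j.coborderRange)
    (hker : RingHom.ker (j.app V₁).hom = ⊥) (q : Γ(Omega.conormal j, j ⁻¹ᵁ V₁)) : q = 0 := by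
  obtain ⟨hW, hsurj⟩ := coborder_affine' j hV₁ hle
  obtain ⟨s, rfl⟩ := conormalSect_surjective j hV₁ hW hsurj q
  rw [conormalSect_eq_zero_iff j hV₁ hW hsurj, hker]
  have h1 : idealSect j.ker V₁ s ∈ RingHom.ker (j.app V₁).hom := app_idealSect j V₁ s
  rw [hker] at h1
  rw [Ideal.mem_bot.mp h1]
  exact Ideal.zero_mem _

lemma mem_coborderRange (y : Y) : j y ∈ j.coborderRange := by
  have h1 : j.coborderRange.ι (j.liftCoborder y) = j y := by
    rw [← Scheme.Hom.comp_apply j.liftCoborder, j.liftCoborder_ι]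
  rw [← h1]
  exact (j.liftCoborder y).2

/-- If `j` is an open immersion near `y`, the stalk of the conormal sheaf at `y` vanishes. -/
theorem subsingleton_stalk_of_isOpenImmersion (y : Y) (U : Y.Opens) (hy : y ∈ U)
    (hU : IsOpenImmersion (U.ι ≫ j)) :
    Subsingleton ((Omega.conormal j).presheaf.stalk y) := by
  suffices h : ∀ t : (Omega.conormal j).presheaf.stalk y, t = 0 from
    ⟨fun a b => (h a).trans (h b).symm⟩
  intro t
  obtain ⟨O, hyO, q, rfl⟩ := (Omega.conormal j).presheaf.exists_germ_eq t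
  -- an open of `X` with preimage `O`
  obtain ⟨O', hO', hOeq⟩ := j.isEmbedding.isOpen_iff.mp O.2
  let O'' : X.Opens := ⟨O', hO'⟩
  have hyO'' : j y ∈ O'' := by
    show y ∈ j ⁻¹' O'
    rw [hOeq]; exact hyO
  have hyR : j y ∈ (U.ι ≫ j).opensRange := ⟨⟨y, hy⟩, rfl⟩
  have hmem : j y ∈ (U.ι ≫ j).opensRange ⊓ O'' ⊓ j.coborderRange :=
    ⟨⟨hyR, hyO''⟩, mem_coborderRange j y⟩
  obtain ⟨V₁, hV₁, hyV₁, hle⟩ := (Opens.isBasis_iff_nbhd.mp X.isBasis_affineOpens) hmem
  have hleO : j ⁻¹ᵁ V₁ ≤ O := by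
    intro z hz
    have h1 : j z ∈ O'' := (hle hz).1.2
    have h2 : z ∈ j ⁻¹' O' := h1
    rw [hOeq] at h2
    exact h2
  have hker : RingHom.ker (j.app V₁).hom = ⊥ := by
    rw [eq_bot_iff]
    intro x hx
    rw [Ideal.mem_bot]
    haveI := hU
    haveI : IsIso ((U.ι ≫ j).app V₁) :=
      Scheme.Hom.isIso_app (U.ι ≫ j) V₁ (fun z hz => (hle hz).1.1)
    have hinj : Function.Injective ((U.ι ≫ j).app V₁).hom :=
      ((ConcreteCategory.isIso_iff_bijective ((U.ι ≫ j).app V₁)).mp inferInstance).1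
    apply hinj
    rw [map_zero]
    show (U.ι.app (j ⁻¹ᵁ V₁)).hom ((j.app V₁).hom x) = 0
    rw [RingHom.mem_ker.mp hx, map_zero]
  have h0 := eq_zero_of_ker_eq_bot j hV₁ (hle.trans inf_le_right) hker
    ((Omega.conormal j).presheaf.map (homOfLE hleO).op q)
  have h1 := (Omega.conormal j).presheaf.germ_res_apply (homOfLE hleO) y hyV₁ q
  rw [← h1, h0, map_zero]

/-- The kernel of `j` on sections over a basic open is the extension of the kernel. -/
lemma ker_app_basicOpen {V₁ : X.Opens} (hV₁ : IsAffineOpen V₁) (b : Γ(X, V₁)) :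
    RingHom.ker (j.app (X.basicOpen b)).hom =
      (RingHom.ker (j.app V₁).hom).map (X.presheaf.map (homOfLE (X.basicOpen_le b)).op).hom := by
  have h := j.ker.map_ideal_basicOpen ⟨V₁, hV₁⟩ b
  rw [Scheme.Hom.ker_apply, Scheme.Hom.ker_apply] at h
  exact h.symm

/-- Finitely many classes of sections of the ideal with vanishing germs at `y` vanish on a common
neighbourhood of `y`. -/
lemma exists_open_res_eq_zero (y : Y) (h : Subsingleton ((Omega.conormal j).presheaf.stalk y))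
    {V₁ : X.Opens} (hy : y ∈ j ⁻¹ᵁ V₁) (S : Finset Γ(X, V₁)) :
    ∃ W' : Y.Opens, y ∈ W' ∧ ∃ hle : W' ≤ j ⁻¹ᵁ V₁, ∀ g ∈ S,
      ∀ s : Γ(ClSub.idealMod j.ker, V₁), idealSect j.ker V₁ s = g →
        (Omega.conormal j).presheaf.map (homOfLE hle).op (conormalSect j V₁ s) = 0 := by
  classical
  induction S using Finset.induction_on with
  | empty => exact ⟨j ⁻¹ᵁ V₁, hy, le_rfl, fun g hg => absurd hg (Finset.notMem_empty g)⟩
  | insert g S hgS ih =>
    obtain ⟨W', hyW', hle, H⟩ := ih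
    by_cases hex : ∃ s : Γ(ClSub.idealMod j.ker, V₁), idealSect j.ker V₁ s = g
    · obtain ⟨sg, hsg⟩ := hex
      have hgerm : (Omega.conormal j).presheaf.germ (j ⁻¹ᵁ V₁) y hy (conormalSect j V₁ sg) =
          (Omega.conormal j).presheaf.germ (j ⁻¹ᵁ V₁) y hy 0 := Subsingleton.elim _ _
      obtain ⟨Wg, hyWg, iU, iV, hres⟩ := (Omega.conormal j).presheaf.germ_eq y hy hy _ _ hgerm
      rw [map_zero] at hres
      have hleg : Wg ≤ j ⁻¹ᵁ V₁ := iU.le
      have hres' : (Omega.conormal j).presheaf.map (homOfLE hleg).op (conormalSect j V₁ sg) = 0 :=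
        hres
      refine ⟨W' ⊓ Wg, ⟨hyW', hyWg⟩, inf_le_left.trans hle, fun g' hg' s hs => ?_⟩
      rcases Finset.mem_insert.mp hg' with rfl | hg'S
      · have h4 : s = sg := ι_injective j.ker V₁ (hs.trans hsg.symm)
        rw [h4, ← PullTrack.res_res (Omega.conormal j) hleg (inf_le_right : W' ⊓ Wg ≤ Wg), hres',
          map_zero]
      · rw [← PullTrack.res_res (Omega.conormal j) hle (inf_le_left : W' ⊓ Wg ≤ W'),
          H g' hg'S s hs, map_zero]
    · refine ⟨W', hyW', hle, fun g' hg' s hs => ?_⟩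
      rcases Finset.mem_insert.mp hg' with rfl | hg'S
      · exact absurd ⟨s, hs⟩ hex
      · exact H g' hg'S s hs

variable [LocallyOfFinitePresentation j]

omit [IsImmersion j] [QuasiCompact j] in
lemma ker_fg {V₁ : X.Opens} (hV₁ : IsAffineOpen V₁) (hW : IsAffineOpen (j ⁻¹ᵁ V₁))
    (hsurj : Function.Surjective (j.app V₁)) : (RingHom.ker (j.app V₁).hom).FG := by
  have e0 : j ⁻¹ᵁ V₁ ≤ j ⁻¹ᵁ V₁ := le_rfl
  letI : Algebra Γ(X, V₁) Γ(Y, j ⁻¹ᵁ V₁) := (j.appLE V₁ (j ⁻¹ᵁ V₁) e0).hom.toAlgebra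
  have happ : j.appLE V₁ (j ⁻¹ᵁ V₁) e0 = j.app V₁ := (Scheme.Hom.app_eq_appLE j).symm
  haveI : Algebra.FinitePresentation Γ(X, V₁) Γ(Y, j ⁻¹ᵁ V₁) :=
    j.finitePresentation_appLE hV₁ hW e0
  have hsurj' : Function.Surjective (Algebra.ofId Γ(X, V₁) Γ(Y, j ⁻¹ᵁ V₁)) := by
    show Function.Surjective (j.appLE V₁ (j ⁻¹ᵁ V₁) e0).hom
    rw [happ]; exact hsurj
  have h := Algebra.FinitePresentation.ker_fG_of_surjective
    (Algebra.ofId Γ(X, V₁) Γ(Y, j ⁻¹ᵁ V₁)) hsurj'
  have h2 : RingHom.ker (Algebra.ofId Γ(X, V₁) Γ(Y, j ⁻¹ᵁ V₁)).toRingHom =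
      RingHom.ker (j.app V₁).hom := by
    show RingHom.ker (j.appLE V₁ (j ⁻¹ᵁ V₁) e0).hom = _
    rw [happ]
  rwa [h2] at h

set_option maxHeartbeats 1000000 in
/-- If the stalk of the conormal sheaf at `y` vanishes, `j` is an open immersion near `y`. -/
theorem exists_isOpenImmersion_of_subsingleton_stalk (y : Y)
    (h : Subsingleton ((Omega.conormal j).presheaf.stalk y)) :
    ∃ U : Y.Opens, y ∈ U ∧ IsOpenImmersion (U.ι ≫ j) := by
  classical
  obtain ⟨V₁, hV₁, hyV₁, hle⟩ :=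
    (Opens.isBasis_iff_nbhd.mp X.isBasis_affineOpens) (mem_coborderRange j y)
  obtain ⟨hW, hsurj⟩ := coborder_affine' j hV₁ hle
  have hy : y ∈ j ⁻¹ᵁ V₁ := hyV₁
  obtain ⟨S, hS⟩ := ker_fg j hV₁ hW hsurj
  obtain ⟨W', hyW', hleW', H⟩ := exists_open_res_eq_zero j y h hy S
  obtain ⟨c, hcle, hyc⟩ := hW.exists_basicOpen_le (V := W') ⟨y, hyW'⟩ hy
  obtain ⟨b, rfl⟩ := hsurj c
  have hDb : Y.basicOpen ((j.app V₁).hom b) = j ⁻¹ᵁ (X.basicOpen b) :=
    (Scheme.preimage_basicOpen j b).symm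
  rw [hDb] at hcle hyc
  have hV₂ : IsAffineOpen (X.basicOpen b) := hV₁.basicOpen b
  have hV₂le : X.basicOpen b ≤ j.coborderRange := (X.basicOpen_le b).trans hle
  obtain ⟨hW₂, hsurj₂⟩ := coborder_affine' j hV₂ hV₂le
  have hI₂ := ker_app_basicOpen j hV₁ b
  have hsq : RingHom.ker (j.app (X.basicOpen b)).hom ≤
      RingHom.ker (j.app (X.basicOpen b)).hom ^ 2 := by
    have h1 : (RingHom.ker (j.app V₁).hom).map
        (X.presheaf.map (homOfLE (X.basicOpen_le b)).op).hom ≤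
        RingHom.ker (j.app (X.basicOpen b)).hom ^ 2 := by
      rw [← hS, Ideal.map_span, Ideal.span_le]
      rintro _ ⟨g, hg, rfl⟩
      have hgker : g ∈ RingHom.ker (j.app V₁).hom := by
        rw [← hS]; exact Ideal.subset_span hg
      obtain ⟨sg, hsg⟩ := exists_idealSect_eq_of_app_eq_zero j V₁ g hgker
      have h0 := H g hg sg hsg
      have h5 := PullTrack.res_res (Omega.conormal j) hleW' hcle (conormalSect j V₁ sg)
      rw [h0, map_zero] at h5
      have h6 : conormalSect j (X.basicOpen b)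
          ((ClSub.idealMod j.ker).presheaf.map (homOfLE (X.basicOpen_le b)).op sg) = 0 :=
        (PullTrack.pullSect_res j (ClSub.idealMod j.ker) (X.basicOpen_le b) sg).trans h5.symm
      rw [conormalSect_eq_zero_iff j hV₂ hW₂ hsurj₂, idealSect_res, hsg] at h6
      exact h6
    rw [hI₂] at h1 ⊢
    exact h1
  have hfg₂ : (RingHom.ker (j.app (X.basicOpen b)).hom).FG := ker_fg j hV₂ hW₂ hsurj₂
  obtain ⟨r, hr1, hr0⟩ := Submodule.exists_sub_one_mem_and_smul_eq_zero_of_fg_of_le_smul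
    (RingHom.ker (j.app (X.basicOpen b)).hom) (RingHom.ker (j.app (X.basicOpen b)).hom) hfg₂
    (by rw [smul_eq_mul, ← pow_two]; exact hsq)
  have hV₃ : IsAffineOpen (X.basicOpen r) := hV₂.basicOpen r
  have hV₃le : X.basicOpen r ≤ j.coborderRange := (X.basicOpen_le r).trans hV₂le
  have hyV₃ : y ∈ j ⁻¹ᵁ (X.basicOpen r) := by
    rw [Scheme.preimage_basicOpen]
    have h1 : (j.app (X.basicOpen b)).hom r = 1 := by
      have h2 := RingHom.mem_ker.mp hr1
      rw [map_sub, map_one, sub_eq_zero] at h2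
      exact h2
    rw [h1, Scheme.basicOpen_of_isUnit _ isUnit_one]
    exact hyc
  have hker₃ : RingHom.ker (j.app (X.basicOpen r)).hom = ⊥ := by
    rw [ker_app_basicOpen j hV₂ r, eq_bot_iff, Ideal.map_le_iff_le_comap]
    intro x hx
    rw [Ideal.mem_comap, Ideal.mem_bot]
    have h1 : r * x = 0 := hr0 x hx
    have hu := RingedSpace.isUnit_res_basicOpen X.toRingedSpace r
    have h2 : (X.presheaf.map (homOfLE (X.basicOpen_le r)).op).hom r *
        (X.presheaf.map (homOfLE (X.basicOpen_le r)).op).hom x = 0 := by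
      rw [← map_mul, h1, map_zero]
    exact (IsUnit.mul_right_eq_zero hu).mp h2
  refine ⟨j ⁻¹ᵁ (X.basicOpen r), hyV₃, ?_⟩
  haveI : IsClosedImmersion (j ∣_ X.basicOpen r) :=
    Groth.Agent.H56.LciSch.isClosedImmersion_restrict_of_le_coborderRange j _ hV₃le
  haveI : IsAffine (X.basicOpen r).toScheme := hV₃
  haveI : IsIso (j ∣_ X.basicOpen r) := by
    apply IsClosedImmersion.isIso_of_injective_of_isAffine
    rw [RingHom.injective_iff_ker_eq_bot]
    have h3 := Groth.Agent.H9.ker_morphismRestrict_app j (X.basicOpen r) ⊤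
    have h4 : ∀ (V V' : X.Opens), V = V' → RingHom.ker (j.app V').hom = ⊥ →
        RingHom.ker (j.app V).hom = ⊥ := by
      rintro V _ rfl h; exact h
    have h5 := h4 _ _ (Scheme.Opens.ι_image_top (X.basicOpen r)) hker₃
    exact h3.trans h5
  rw [← morphismRestrict_ι]
  infer_instance

end

end Groth.Agent.H39.ConormalStalk
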