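import Groth.Agent.H39.ConormalMapMono

/-!
# The conormal sequence of a composite of immersions
`j^* C_{Y/X} → C_{Y'/X} → C_{Y'/Y} → 0` for immersions `Y' → Y → X`.
-/

set_option autoImplicit false
set_option linter.style.haveILetI false
universe u
open CategoryTheory CategoryTheory.Limits AlgebraicGeometry Opposite OmegaSh TopologicalSpace
open scoped TensorProduct

namespace Groth.Agent.H39.ConormalTrans

open Groth.Agent.H39 Groth.Agent.H8 Groth.Agent.H39.ConormalLocal Groth.Agent.H39.ConormalSect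
  Groth.Agent.H39.ConormalMono Groth.Agent.H39.ConormalSplit Groth.Agent.H39.ConormalMap
  Groth.Agent.H39.ConormalMapMono

/-- Ring level: for `A ↠ B → C`, an element of `A` whose image lies in the square of `ker (B → C)`
lies in `ker (A → C)² + ker (A → B)`. -/
theorem mem_sup_ker_of_map_mem_sq {A B C : Type*} [CommRing A] [CommRing B] [CommRing C]
    (f : A →+* B) (g : B →+* C) (hf : Function.Surjective f) (a : A)
    (ha : f a ∈ RingHom.ker g ^ 2) : a ∈ RingHom.ker (g.comp f) ^ 2 ⊔ RingHom.ker f := by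
  have h1 : RingHom.ker g = (RingHom.ker (g.comp f)).map f := by
    rw [← RingHom.comap_ker]
    exact (Ideal.map_comap_of_surjective f hf _).symm
  rw [h1, ← Ideal.map_pow] at ha
  have h2 : a ∈ Ideal.comap f (Ideal.map f (RingHom.ker (g.comp f) ^ 2)) := ha
  rw [Ideal.comap_map_of_surjective f hf] at h2
  exact h2

section Cover

variable {Y' Y X : Scheme.{u}} (f : Y ⟶ X) [IsImmersion f] (j : Y' ⟶ Y) [IsImmersion j]

/-- Index type of the cover of `Y'` by small affines adapted to the immersions `Y' ⟶ Y ⟶ X`. -/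
structure IdxT : Type u where
  U : X.Opens
  hU : IsAffineOpen U
  hUle : U ≤ f.coborderRange
  hle : f ⁻¹ᵁ U ≤ j.coborderRange

theorem isOpenCover_idxT : IsOpenCover (fun k : IdxT f j => j ⁻¹ᵁ (f ⁻¹ᵁ k.U)) := by
  rw [IsOpenCover, eq_top_iff]
  intro y' _
  have hz0 : f.liftCoborder (j y') ∈ (⊤ : f.coborderRange.toScheme.Opens) := trivial
  obtain ⟨V'f, hV'f, hzV'f, -⟩ :=
    (Opens.isBasis_iff_nbhd.mp f.coborderRange.toScheme.isBasis_affineOpens) hz0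
  obtain ⟨hU0, hV0, hsurj0⟩ := coborder_affine f hV'f
  have hzV0 : j y' ∈ f ⁻¹ᵁ f.coborderRange.ι ''ᵁ V'f := by
    rw [← Scheme.Hom.liftCoborder_preimage]; exact hzV'f
  have hjy : j y' ∈ j.coborderRange := by
    have h1 : j.coborderRange.ι (j.liftCoborder y') = j y' := by
      rw [← Scheme.Hom.comp_apply j.liftCoborder, j.liftCoborder_ι]
    rw [← h1]
    exact (j.liftCoborder y').2
  obtain ⟨t, htle, hzt⟩ := hV0.exists_basicOpen_le (V := j.coborderRange) ⟨j y', hjy⟩ hzV0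
  obtain ⟨a, rfl⟩ := hsurj0 t
  have hDa : Y.basicOpen ((f.app (f.coborderRange.ι ''ᵁ V'f)).hom a) =
      f ⁻¹ᵁ (X.basicOpen a) := (Scheme.preimage_basicOpen f a).symm
  rw [hDa] at htle hzt
  exact Opens.mem_iSup.mpr ⟨⟨X.basicOpen a, hU0.basicOpen a,
    (X.basicOpen_le a).trans (f.coborderRange.ι_image_le V'f), htle⟩, hzt⟩

end Cover

section Track

variable {Y' Y X : Scheme.{u}} (f : Y ⟶ X) (j : Y' ⟶ Y) [QuasiCompact f] [QuasiCompact j]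
  {φ₁ : (Scheme.Modules.pullback j).obj (Omega.conormal f) ⟶ Omega.conormal (j ≫ f)}
  (hφ₁ : IsConormalMap (j ≫ f) f (𝟙 X) j φ₁)
  {φ₂ : (Scheme.Modules.pullback (𝟙 Y')).obj (Omega.conormal (j ≫ f)) ⟶ Omega.conormal j}
  (hφ₂ : IsConormalMap j (j ≫ f) f (𝟙 Y') φ₂)

lemma comp_app_idealSect (U : X.Opens) (s' : Γ(ClSub.idealMod f.ker, U)) :
    ((j ≫ f).app U).hom (idealSect f.ker U s') = 0 := by
  show (j.app (f ⁻¹ᵁ U)).hom ((f.app U).hom (idealSect f.ker U s')) = 0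
  rw [app_idealSect f U s', map_zero]

include hφ₁ in
/-- The map `j^* C_{Y/X} → C_{Y'/X}` on classes of sections of the ideal of `Y`. -/
theorem track₁ (U : X.Opens) (s' : Γ(ClSub.idealMod f.ker, U)) :
    ∃ s : Γ(ClSub.idealMod (j ≫ f).ker, U),
      idealSect (j ≫ f).ker U s = idealSect f.ker U s' ∧
      φ₁.app (j ⁻¹ᵁ (f ⁻¹ᵁ U)) (pullSect j (Omega.conormal f) (f ⁻¹ᵁ U) (conormalSect f U s')) =
        conormalSect (j ≫ f) U s := by
  obtain ⟨s, hs⟩ := exists_idealSect_eq_of_app_eq_zero (j ≫ f) U _ (comp_app_idealSect f j U s')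
  refine ⟨s, hs, ?_⟩
  have h := hφ₁.2 U s' s hs (j ⁻¹ᵁ (f ⁻¹ᵁ U)) le_rfl le_rfl
  rw [PullTrack.res_self] at h
  exact h.trans (PullTrack.res_self (Omega.conormal (j ≫ f)) (le_refl ((j ≫ f) ⁻¹ᵁ U))
    (conormalSect (j ≫ f) U s))

omit [QuasiCompact f] in
include hφ₂ in
/-- The map `C_{Y'/X} → C_{Y'/Y}` on classes of sections of the ideal of `Y'` in `X`. -/
theorem track₂ (U : X.Opens) (s₂ : Γ(ClSub.idealMod (j ≫ f).ker, U)) :
    ∃ s₃ : Γ(ClSub.idealMod j.ker, f ⁻¹ᵁ U),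
      idealSect j.ker (f ⁻¹ᵁ U) s₃ = f.app U (idealSect (j ≫ f).ker U s₂) ∧
      φ₂.app (j ⁻¹ᵁ (f ⁻¹ᵁ U)) (pullSect (𝟙 Y') (Omega.conormal (j ≫ f)) (j ⁻¹ᵁ (f ⁻¹ᵁ U))
        (conormalSect (j ≫ f) U s₂)) = conormalSect j (f ⁻¹ᵁ U) s₃ := by
  obtain ⟨s₃, hs₃, h⟩ := conormalMap_track f j (j ≫ f) rfl hφ₂ U s₂
    ((𝟙 Y' : Y' ⟶ Y') ⁻¹ᵁ ((j ≫ f) ⁻¹ᵁ U)) le_rfl le_rfl
  refine ⟨s₃, hs₃, ?_⟩
  rw [PullTrack.pullSectLE_self] at h
  have h3 : PullTrack.pullSectLE j (ClSub.idealMod j.ker) (f ⁻¹ᵁ U)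
      ((𝟙 Y' : Y' ⟶ Y') ⁻¹ᵁ ((j ≫ f) ⁻¹ᵁ U)) le_rfl s₃ = conormalSect j (f ⁻¹ᵁ U) s₃ :=
    PullTrack.pullSectLE_self j (ClSub.idealMod j.ker) (f ⁻¹ᵁ U) s₃
  exact h.trans h3

end Track

section Local

variable {Y' Y X : Scheme.{u}} (f : Y ⟶ X) (j : Y' ⟶ Y) [QuasiCompact f] [QuasiCompact j]
  {φ₁ : (Scheme.Modules.pullback j).obj (Omega.conormal f) ⟶ Omega.conormal (j ≫ f)}
  (hφ₁ : IsConormalMap (j ≫ f) f (𝟙 X) j φ₁)
  {φ₂ : (Scheme.Modules.pullback (𝟙 Y')).obj (Omega.conormal (j ≫ f)) ⟶ Omega.conormal j}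
  (hφ₂ : IsConormalMap j (j ≫ f) f (𝟙 Y') φ₂)

omit [QuasiCompact f] [QuasiCompact j] in
lemma comp_app_surjective {U : X.Opens} (hsurjf : Function.Surjective (f.app U))
    (hsurjj : Function.Surjective (j.app (f ⁻¹ᵁ U))) :
    Function.Surjective ((j ≫ f).app U) := by
  show Function.Surjective ((j.app (f ⁻¹ᵁ U)).hom ∘ (f.app U).hom)
  exact hsurjj.comp hsurjf

include hφ₂ in
/-- On a small affine, `C_{Y'/X} → C_{Y'/Y}` is surjective on sections. -/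
theorem local_surjective {U : X.Opens} (hVf : IsAffineOpen (f ⁻¹ᵁ U))
    (hsurjf : Function.Surjective (f.app U)) (hW : IsAffineOpen (j ⁻¹ᵁ (f ⁻¹ᵁ U)))
    (hsurjj : Function.Surjective (j.app (f ⁻¹ᵁ U))) :
    Function.Surjective (φ₂.app (j ⁻¹ᵁ (f ⁻¹ᵁ U))) := by
  intro q₃
  obtain ⟨s₃, rfl⟩ := conormalSect_surjective j hVf hW hsurjj q₃
  obtain ⟨a, ha⟩ := hsurjf (idealSect j.ker (f ⁻¹ᵁ U) s₃)
  have h0 : ((j ≫ f).app U).hom a = 0 := by
    show (j.app (f ⁻¹ᵁ U)).hom ((f.app U).hom a) = 0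
    rw [ha]; exact app_idealSect j _ s₃
  obtain ⟨s₂, hs₂⟩ := exists_idealSect_eq_of_app_eq_zero (j ≫ f) U a h0
  obtain ⟨s₃', hs₃', h⟩ := track₂ f j hφ₂ U s₂
  have h4 : s₃' = s₃ := ι_injective j.ker (f ⁻¹ᵁ U) (by
    show idealSect _ _ s₃' = idealSect _ _ s₃
    rw [hs₃', hs₂]; exact ha)
  subst h4
  exact ⟨_, h⟩

include hφ₁ hφ₂ in
/-- On a small affine, `j^*C_{Y/X} → C_{Y'/X} → C_{Y'/Y}` is exact on sections. -/
theorem local_exact {U : X.Opens} (hU : IsAffineOpen U) (hVf : IsAffineOpen (f ⁻¹ᵁ U))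
    (hsurjf : Function.Surjective (f.app U)) (hW : IsAffineOpen (j ⁻¹ᵁ (f ⁻¹ᵁ U)))
    (hsurjj : Function.Surjective (j.app (f ⁻¹ᵁ U)))
    (q : Γ(Omega.conormal (j ≫ f), j ⁻¹ᵁ (f ⁻¹ᵁ U)))
    (hq : φ₂.app (j ⁻¹ᵁ (f ⁻¹ᵁ U))
      (pullSect (𝟙 Y') (Omega.conormal (j ≫ f)) (j ⁻¹ᵁ (f ⁻¹ᵁ U)) q) = 0) :
    ∃ t, φ₁.app (j ⁻¹ᵁ (f ⁻¹ᵁ U)) t = q := by
  have hsurjjf : Function.Surjective ((j ≫ f).app U) := comp_app_surjective f j hsurjf hsurjj
  have hW' : IsAffineOpen ((j ≫ f) ⁻¹ᵁ U) := hW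
  obtain ⟨s₂, rfl⟩ := conormalSect_surjective (j ≫ f) hU hW' hsurjjf q
  obtain ⟨s₃, hs₃, h⟩ := track₂ f j hφ₂ U s₂
  rw [h, conormalSect_eq_zero_iff j hVf hW hsurjj, hs₃] at hq
  have h1 := mem_sup_ker_of_map_mem_sq (f.app U).hom (j.app (f ⁻¹ᵁ U)).hom hsurjf _ hq
  obtain ⟨y, hy, w, hw, hyw⟩ := Submodule.mem_sup.mp h1
  obtain ⟨s₁, hs₁⟩ := exists_idealSect_eq_of_app_eq_zero f U w hw
  obtain ⟨s₂', hs₂', hφ⟩ := track₁ f j hφ₁ U s₁
  refine ⟨_, hφ.trans ?_⟩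
  have h2 : conormalSect (j ≫ f) U (s₂ - s₂') = 0 := by
    rw [conormalSect_eq_zero_iff (j ≫ f) hU hW' hsurjjf, map_sub, hs₂', hs₁, ← hyw,
      add_sub_cancel_right]
    exact hy
  rw [map_sub, sub_eq_zero] at h2
  exact h2.symm

end Local

section Global

variable {Y' Y X : Scheme.{u}} (f : Y ⟶ X) (j : Y' ⟶ Y) [QuasiCompact f] [QuasiCompact j]
  {φ₁ : (Scheme.Modules.pullback j).obj (Omega.conormal f) ⟶ Omega.conormal (j ≫ f)}
  (hφ₁ : IsConormalMap (j ≫ f) f (𝟙 X) j φ₁)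
  {φ₂ : (Scheme.Modules.pullback (𝟙 Y')).obj (Omega.conormal (j ≫ f)) ⟶ Omega.conormal j}
  (hφ₂ : IsConormalMap j (j ≫ f) f (𝟙 Y') φ₂)

include hφ₁ hφ₂ in
/-- The composite `j^*C_{Y/X} → C_{Y'/X} → C_{Y'/Y}` vanishes. -/
theorem comp_eq_zero :
    φ₁ ≫ ((Scheme.Modules.pullbackId Y').inv.app (Omega.conormal (j ≫ f)) ≫ φ₂) = 0 := by
  apply pullback_pullback_hom_ext j f
  intro U s'
  obtain ⟨s, hs, h1⟩ := track₁ f j hφ₁ U s'
  obtain ⟨s₃, hs₃, h2⟩ := track₂ f j hφ₂ U s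
  show φ₂.app _ (((Scheme.Modules.pullbackId Y').inv.app (Omega.conormal (j ≫ f))).app _
    (φ₁.app _ (pullSect j (Omega.conormal f) (f ⁻¹ᵁ U) (conormalSect f U s')))) =
    (0 : (Scheme.Modules.pullback j).obj (Omega.conormal f) ⟶ Omega.conormal j).app _ _
  rw [h1, DerKit.pullbackId_inv_app, h2]
  have h4 : s₃ = 0 := ι_injective j.ker (f ⁻¹ᵁ U) (by
    show idealSect _ _ s₃ = idealSect _ _ 0
    rw [hs₃, hs, map_zero]; exact app_idealSect f U s')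
  rw [h4, map_zero]
  rfl

variable [IsImmersion f] [IsImmersion j]

include hφ₁ hφ₂ in
/-- The sequence `j^*C_{Y/X} → C_{Y'/X} → C_{Y'/Y} → 0` is exact. -/
theorem exact_conormalTrans :
    (ShortComplex.mk φ₁ ((Scheme.Modules.pullbackId Y').inv.app (Omega.conormal (j ≫ f)) ≫ φ₂)
      (comp_eq_zero f j hφ₁ hφ₂)).Exact ∧ Epi φ₂ := by
  haveI : (ClSub.idealMod j.ker).IsQuasicoherent :=
    inferInstanceAs (kernel (ClSub.toSubscheme j.ker)).IsQuasicoherent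
  haveI : (Omega.conormal j).IsQuasicoherent :=
    Groth.Agent.H8.isQuasicoherent_pullback j (ClSub.idealMod j.ker)
  haveI : (ClSub.idealMod (j ≫ f).ker).IsQuasicoherent :=
    inferInstanceAs (kernel (ClSub.toSubscheme (j ≫ f).ker)).IsQuasicoherent
  haveI : (Omega.conormal (j ≫ f)).IsQuasicoherent :=
    Groth.Agent.H8.isQuasicoherent_pullback (j ≫ f) (ClSub.idealMod (j ≫ f).ker)
  have h1 := fun k : IdxT f j => coborder_affine' f k.hU k.hUle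
  have h2 := fun k : IdxT f j => coborder_affine' j (h1 k).1 k.hle
  have haff := fun k : IdxT f j => (h2 k).1
  constructor
  · refine exact_of_exact_affine_cover (ShortComplex.mk φ₁ _ _) _ (isOpenCover_idxT f j) haff
      (fun k t ht => ?_)
    refine local_exact f j hφ₁ hφ₂ k.hU (h1 k).1 (h1 k).2 (h2 k).1 (h2 k).2 t ?_
    rw [← DerKit.pullbackId_inv_app]
    exact ht
  · exact Groth.Agent.H18.Serre.epi_of_surjective_affine_cover φ₂ _ (isOpenCover_idxT f j) haff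
      (fun k => local_surjective f j hφ₂ (h1 k).1 (h1 k).2 (h2 k).1 (h2 k).2)

end Global

end Groth.Agent.H39.ConormalTrans
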