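import Groth.Agent.H39.DerRes

/-!
# The relative sheaf of differentials as a cokernel

For `f : X ⟶ Y`, `g : Y ⟶ S`, universal derivations `(ΩY, dY)` of `Y/S`, `(ΩX, dX)` of `X/S` and the
canonical `c : f^* ΩY ⟶ ΩX`, the cokernel of `c` carries a universal derivation of `X/Y`.
-/

set_option autoImplicit false
universe u
open CategoryTheory CategoryTheory.Limits AlgebraicGeometry Opposite OmegaSh TopologicalSpace

namespace Groth.Agent.H39.DerCoker

open Groth.Agent.H39

variable {X Y S : Scheme.{u}}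

/-- A derivation over `f ≫ g` vanishing on the functions coming from `Y` is a derivation
over `f`. -/
noncomputable def derOfVanish (f : X ⟶ Y) (g : Y ⟶ S) {F : X.Modules} (D : Der (f ≫ g) F)
    (h0 : ∀ (W : Y.Opens) (a : Γ(Y, W)), D.app (f ⁻¹ᵁ W) (f.app W a) = 0) : Der f F where
  d := D.d
  d_mul := D.d_mul
  d_map := D.d_map
  d_app {W} a := h0 W.unop a

lemma derOfVanish_app (f : X ⟶ Y) (g : Y ⟶ S) {F : X.Modules} (D : Der (f ≫ g) F)
    (h0 : ∀ (W : Y.Opens) (a : Γ(Y, W)), D.app (f ⁻¹ᵁ W) (f.app W a) = 0) (U : X.Opens)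
    (s : Γ(X, U)) : (derOfVanish f g D h0).app U s = D.app U s := rfl

variable (f : X ⟶ Y) (g : Y ⟶ S)
  {ΩY : Y.Modules} {dY : Der g ΩY} (hY : IsUniversal dY)
  {ΩX : X.Modules} {dX : Der (f ≫ g) ΩX} (hX : IsUniversal dX)
  {c : (Scheme.Modules.pullback f).obj ΩY ⟶ ΩX} (hc : IsDiffCompat f dY dX c)

include hc in
lemma coker_vanish (W : Y.Opens) (a : Γ(Y, W)) :
    Der.app (dX.postcomp (cokernel.π c).val) (f ⁻¹ᵁ W) (f.app W a) = 0 := by
  rw [DerKit.postcomp_app, ← hc W a]
  have h : c ≫ cokernel.π c = 0 := cokernel.condition c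
  exact congr(($h).app (f ⁻¹ᵁ W) (pullSect f ΩY W (dY.app W a)))

/-- The derivation `O_X → coker (f^* ΩY → ΩX)` over `Y`. -/
noncomputable def dCoker : Der f (cokernel c) :=
  derOfVanish f g (dX.postcomp (cokernel.π c).val) (coker_vanish f g hc)

lemma dCoker_app (U : X.Opens) (s : Γ(X, U)) :
    (dCoker f g hc).app U s = (cokernel.π c).app U (dX.app U s) := rfl

include hY hX in
/-- The cokernel of `f^* ΩY → ΩX` with its derivation is a sheaf of differentials of `X` over `Y`. -/
theorem isUniversal_dCoker : IsUniversal (dCoker f g hc) := by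
  intro F D
  obtain ⟨α, hα⟩ := DerKit.exists_of_universal hX (DerRes.derComp f g D)
  have hcα : c ≫ α = 0 := by
    apply DerKit.pullback_hom_ext_of_universal f hY
    intro U s
    show α.app _ (c.app _ (pullSect f ΩY U (dY.app U s))) = 0
    rw [hc U s, hα, DerRes.derComp_app]
    exact D.d_app (X := op U) s
  refine ⟨cokernel.desc c α hcα, ?_, ?_⟩
  · apply DerKit.der_ext
    intro U s
    rw [DerKit.postcomp_app, dCoker_app, ← DerRes.derComp_app f g D, ← hα U s]
    have h : cokernel.π c ≫ cokernel.desc c α hcα = α := cokernel.π_desc c α hcα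
    exact congr(($h).app U (dX.app U s))
  · intro β hβ
    rw [← cancel_epi (cokernel.π c), cokernel.π_desc]
    apply DerKit.hom_ext_of_universal hX
    intro U s
    rw [hα, DerRes.derComp_app, ← hβ, DerKit.postcomp_app, dCoker_app]
    rfl

end Groth.Agent.H39.DerCoker
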