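import Groth.Agent.H39.DerUniv
import Groth.Agent.H8.FinType

/-!
# Finiteness of sheaves of differentials
-/

set_option autoImplicit false
set_option linter.style.haveILetI false
universe u
open CategoryTheory AlgebraicGeometry Opposite OmegaSh TopologicalSpace
open AlgebraicGeometry.Scheme.Modules

namespace Groth.Agent.H39.DerFin

variable {X : Scheme.{u}} {V : X.Opens} (hV : IsAffineOpen V) (M : X.Modules)
  (N : ModuleCat.{u} Γ(X, V)) (iso : M.restrict hV.fromSpec ≅ tilde N)

set_option backward.isDefEq.respectTransparency false in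
include iso in
/-- If `M |_ Spec Γ(X, V) ≅ N~` with `N` finite then `M |_ V` has a presentation with finitely many
generators. -/
lemma exists_presentation_of_iso_tilde_of_finite (hfin : Module.Finite Γ(X, V) N) :
    ∃ P : (M.restrict V.ι).Presentation, P.generators.IsFiniteType := by
  obtain ⟨s, hs⟩ := hfin.fg_top
  let P0 : (tilde N).Presentation := presentationTilde.{u} N (↑s) hs _ (Submodule.span_eq _)
  let P1 : (M.restrict hV.fromSpec).Presentation :=
    SheafOfModules.Presentation.ofIsIso.{u, u, u} iso.inv P0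
  let isoF : restrictFunctor hV.fromSpec ⋙ restrictFunctor hV.isoSpec.hom ≅ restrictFunctor V.ι :=
    (restrictFunctorComp _ _).symm ≪≫ restrictFunctorCongr
      (by rw [← hV.isoSpec_inv_ι, Iso.hom_inv_id_assoc])
  refine ⟨SheafOfModules.Presentation.ofIsIso.{u, u, u} (isoF.app M).hom
    (presentationRestrict hV.isoSpec.hom P1), ⟨?_⟩⟩
  exact (inferInstance : Finite (↑s : Set N))

set_option backward.isDefEq.respectTransparency false in
include iso in
/-- If `M |_ Spec Γ(X, V) ≅ N~` with `N` finitely presented then `M |_ V` has a finite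
presentation. -/
lemma exists_presentation_of_iso_tilde_of_finitePresentation
    (hfp : Module.FinitePresentation Γ(X, V) N) :
    ∃ P : (M.restrict V.ι).Presentation, P.IsFinite := by
  obtain ⟨s, hs, t, ht⟩ := hfp.out
  let P0 : (tilde N).Presentation :=
    presentationTilde.{u} N (↑s) hs (show Set ((↑s : Set N) →₀ Γ(X, V)) from
      (↑t : Set (s →₀ Γ(X, V)))) ht
  let P1 : (M.restrict hV.fromSpec).Presentation :=
    SheafOfModules.Presentation.ofIsIso.{u, u, u} iso.inv P0
  let isoF : restrictFunctor hV.fromSpec ⋙ restrictFunctor hV.isoSpec.hom ≅ restrictFunctor V.ι :=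
    (restrictFunctorComp _ _).symm ≪≫ restrictFunctorCongr
      (by rw [← hV.isoSpec_inv_ι, Iso.hom_inv_id_assoc])
  refine ⟨SheafOfModules.Presentation.ofIsIso.{u, u, u} (isoF.app M).hom
    (presentationRestrict hV.isoSpec.hom P1), ⟨⟨?_⟩, ⟨?_⟩⟩⟩
  · exact (inferInstance : Finite (↑s : Set N))
  · exact (inferInstance : Finite (↑t : Set (s →₀ Γ(X, V))))

/-- Index type for the cover of `X` by affine opens lying over affine opens of `Y`. -/
structure SmallAff {X Y : Scheme.{u}} (f : X ⟶ Y) : Type u where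
  /-- the affine open of the source -/
  V : X.Opens
  /-- the affine open of the target -/
  U : Y.Opens
  hV : IsAffineOpen V
  hU : IsAffineOpen U
  le : V ≤ f ⁻¹ᵁ U

theorem isOpenCover_small {X Y : Scheme.{u}} (f : X ⟶ Y) :
    IsOpenCover (fun i : SmallAff f => i.V) := by
  rw [IsOpenCover, eq_top_iff]
  intro x _
  obtain ⟨V, ⟨hV, U, hU, e⟩, hxV, -⟩ :=
    (Opens.isBasis_iff_nbhd.mp (DerUniv.isBasis_small f)) (Opens.mem_top x)
  exact Opens.mem_iSup.mpr ⟨⟨V, U, hV, hU, e⟩, hxV⟩

/-- The sheaf of differentials of a morphism locally of finite type is of finite type. -/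
theorem isFiniteType_of_isUniversal {X Y : Scheme.{u}} (f : X ⟶ Y) [LocallyOfFiniteType f]
    {Ω : X.Modules} {d : Der f Ω} (hd : IsUniversal d) :
    SheafOfModules.IsFiniteType (R := X.ringCatSheaf) Ω := by
  have h : ∀ i : SmallAff f, ∃ P : (Ω.restrict i.V.ι).Presentation,
      P.generators.IsFiniteType := by
    intro i
    letI : Algebra Γ(Y, i.U) Γ(X, i.V) := (f.appLE i.U i.V i.le).hom.toAlgebra
    obtain ⟨iso, -, -⟩ := DerUniv.exists_iso_tilde f i.hU i.hV i.le hd
    have hft : Algebra.FiniteType Γ(Y, i.U) Γ(X, i.V) :=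
      HasRingHomProperty.appLE @LocallyOfFiniteType f ‹_› ⟨_, i.hU⟩ ⟨_, i.hV⟩ i.le
    exact exists_presentation_of_iso_tilde_of_finite i.hV Ω _ iso inferInstance
  choose P hP using h
  exact Groth.Agent.H8.isFiniteType_of_presentation_cover Ω _ (isOpenCover_small f) P hP

/-- The sheaf of differentials of a morphism locally of finite presentation is of finite
presentation. -/
theorem isFinitePresentation_of_isUniversal {X Y : Scheme.{u}} (f : X ⟶ Y)
    [LocallyOfFinitePresentation f] {Ω : X.Modules} {d : Der f Ω} (hd : IsUniversal d) :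
    SheafOfModules.IsFinitePresentation (R := X.ringCatSheaf) Ω := by
  have h : ∀ i : SmallAff f, ∃ P : (Ω.restrict i.V.ι).Presentation, P.IsFinite := by
    intro i
    letI : Algebra Γ(Y, i.U) Γ(X, i.V) := (f.appLE i.U i.V i.le).hom.toAlgebra
    obtain ⟨iso, -, -⟩ := DerUniv.exists_iso_tilde f i.hU i.hV i.le hd
    have hft : Algebra.FinitePresentation Γ(Y, i.U) Γ(X, i.V) :=
      HasRingHomProperty.appLE @LocallyOfFinitePresentation f ‹_› ⟨_, i.hU⟩ ⟨_, i.hV⟩ i.le
    exact exists_presentation_of_iso_tilde_of_finitePresentation i.hV Ω _ iso inferInstance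
  choose P hP using h
  exact Groth.Agent.H8.isFinitePresentation_of_presentation_cover Ω _ (isOpenCover_small f) P hP

/-- Any receptacle of a universal derivation is quasi-coherent. -/
theorem isQuasicoherent_of_isUniversal {X Y : Scheme.{u}} (f : X ⟶ Y)
    {Ω : X.Modules} {d : Der f Ω} (hd : IsUniversal d) : Ω.IsQuasicoherent := by
  have h : ∀ i : SmallAff f, Nonempty (Ω.restrict i.V.ι).Presentation := by
    intro i
    letI : Algebra Γ(Y, i.U) Γ(X, i.V) := (f.appLE i.U i.V i.le).hom.toAlgebra
    obtain ⟨iso, -, -⟩ := DerUniv.exists_iso_tilde f i.hU i.hV i.le hd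
    haveI : (Ω.restrict i.hV.fromSpec).IsQuasicoherent :=
      (SheafOfModules.Presentation.ofIsIso.{u, u, u} iso.inv
        (presentationTilde.{u} (DerUniv.ΩM Γ(Y, i.U) Γ(X, i.V)) .univ (by simp) _
          (Submodule.span_eq _))).isQuasicoherent
    exact Groth.Agent.H8.nonempty_presentation_restrict_ι i.hV Ω
  exact Groth.Agent.H8.isQuasicoherent_of_presentation_cover Ω _ (isOpenCover_small f)
    (fun i => (h i).some)

set_option backward.isDefEq.respectTransparency false in
/-- Sections of a sheaf of differentials over an affine open `V` lying over an affine open `U`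
are, linearly, the Kähler differentials of `Γ(X, V)` over `Γ(Y, U)`. -/
theorem nonempty_sections_linearEquiv_kaehler {X Y : Scheme.{u}} (f : X ⟶ Y)
    {Ω : X.Modules} {d : Der f Ω} (hd : IsUniversal d)
    {U : Y.Opens} (hU : IsAffineOpen U) {V : X.Opens} (hV : IsAffineOpen V) (e : V ≤ f ⁻¹ᵁ U) :
    letI : Algebra Γ(Y, U) Γ(X, V) := (f.appLE U V e).hom.toAlgebra
    Nonempty (Γ(Ω, V) ≃ₗ[Γ(X, V)] Ω[Γ(X, V)⁄Γ(Y, U)]) := by
  letI : Algebra Γ(Y, U) Γ(X, V) := (f.appLE U V e).hom.toAlgebra
  obtain ⟨iso, -, -⟩ := DerUniv.exists_iso_tilde f hU hV e hd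
  exact ⟨(Groth.Agent.H8.sectionsRestrictEquiv hV Ω).symm ≪≫ₗ
    ((moduleSpecΓFunctor (R := Γ(X, V))).mapIso iso).toLinearEquiv ≪≫ₗ
    (tilde.isoTop (DerUniv.ΩM Γ(Y, U) Γ(X, V))).symm.toLinearEquiv⟩

end Groth.Agent.H39.DerFin
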