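import Groth.Agent.H39.DerKit

/-!
# Restricting derivations along open immersions
-/

set_option autoImplicit false
universe u
open CategoryTheory AlgebraicGeometry Opposite OmegaSh TopologicalSpace

namespace Groth.Agent.H39.DerRes

open Groth.Agent.H39

variable {X Y V : Scheme.{u}}

/-- Restrict a derivation along an open immersion `j : V ⟶ X`; the target is Mathlib's
`Ω.restrict j`, whose sections over `W` are the sections of `Ω` over `j ''ᵁ W`. -/
noncomputable def derRes (j : V ⟶ X) [IsOpenImmersion j] {f : X ⟶ Y} {Ω : X.Modules}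
    (d : Der f Ω) : Der (j ≫ f) (Ω.restrict j) where
  d {W} := (d.d (X := op (j ''ᵁ W.unop))).comp (j.appIso W.unop).inv.hom.toAddMonoidHom
  d_mul {W} a b := by
    show d.d (X := op (j ''ᵁ W.unop)) ((j.appIso W.unop).inv.hom (a * b)) = _
    rw [map_mul, d.d_mul]
    rfl
  d_map {W W'} g x := by
    show d.d (X := op (j ''ᵁ W'.unop)) ((j.appIso W'.unop).inv.hom (V.presheaf.map g x)) =
      Ω.val.map (j.opensFunctor.op.map g)
        (d.d (X := op (j ''ᵁ W.unop)) ((j.appIso W.unop).inv.hom x))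
    have e1 : (j.appIso W'.unop).inv.hom (V.presheaf.map g x) =
        X.presheaf.map (j.opensFunctor.op.map g) ((j.appIso W.unop).inv.hom x) :=
      congr($(j.appIso_inv_naturality g) x)
    rw [e1]
    exact d.d_map (j.opensFunctor.op.map g) ((j.appIso W.unop).inv.hom x)
  d_app {W} a := by
    show d.d (X := op (j ''ᵁ (j ⁻¹ᵁ (f ⁻¹ᵁ W.unop))))
      ((j.appIso (j ⁻¹ᵁ (f ⁻¹ᵁ W.unop))).inv.hom ((j.app (f ⁻¹ᵁ W.unop)).hom ((f.app W.unop).hom a))) = 0
    have e1 : (j.appIso (j ⁻¹ᵁ (f ⁻¹ᵁ W.unop))).inv.hom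
        ((j.app (f ⁻¹ᵁ W.unop)).hom ((f.app W.unop).hom a)) =
        X.presheaf.map (homOfLE (Set.image_preimage_subset j (f ⁻¹ᵁ W.unop).1)).op
          ((f.app W.unop).hom a) :=
      congr($(j.app_appIso_inv (f ⁻¹ᵁ W.unop)) ((f.app W.unop).hom a))
    rw [e1]
    refine (d.d_map (X := op (f ⁻¹ᵁ W.unop)) (Y := op (j ''ᵁ (j ⁻¹ᵁ (f ⁻¹ᵁ W.unop))))
      (homOfLE (Set.image_preimage_subset j (f ⁻¹ᵁ W.unop).1)).op ((f.app W.unop).hom a)).trans ?_
    have h4 : d.d (X := op (f ⁻¹ᵁ W.unop)) ((f.app W.unop).hom a) = 0 := d.d_app _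
    exact (congrArg _ h4).trans (map_zero _)

lemma derRes_app (j : V ⟶ X) [IsOpenImmersion j] {f : X ⟶ Y} {Ω : X.Modules}
    (d : Der f Ω) (W : V.Opens) (s : Γ(V, W)) :
    (derRes j d).app W s = d.app (j ''ᵁ W) ((j.appIso W).inv s) := rfl

/-- The adjunct (for restriction ⊣ pushforward) of a map out of a restriction, on sections. -/
lemma homEquiv_res_app (j : V ⟶ X) [IsOpenImmersion j] {M : X.Modules} {F : V.Modules}
    (β : M.restrict j ⟶ F) (U : X.Opens) (x : Γ(M, U)) :
    (((Scheme.Modules.restrictAdjunction j).homEquiv M F β).app U) x =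
      β.app (j ⁻¹ᵁ U) (M.presheaf.map (homOfLE (j.image_preimage_le U)).op x) := by
  rw [Adjunction.homEquiv_unit]
  rfl

/-- The inverse adjunct (for restriction ⊣ pushforward), on sections. -/
lemma homEquiv_res_symm_app (j : V ⟶ X) [IsOpenImmersion j] {M : X.Modules} {F : V.Modules}
    (α : M ⟶ (Scheme.Modules.pushforward j).obj F) (W : V.Opens) (x : Γ(M, j ''ᵁ W)) :
    ((((Scheme.Modules.restrictAdjunction j).homEquiv M F).symm α).app W) x =
      F.presheaf.map (eqToHom (j.preimage_image_eq W).symm).op (α.app (j ''ᵁ W) x) := by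
  rw [Adjunction.homEquiv_counit]
  rfl

/-- Two maps out of `Ω.restrict j` that agree on restricted differentials are equal. -/
lemma res_hom_ext (j : V ⟶ X) [IsOpenImmersion j] {f : X ⟶ Y} {Ω : X.Modules}
    {d : Der f Ω} (hd : IsUniversal d) {F : V.Modules} (β₁ β₂ : Ω.restrict j ⟶ F)
    (h : ∀ (W : V.Opens) (s : Γ(V, W)),
      β₁.app W ((derRes j d).app W s) = β₂.app W ((derRes j d).app W s)) : β₁ = β₂ := by
  apply ((Scheme.Modules.restrictAdjunction j).homEquiv Ω F).injective
  apply DerKit.hom_ext_of_universal hd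
  intro U s
  rw [homEquiv_res_app, homEquiv_res_app]
  have e1 : Ω.presheaf.map (homOfLE (j.image_preimage_le U)).op (d.app U s) =
      (derRes j d).app (j ⁻¹ᵁ U) (j.app U s) := by
    rw [derRes_app]
    have e2 : (j.appIso (j ⁻¹ᵁ U)).inv (j.app U s) =
        X.presheaf.map (homOfLE (j.image_preimage_le U)).op s :=
      congr($(j.app_appIso_inv U) s)
    rw [e2]
    exact (d.d_map (X := op U) (Y := op (j ''ᵁ (j ⁻¹ᵁ U)))
      (homOfLE (j.image_preimage_le U)).op s).symm
  rw [e1, h]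

/-- The restriction of a universal derivation along an open immersion is universal. -/
theorem isUniversal_derRes (j : V ⟶ X) [IsOpenImmersion j] {f : X ⟶ Y} {Ω : X.Modules}
    {d : Der f Ω} (hd : IsUniversal d) : IsUniversal (derRes j d) := by
  intro F D
  have hsq : (j ≫ f) ≫ 𝟙 Y = j ≫ f := Category.comp_id _
  obtain ⟨α, hα⟩ := DerKit.exists_of_universal hd (DerKit.derPush j (𝟙 Y) hsq D)
  have key : ∀ (W : V.Opens) (s : Γ(V, W)),
      ((((Scheme.Modules.restrictAdjunction j).homEquiv Ω F).symm α).app W)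
        ((derRes j d).app W s) = D.app W s := by
    intro W s
    rw [homEquiv_res_symm_app, derRes_app, hα, DerKit.derPush_app]
    have e2 : V.presheaf.map (eqToHom (j.preimage_image_eq W).symm).op
        (j.app (j ''ᵁ W) ((j.appIso W).inv s)) = s :=
      congr($(j.appIso_inv_app_presheafMap W) s)
    refine Eq.trans ?_ (congrArg (D.app W) e2)
    exact (D.d_map (X := op (j ⁻¹ᵁ (j ''ᵁ W))) (Y := op W)
      (eqToHom (j.preimage_image_eq W).symm).op _).symm
  refine ⟨((Scheme.Modules.restrictAdjunction j).homEquiv Ω F).symm α, ?_, ?_⟩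
  · apply DerKit.der_ext
    intro W s
    rw [DerKit.postcomp_app, key]
  · intro β hβ
    apply res_hom_ext j hd
    intro W s
    rw [key, ← DerKit.postcomp_app, hβ]

/-- A derivation over `g` is a derivation over `g ≫ i`. -/
noncomputable def derComp {S : Scheme.{u}} (g : X ⟶ S) (i : S ⟶ Y) {F : X.Modules}
    (D : Der g F) : Der (g ≫ i) F where
  d := D.d
  d_mul := D.d_mul
  d_map := D.d_map
  d_app {W} a := by
    show D.d (X := op (g ⁻¹ᵁ (i ⁻¹ᵁ W.unop))) ((g.app (i ⁻¹ᵁ W.unop)).hom ((i.app W.unop).hom a)) = 0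
    exact D.d_app _

lemma derComp_app {S : Scheme.{u}} (g : X ⟶ S) (i : S ⟶ Y) {F : X.Modules}
    (D : Der g F) (U : X.Opens) (s : Γ(X, U)) : (derComp g i D).app U s = D.app U s := rfl

/-- A derivation over `g ≫ i`, with `i` an open immersion, is a derivation over `g`. -/
noncomputable def derOfComp {S : Scheme.{u}} (g : X ⟶ S) (i : S ⟶ Y) [IsOpenImmersion i]
    {F : X.Modules} (D : Der (g ≫ i) F) : Der g F where
  d := D.d
  d_mul := D.d_mul
  d_map := D.d_map
  d_app {W} a := by
    show D.d (X := op (g ⁻¹ᵁ W.unop)) ((g.app W.unop).hom a) = 0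
    have e2 : S.presheaf.map (eqToHom (i.preimage_image_eq W.unop).symm).op
        (i.app (i ''ᵁ W.unop) ((i.appIso W.unop).inv a)) = a :=
      congr($(i.appIso_inv_app_presheafMap W.unop) a)
    have e3 : (g.app W.unop).hom a =
        X.presheaf.map ((Opens.map g.base).op.map (eqToHom (i.preimage_image_eq W.unop).symm).op)
          ((g.app (i ⁻¹ᵁ (i ''ᵁ W.unop))).hom (i.app (i ''ᵁ W.unop) ((i.appIso W.unop).inv a))) := by
      conv_lhs => rw [← e2]
      exact congr($(g.naturality (eqToHom (i.preimage_image_eq W.unop).symm).op)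
        (i.app (i ''ᵁ W.unop) ((i.appIso W.unop).inv a)))
    rw [e3]
    refine (D.d_map (X := op (g ⁻¹ᵁ (i ⁻¹ᵁ (i ''ᵁ W.unop)))) (Y := op (g ⁻¹ᵁ W.unop))
      ((Opens.map g.base).op.map (eqToHom (i.preimage_image_eq W.unop).symm).op) _).trans ?_
    have h4 : D.d (X := op (g ⁻¹ᵁ (i ⁻¹ᵁ (i ''ᵁ W.unop))))
        ((g.app (i ⁻¹ᵁ (i ''ᵁ W.unop))).hom (i.app (i ''ᵁ W.unop) ((i.appIso W.unop).inv a))) = 0 :=
      D.d_app (X := op (i ''ᵁ W.unop)) ((i.appIso W.unop).inv a)
    exact (congrArg _ h4).trans (map_zero _)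

lemma derOfComp_app {S : Scheme.{u}} (g : X ⟶ S) (i : S ⟶ Y) [IsOpenImmersion i]
    {F : X.Modules} (D : Der (g ≫ i) F) (U : X.Opens) (s : Γ(X, U)) :
    (derOfComp g i D).app U s = D.app U s := rfl

/-- Universality over `g ≫ i` (with `i` an open immersion) gives universality over `g`. -/
theorem isUniversal_derOfComp {S : Scheme.{u}} (g : X ⟶ S) (i : S ⟶ Y) [IsOpenImmersion i]
    {Ω : X.Modules} {d : Der (g ≫ i) Ω} (hd : IsUniversal d) : IsUniversal (derOfComp g i d) := by
  intro F D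
  obtain ⟨α, hα, huniq⟩ := hd F (derComp g i D)
  refine ⟨α, ?_, ?_⟩
  · apply DerKit.der_ext
    intro U s
    rw [DerKit.postcomp_app, derOfComp_app, ← DerKit.postcomp_app, hα, derComp_app]
  · intro β hβ
    apply huniq
    apply DerKit.der_ext
    intro U s
    rw [DerKit.postcomp_app, ← derOfComp_app g i d, ← DerKit.postcomp_app, hβ, derComp_app]

/-- Universality over `g` gives universality over `g ≫ i` when `i` is an open immersion. -/
theorem isUniversal_derComp {S : Scheme.{u}} (g : X ⟶ S) (i : S ⟶ Y) [IsOpenImmersion i]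
    {Ω : X.Modules} {d : Der g Ω} (hd : IsUniversal d) : IsUniversal (derComp g i d) := by
  intro F D
  obtain ⟨α, hα, huniq⟩ := hd F (derOfComp g i D)
  refine ⟨α, ?_, ?_⟩
  · apply DerKit.der_ext
    intro U s
    rw [DerKit.postcomp_app, derComp_app, ← DerKit.postcomp_app, hα, derOfComp_app]
  · intro β hβ
    apply huniq
    apply DerKit.der_ext
    intro U s
    rw [DerKit.postcomp_app, ← derComp_app g i d, ← DerKit.postcomp_app, hβ, derOfComp_app]

end Groth.Agent.H39.DerRes
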