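import Groth.Agent.H39.DerFin
import Groth.Agent.H39.PullTrack

/-!
# Sections of a sheaf of differentials over small affines, linearly and compatibly with `d`
-/

set_option autoImplicit false
universe u
open CategoryTheory AlgebraicGeometry Opposite OmegaSh TopologicalSpace
open AlgebraicGeometry.Scheme.Modules

namespace Groth.Agent.H39.DerFin

open Groth.Agent.S5947 (toΓ ofΓ toΓ_apply toΓ_ofΓ ofΓ_toΓ)
open Groth.Agent.H39.DerUniv (dLoc)

lemma fromSpec_appIso_top {X : Scheme.{u}} {V : X.Opens} (hV : IsAffineOpen V)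
    (hle : hV.fromSpec ''ᵁ ⊤ ≤ V) :
    X.presheaf.map (homOfLE hle).op ≫ (hV.fromSpec.appIso ⊤).hom ≫
      (Scheme.ΓSpecIso Γ(X, V)).hom = 𝟙 _ := by
  rw [Scheme.Hom.appIso_hom', Scheme.Hom.map_appLE_assoc, Scheme.Hom.appLE, hV.fromSpec_app_self,
    Category.assoc, Category.assoc, ← Functor.map_comp_assoc]
  have : (eqToHom hV.fromSpec_preimage_self).op ≫ (homOfLE (show (⊤ : (Spec Γ(X, V)).Opens) ≤
      hV.fromSpec ⁻¹ᵁ V from fun _ _ => hV.fromSpec_preimage_self ▸ trivial)).op =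
      𝟙 (op (⊤ : (Spec Γ(X, V)).Opens)) := Subsingleton.elim _ _
  erw [this]
  rw [CategoryTheory.Functor.map_id, Category.id_comp, Iso.inv_hom_id]

set_option maxHeartbeats 1000000 in
/-- Sections of a sheaf of differentials over an affine open `V` lying over an affine open `U`
are, linearly, the Kähler differentials of `Γ(X, V)` over `Γ(Y, U)`, compatibly with `d`. -/
theorem exists_linearEquiv_kaehler_track {X Y : Scheme.{u}} (f : X ⟶ Y)
    {Ω : X.Modules} {d : Der f Ω} (hd : IsUniversal d)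
    {U : Y.Opens} (hU : IsAffineOpen U) {V : X.Opens} (hV : IsAffineOpen V) (e : V ≤ f ⁻¹ᵁ U) :
    letI : Algebra Γ(Y, U) Γ(X, V) := (f.appLE U V e).hom.toAlgebra
    ∃ ψ : Γ(Ω, V) ≃ₗ[Γ(X, V)] Ω[Γ(X, V)⁄Γ(Y, U)],
      ∀ s : Γ(X, V), ψ (d.app V s) = KaehlerDifferential.D Γ(Y, U) Γ(X, V) s := by
  letI : Algebra Γ(Y, U) Γ(X, V) := (f.appLE U V e).hom.toAlgebra
  obtain ⟨iso, h1, -⟩ := DerUniv.exists_iso_tilde f hU hV e hd
  refine ⟨(Groth.Agent.H8.sectionsRestrictEquiv hV Ω).symm ≪≫ₗ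
    ((moduleSpecΓFunctor (R := Γ(X, V))).mapIso iso).toLinearEquiv ≪≫ₗ
    (tilde.isoTop (DerUniv.ΩM Γ(Y, U) Γ(X, V))).symm.toLinearEquiv, fun s => ?_⟩
  have hle : hV.fromSpec ''ᵁ ⊤ ≤ V := by
    rw [Scheme.Hom.image_top_eq_opensRange, hV.opensRange_fromSpec]
  have e1 : hV.fromSpec ''ᵁ ⊤ = V := Groth.Agent.H8.fromSpec_image_top_eq hV
  -- the section `s` restricted and transported to `Spec Γ(X, V)`
  set s' : Γ(Spec Γ(X, V), ⊤) :=
    (hV.fromSpec.appIso ⊤).hom (X.presheaf.map (homOfLE hle).op s) with hs'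
  have hs'2 : (Scheme.ΓSpecIso Γ(X, V)).inv s = s' := by
    have h := congr($(fromSpec_appIso_top hV hle) s)
    have h2 : (Scheme.ΓSpecIso Γ(X, V)).hom s' = s := h
    rw [← h2]
    exact S5947.hom_inv s'
  -- step 1
  have k1 : (Groth.Agent.H8.sectionsRestrictEquiv hV Ω).symm (d.app V s) =
      (dLoc f d hU hV e).app ⊤ s' := by
    rw [LinearEquiv.symm_apply_eq]
    show d.app V s = Ω.presheaf.map (eqToHom e1.symm).op ((dLoc f d hU hV e).app ⊤ s')
    rw [DerUniv.dLoc_app, hs']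
    have h3 : (hV.fromSpec.appIso ⊤).inv ((hV.fromSpec.appIso ⊤).hom
        (X.presheaf.map (homOfLE hle).op s)) = X.presheaf.map (homOfLE hle).op s :=
      congr($((hV.fromSpec.appIso ⊤).hom_inv_id) (X.presheaf.map (homOfLE hle).op s))
    rw [h3, DerAff.der_app_map]
    show d.app V s = Ω.presheaf.map (homOfLE e1.ge).op
      (Ω.presheaf.map (homOfLE hle).op (d.app V s))
    rw [DerAff.resM_resM]
    exact (PullTrack.res_self Ω _ _).symm
  simp only [LinearEquiv.trans_apply]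
  rw [k1]
  have e2eq : ∀ z, ((moduleSpecΓFunctor (R := Γ(X, V))).mapIso iso).toLinearEquiv z =
      iso.hom.app ⊤ z := fun z => rfl
  erw [e2eq, h1 ⊤ s', ← hs'2]
  have h5 := DerUniv.dTilde_spec Γ(Y, U) Γ(X, V) s
  erw [h5]
  exact ofΓ_toΓ (DerUniv.ΩM Γ(Y, U) Γ(X, V)) _

end Groth.Agent.H39.DerFin
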