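import Groth.Agent.S5947
import Groth.Agent.H39.DerRes

/-!
# The universal derivation on an affine scheme: `d : O_{Spec B} → (Ω_{B/A})~`
-/

set_option autoImplicit false
universe u
open CategoryTheory AlgebraicGeometry Opposite OmegaSh TopologicalSpace

namespace Groth.Agent.H39.DerUniv

open Groth.Agent.S5947 (toΓ ofΓ toΓ_apply toΓ_ofΓ ofΓ_toΓ toΓ_smul ofΓ_smul smul_top hom_inv inv_hom)

variable (A B : Type u) [CommRing A] [CommRing B] [Algebra A B]

/-- The module of Kähler differentials as an object of `ModuleCat B`. -/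
noncomputable abbrev ΩM : ModuleCat.{u} (CommRingCat.of B) :=
  ModuleCat.of (CommRingCat.of B) Ω[B⁄A]

/-- `Spec B ⟶ Spec A`. -/
noncomputable abbrev specMap : Spec (CommRingCat.of B) ⟶ Spec (CommRingCat.of A) :=
  Spec.map (CommRingCat.ofHom (algebraMap A B))

/-- The derivation `O_{Spec B} → (Ω_{B/A})~` induced by the universal derivation of `B` over `A`. -/
noncomputable def dTilde : Der (specMap A B) (tilde (ΩM A B)) :=
  ((Groth.Agent.S5947.result A B Ω[B⁄A]).2 (KaehlerDifferential.D A B)).exists.choose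

lemma dTilde_spec (t : B) :
    (dTilde A B).app ⊤ ((Scheme.ΓSpecIso (CommRingCat.of B)).inv t) =
      toΓ (ΩM A B) (KaehlerDifferential.D A B t) :=
  ((Groth.Agent.S5947.result A B Ω[B⁄A]).2 (KaehlerDifferential.D A B)).exists.choose_spec t

variable {A B}

/-- The `B`-module structure on sections of a module over `Spec B` (with `B` a bare type). -/
noncomputable abbrev modΓ (R : CommRingCat.{u}) (G : (Spec R).Modules) (U : (Spec R).Opens) :
    Module R Γ(G, U) := inferInstance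

/-- The `B`-module structure on sections of a module over `Spec B` (with `B` a bare type). -/
@[reducible] noncomputable local instance instModΓ (G : (Spec (CommRingCat.of B)).Modules)
    (U : (Spec (CommRingCat.of B)).Opens) : Module B Γ(G, U) :=
  modΓ (CommRingCat.of B) G U

/-- A derivation of `O_{Spec B}` over `Spec A` into any module `G` induces a `B`-linear map
`Ω_{B/A} → Γ(G, ⊤)`. -/
theorem exists_lin (G : (Spec (CommRingCat.of B)).Modules) (D : Der (specMap A B) G) :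
    ∃ ℓ : Ω[B⁄A] →ₗ[B] Γ(G, ⊤), ∀ t : B,
      ℓ (KaehlerDifferential.D A B t) = D.app ⊤ ((Scheme.ΓSpecIso (CommRingCat.of B)).inv t) := by
  letI : Module A Γ(G, ⊤) := Module.compHom _ (algebraMap A B)
  haveI : IsScalarTower A B Γ(G, ⊤) := IsScalarTower.of_algebraMap_smul fun _ _ => rfl
  have hnat' : ∀ a : A, (Scheme.ΓSpecIso (CommRingCat.of B)).inv (algebraMap A B a) =
      (specMap A B).appTop ((Scheme.ΓSpecIso (CommRingCat.of A)).inv a) := by
    intro a
    exact congr($(Scheme.ΓSpecIso_inv_naturality (CommRingCat.ofHom (algebraMap A B))) a)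
  let δ₀ : B →+ Γ(G, ⊤) :=
    (D.app ⊤).comp (Scheme.ΓSpecIso (CommRingCat.of B)).inv.hom.toAddMonoidHom
  have hδ₀ : ∀ t, δ₀ t = D.app ⊤ ((Scheme.ΓSpecIso (CommRingCat.of B)).inv t) := fun t => rfl
  have hleib : ∀ t t' : B, δ₀ (t * t') = t • δ₀ t' + t' • δ₀ t := by
    intro t t'
    rw [hδ₀, hδ₀, hδ₀, map_mul, Groth.Agent.H39.DerAff.der_app_mul]
    exact congrArg₂ (· + ·) (smul_top (R := CommRingCat.of B) G t _).symm
      (smul_top (R := CommRingCat.of B) G t' _).symm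
  have hz : ∀ a : A, δ₀ (algebraMap A B a) = 0 := by
    intro a
    rw [hδ₀, hnat']
    exact Groth.Agent.H39.DerAff.der_app_app _ D ⊤ ((Scheme.ΓSpecIso (CommRingCat.of A)).inv a)
  let lin : B →ₗ[A] Γ(G, ⊤) :=
    { toFun := δ₀
      map_add' := δ₀.map_add
      map_smul' := fun a t => by
        show δ₀ (a • t) = a • δ₀ t
        rw [Algebra.smul_def, hleib, hz, smul_zero, add_zero, algebraMap_smul] }
  let Dv : Derivation A B Γ(G, ⊤) := Derivation.mk' lin hleib
  refine ⟨Dv.liftKaehlerDifferential, fun t => ?_⟩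
  rw [Derivation.liftKaehlerDifferential_comp_D]
  rfl

/-- The adjunct of a map out of `M~`, on elements. -/
lemma homEquiv_apply {R : CommRingCat.{u}} (M : ModuleCat.{u} R) (G : (Spec R).Modules)
    (α : tilde M ⟶ G) (m : M) :
    ((tilde.adjunction (R := R)).homEquiv M G α) m = α.app ⊤ (toΓ M m) := by
  rw [Adjunction.homEquiv_unit]
  rfl

/-- A linear map `M → Γ(G, ⊤)` extends to a map of modules `M~ → G`. -/
theorem exists_hom_of_lin {R : CommRingCat.{u}} (M : ModuleCat.{u} R) (G : (Spec R).Modules)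
    (ℓ : M →ₗ[R] Γ(G, ⊤)) : ∃ α : tilde M ⟶ G, ∀ m : M, α.app ⊤ (toΓ M m) = ℓ m := by
  let ℓ'' : ModuleCat.of R M ⟶ ModuleCat.of R Γ(G, ⊤) := ModuleCat.ofHom ℓ
  let ℓ' : M ⟶ (moduleSpecΓFunctor (R := R)).obj G := ℓ''
  refine ⟨((tilde.adjunction (R := R)).homEquiv M G).symm ℓ', fun m => ?_⟩
  rw [← homEquiv_apply, Equiv.apply_symm_apply]
  rfl

/-- Maps out of `M~` are determined by their effect on the global sections coming from `M`. -/
theorem tilde_hom_ext {R : CommRingCat.{u}} (M : ModuleCat.{u} R) (G : (Spec R).Modules)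
    (α β : tilde M ⟶ G) (h : ∀ m : M, α.app ⊤ (toΓ M m) = β.app ⊤ (toΓ M m)) : α = β := by
  apply ((tilde.adjunction (R := R)).homEquiv M G).injective
  ext m
  rw [homEquiv_apply, homEquiv_apply, h]

variable (A B) in
/-- `d : O_{Spec B} → (Ω_{B/A})~` is a universal derivation. -/
theorem isUniversal_dTilde : IsUniversal (dTilde A B) := by
  intro G D
  obtain ⟨ℓ, hℓ⟩ := exists_lin G D
  obtain ⟨α, hα⟩ := exists_hom_of_lin (R := CommRingCat.of B) (ΩM A B) G ℓ
  refine ⟨α, ?_, ?_⟩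
  · apply Groth.Agent.H39.DerAff.der_ext_of_top
    intro s
    rw [DerKit.postcomp_app]
    have hs : s = (Scheme.ΓSpecIso (CommRingCat.of B)).inv
        ((Scheme.ΓSpecIso (CommRingCat.of B)).hom s) := (hom_inv s).symm
    rw [hs, dTilde_spec, hα, hℓ]
  · intro β hβ
    have hβ' : ∀ t : B, β.app ⊤ (toΓ (ΩM A B) (KaehlerDifferential.D A B t)) =
        D.app ⊤ ((Scheme.ΓSpecIso (CommRingCat.of B)).inv t) := by
      intro t
      rw [← dTilde_spec, ← DerKit.postcomp_app, hβ]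
    apply tilde_hom_ext
    intro m
    have hm : m ∈ Submodule.span B (Set.range (KaehlerDifferential.D A B)) := by
      rw [KaehlerDifferential.span_range_derivation]; trivial
    induction hm using Submodule.span_induction with
    | mem x hx =>
      obtain ⟨t, rfl⟩ := hx
      rw [hβ', hα, hℓ]
    | zero => rw [map_zero, map_zero, map_zero]
    | add x y _ _ hx hy => rw [map_add, map_add, map_add, hx, hy]
    | smul b x _ hx =>
      have h1 := toΓ_smul (R := CommRingCat.of B) (ΩM A B) b x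
      rw [h1, Scheme.Modules.Hom.app_smul, Scheme.Modules.Hom.app_smul, hx]

section Cast

variable {X Y : Scheme.{u}}

/-- Transport a derivation along an equality of morphisms. -/
def derCast {f f' : X ⟶ Y} (h : f = f') {F : X.Modules} (D : Der f F) : Der f' F := h ▸ D

lemma derCast_app {f f' : X ⟶ Y} (h : f = f') {F : X.Modules} (D : Der f F) (U : X.Opens)
    (s : Γ(X, U)) : (derCast h D).app U s = D.app U s := by
  subst h; rfl

theorem isUniversal_derCast {f f' : X ⟶ Y} (h : f = f') {Ω : X.Modules} {d : Der f Ω}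
    (hd : IsUniversal d) : IsUniversal (derCast h d) := by
  subst h; exact hd

/-- Two universal derivations for the same morphism have isomorphic targets, compatibly. -/
theorem exists_iso_of_isUniversal {f : X ⟶ Y} {Ω₁ Ω₂ : X.Modules} {d₁ : Der f Ω₁} {d₂ : Der f Ω₂}
    (h₁ : IsUniversal d₁) (h₂ : IsUniversal d₂) :
    ∃ iso : Ω₁ ≅ Ω₂, (∀ (U : X.Opens) (s : Γ(X, U)), iso.hom.app U (d₁.app U s) = d₂.app U s) ∧
      ∀ (U : X.Opens) (s : Γ(X, U)), iso.inv.app U (d₂.app U s) = d₁.app U s := by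
  obtain ⟨a, ha⟩ := DerKit.exists_of_universal h₁ d₂
  obtain ⟨b, hb⟩ := DerKit.exists_of_universal h₂ d₁
  refine ⟨⟨a, b, ?_, ?_⟩, ha, hb⟩
  · apply DerKit.hom_ext_of_universal h₁
    intro U s
    show b.app U (a.app U (d₁.app U s)) = d₁.app U s
    rw [ha, hb]
  · apply DerKit.hom_ext_of_universal h₂
    intro U s
    show a.app U (b.app U (d₂.app U s)) = d₂.app U s
    rw [hb, ha]

end Cast

section Local

variable {X Y : Scheme.{u}} (f : X ⟶ Y) {Ω : X.Modules} (d : Der f Ω)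
  {U : Y.Opens} (hU : IsAffineOpen U) {V : X.Opens} (hV : IsAffineOpen V) (e : V ≤ f ⁻¹ᵁ U)

/-- The restriction of a derivation to an affine open `V` lying over an affine open `U`,
as a derivation of `Spec Γ(X, V)` over `Spec Γ(Y, U)`. -/
noncomputable def dLoc : Der (Spec.map (f.appLE U V e)) (Ω.restrict hV.fromSpec) :=
  DerRes.derOfComp (Spec.map (f.appLE U V e)) hU.fromSpec
    (derCast (IsAffineOpen.SpecMap_appLE_fromSpec f hU hV e).symm (DerRes.derRes hV.fromSpec d))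

lemma dLoc_app (W : (Spec Γ(X, V)).Opens) (s : Γ(Spec Γ(X, V), W)) :
    (dLoc f d hU hV e).app W s =
      d.app (hV.fromSpec ''ᵁ W) ((hV.fromSpec.appIso W).inv s) := by
  unfold dLoc
  rw [DerRes.derOfComp_app, derCast_app, DerRes.derRes_app]

variable {d} in
theorem isUniversal_dLoc (hd : IsUniversal d) : IsUniversal (dLoc f d hU hV e) :=
  DerRes.isUniversal_derOfComp _ _ (isUniversal_derCast _ (DerRes.isUniversal_derRes _ hd))

variable {d} in
/-- **Local structure of a sheaf of differentials**: on an affine open `V` over an affine open `U`,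
any receptacle of a universal derivation is the sheaf associated with `Ω[Γ(X,V)⁄Γ(Y,U)]`. -/
theorem exists_iso_tilde (hd : IsUniversal d) :
    letI : Algebra Γ(Y, U) Γ(X, V) := (f.appLE U V e).hom.toAlgebra
    ∃ iso : Ω.restrict hV.fromSpec ≅ tilde (ΩM Γ(Y, U) Γ(X, V)),
      (∀ (W : (Spec Γ(X, V)).Opens) (s : Γ(Spec Γ(X, V), W)),
        iso.hom.app W ((dLoc f d hU hV e).app W s) = (dTilde Γ(Y, U) Γ(X, V)).app W s) ∧
      ∀ (W : (Spec Γ(X, V)).Opens) (s : Γ(Spec Γ(X, V), W)),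
        iso.inv.app W ((dTilde Γ(Y, U) Γ(X, V)).app W s) = (dLoc f d hU hV e).app W s := by
  letI : Algebra Γ(Y, U) Γ(X, V) := (f.appLE U V e).hom.toAlgebra
  exact exists_iso_of_isUniversal (f := Spec.map (f.appLE U V e))
    (isUniversal_dLoc f hU hV e hd) (isUniversal_dTilde Γ(Y, U) Γ(X, V))

variable {d} in
include hU in
/-- Sections of a sheaf of differentials over a small affine open are the Kähler differentials,
compatibly with the derivations. -/
theorem exists_addEquiv_kaehler (hd : IsUniversal d) :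
    letI : Algebra Γ(Y, U) Γ(X, V) := (f.appLE U V e).hom.toAlgebra
    ∃ ψ : Γ(Ω, hV.fromSpec ''ᵁ ⊤) ≃+ Ω[Γ(X, V)⁄Γ(Y, U)],
      ∀ x : Γ(X, hV.fromSpec ''ᵁ ⊤), ψ (d.app (hV.fromSpec ''ᵁ ⊤) x) =
        KaehlerDifferential.D Γ(Y, U) Γ(X, V)
          ((Scheme.ΓSpecIso Γ(X, V)).hom ((hV.fromSpec.appIso ⊤).hom x)) := by
  letI : Algebra Γ(Y, U) Γ(X, V) := (f.appLE U V e).hom.toAlgebra
  obtain ⟨iso, h1, h2⟩ := exists_iso_tilde f hU hV e hd
  let ψ₁ : Γ(Ω, hV.fromSpec ''ᵁ ⊤) →+ Ω[Γ(X, V)⁄Γ(Y, U)] :=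
    (ofΓ (ΩM Γ(Y, U) Γ(X, V))).comp (iso.hom.app ⊤).hom
  let ψ₂ : Ω[Γ(X, V)⁄Γ(Y, U)] →+ Γ(Ω, hV.fromSpec ''ᵁ ⊤) :=
    (iso.inv.app ⊤).hom.comp (toΓ (ΩM Γ(Y, U) Γ(X, V)))
  have h12 : ∀ x, ψ₂ (ψ₁ x) = x := by
    intro x
    show iso.inv.app ⊤ (toΓ _ (ofΓ _ (iso.hom.app ⊤ x))) = x
    rw [toΓ_ofΓ]
    exact congr($(iso.hom_inv_id).app ⊤ x)
  have h21 : ∀ m, ψ₁ (ψ₂ m) = m := by
    intro m
    show ofΓ _ (iso.hom.app ⊤ (iso.inv.app ⊤ (toΓ _ m))) = m
    have : iso.hom.app ⊤ (iso.inv.app ⊤ (toΓ (ΩM Γ(Y, U) Γ(X, V)) m)) = toΓ _ m :=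
      congr($(iso.inv_hom_id).app ⊤ (toΓ (ΩM Γ(Y, U) Γ(X, V)) m))
    rw [this, ofΓ_toΓ]
  refine ⟨{ toFun := ψ₁, invFun := ψ₂, left_inv := h12, right_inv := h21,
            map_add' := ψ₁.map_add }, fun x => ?_⟩
  show ofΓ _ (iso.hom.app ⊤ (d.app (hV.fromSpec ''ᵁ ⊤) x)) = _
  have e1 : d.app (hV.fromSpec ''ᵁ ⊤) x =
      (dLoc f d hU hV e).app ⊤ ((hV.fromSpec.appIso ⊤).hom x) := by
    rw [dLoc_app]
    congr 1
    exact (congr($((hV.fromSpec.appIso ⊤).hom_inv_id) x)).symm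
  rw [e1, h1]
  have e2 : (hV.fromSpec.appIso ⊤).hom x = (Scheme.ΓSpecIso Γ(X, V)).inv
      ((Scheme.ΓSpecIso Γ(X, V)).hom ((hV.fromSpec.appIso ⊤).hom x)) := (hom_inv _).symm
  rw [e2]
  refine (congrArg (ofΓ (ΩM Γ(Y, U) Γ(X, V))) (dTilde_spec Γ(Y, U) Γ(X, V) _)).trans ?_
  rw [ofΓ_toΓ, inv_hom]

end Local

/-- The affine opens of `X` lying over an affine open of `Y` form a basis. -/
lemma isBasis_small {X Y : Scheme.{u}} (f : X ⟶ Y) :
    Opens.IsBasis {V : X.Opens | IsAffineOpen V ∧ ∃ U : Y.Opens, IsAffineOpen U ∧ V ≤ f ⁻¹ᵁ U} := by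
  rw [Opens.isBasis_iff_nbhd]
  intro W x hxW
  obtain ⟨U, hU, hxU, -⟩ :=
    (Opens.isBasis_iff_nbhd.mp (Y.isBasis_affineOpens)) (Opens.mem_top (f.base x))
  have hx' : x ∈ W ⊓ f ⁻¹ᵁ U := ⟨hxW, hxU⟩
  obtain ⟨V, hV, hxV, hVW⟩ :=
    (Opens.isBasis_iff_nbhd.mp (X.isBasis_affineOpens)) hx'
  exact ⟨V, ⟨hV, U, hU, hVW.trans inf_le_right⟩, hxV, hVW.trans inf_le_left⟩

end Groth.Agent.H39.DerUniv
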