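import Mathlib.RingTheory.Kaehler.TensorProduct
import Mathlib.RingTheory.Etale.Kaehler

/-!
# Ring-level glue: a comparison map of modules of differentials is bijective once it is pinned on
the generators `d s`
-/

set_option autoImplicit false
universe u
open scoped TensorProduct
open KaehlerDifferential

namespace Groth.Agent.H39.KaehlerGlue

variable {A B A' B' : Type u} [CommRing A] [CommRing B] [CommRing A'] [CommRing B']
  [Algebra A B] [Algebra A' B'] [Algebra B B']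

/-- Two `B`-semilinear additive maps out of `Ω[B⁄A]` agreeing on all `D s` are equal. -/
lemma ext_of_D {N : Type u} [AddCommGroup N] [Module B' N] (φ₁ φ₂ : Ω[B⁄A] →+ N)
    (h₁ : ∀ (b : B) (ω : Ω[B⁄A]), φ₁ (b • ω) = algebraMap B B' b • φ₁ ω)
    (h₂ : ∀ (b : B) (ω : Ω[B⁄A]), φ₂ (b • ω) = algebraMap B B' b • φ₂ ω)
    (h : ∀ s : B, φ₁ (D A B s) = φ₂ (D A B s)) (ω : Ω[B⁄A]) : φ₁ ω = φ₂ ω := by
  have hm : ω ∈ Submodule.span B (Set.range (D A B)) := by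
    rw [KaehlerDifferential.span_range_derivation]; trivial
  induction hm using Submodule.span_induction with
  | mem x hx => obtain ⟨t, rfl⟩ := hx; exact h t
  | zero => rw [map_zero, map_zero]
  | add x y _ _ hx hy => rw [map_add, map_add, hx, hy]
  | smul b x _ hx => rw [h₁, h₂, hx]

/-- The comparison map is bijective once pinned on generators. -/
theorem bijective_of_tracking
    {P : Type u} [AddCommGroup P] [Module B P] (ψ : P ≃ₗ[B] Ω[B⁄A]) (dP : B → P)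
    (hψ : ∀ s, ψ (dP s) = D A B s)
    {Q : Type u} [AddCommGroup Q] [Module B' Q] (E : Q ≃ₗ[B'] B' ⊗[B] P) (pb : P → Q)
    (hE : ∀ p, E (pb p) = (1 : B') ⊗ₜ[B] p)
    {Q' : Type u} [AddCommGroup Q'] [Module B' Q'] (ψ' : Q' ≃ₗ[B'] Ω[B'⁄A']) (dQ' : B' → Q')
    (hψ' : ∀ t, ψ' (dQ' t) = D A' B' t)
    (cmap : Q →ₗ[B'] Q') (hc : ∀ s : B, cmap (pb (dP s)) = dQ' (algebraMap B B' s))
    (T : B' ⊗[B] Ω[B⁄A] ≃ₗ[B'] Ω[B'⁄A'])
    (hT : ∀ s : B, T ((1 : B') ⊗ₜ[B] D A B s) = D A' B' (algebraMap B B' s)) :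
    Function.Bijective cmap := by
  -- the two maps `Ω[B⁄A] → Ω[B'⁄A']`
  let φ₁ : Ω[B⁄A] →+ Ω[B'⁄A'] :=
    { toFun := fun ω => ψ' (cmap (E.symm ((1 : B') ⊗ₜ[B] ψ.symm ω)))
      map_zero' := by simp
      map_add' := fun x y => by simp [TensorProduct.tmul_add] }
  let φ₂ : Ω[B⁄A] →+ Ω[B'⁄A'] :=
    { toFun := fun ω => T ((1 : B') ⊗ₜ[B] ω)
      map_zero' := by simp
      map_add' := fun x y => by simp [TensorProduct.tmul_add] }
  have hsm : ∀ (b : B) (p : P), (1 : B') ⊗ₜ[B] (b • p) = algebraMap B B' b • ((1 : B') ⊗ₜ[B] p) := by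
    intro b p
    rw [TensorProduct.smul_tmul', ← TensorProduct.smul_tmul, Algebra.smul_def, mul_one,
      smul_eq_mul, mul_one]
  have hsm' : ∀ (b : B) (ω : Ω[B⁄A]),
      (1 : B') ⊗ₜ[B] (b • ω) = algebraMap B B' b • ((1 : B') ⊗ₜ[B] ω) := by
    intro b p
    rw [TensorProduct.smul_tmul', ← TensorProduct.smul_tmul, Algebra.smul_def, mul_one,
      smul_eq_mul, mul_one]
  have h₁ : ∀ (b : B) (ω : Ω[B⁄A]), φ₁ (b • ω) = algebraMap B B' b • φ₁ ω := by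
    intro b ω
    show ψ' (cmap (E.symm ((1 : B') ⊗ₜ[B] ψ.symm (b • ω)))) =
      algebraMap B B' b • ψ' (cmap (E.symm ((1 : B') ⊗ₜ[B] ψ.symm ω)))
    rw [map_smul, hsm, map_smul, map_smul, map_smul]
  have h₂ : ∀ (b : B) (ω : Ω[B⁄A]), φ₂ (b • ω) = algebraMap B B' b • φ₂ ω := by
    intro b ω
    show T ((1 : B') ⊗ₜ[B] (b • ω)) = algebraMap B B' b • T ((1 : B') ⊗ₜ[B] ω)
    rw [hsm', map_smul]
  have h12 : ∀ ω, φ₁ ω = φ₂ ω := by
    apply ext_of_D (B' := B') φ₁ φ₂ h₁ h₂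
    intro s
    show ψ' (cmap (E.symm ((1 : B') ⊗ₜ[B] ψ.symm (D A B s)))) = T ((1 : B') ⊗ₜ[B] D A B s)
    rw [← hψ s, LinearEquiv.symm_apply_apply, ← hE, LinearEquiv.symm_apply_apply, hc, hψ', hψ, hT]
  -- the factorisation of `cmap`
  have key : ∀ q : Q, ψ' (cmap q) =
      T ((LinearEquiv.baseChange B B' P Ω[B⁄A] ψ) (E q)) := by
    intro q
    obtain ⟨t, rfl⟩ := E.symm.surjective q
    rw [LinearEquiv.apply_symm_apply]
    induction t using TensorProduct.induction_on with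
    | zero => simp
    | add x y hx hy => rw [map_add, map_add, map_add, hx, hy, map_add, map_add]
    | tmul b p =>
      have hb : b ⊗ₜ[B] p = b • ((1 : B') ⊗ₜ[B] p) := by
        rw [TensorProduct.smul_tmul', smul_eq_mul, mul_one]
      rw [hb, map_smul, map_smul, map_smul, map_smul, map_smul, LinearEquiv.baseChange_tmul]
      congr 1
      have h3 : ψ' (cmap (E.symm ((1 : B') ⊗ₜ[B] ψ.symm (ψ p)))) = T ((1 : B') ⊗ₜ[B] ψ p) :=
        h12 (ψ p)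
      rw [LinearEquiv.symm_apply_apply] at h3
      exact h3
  have hfac : ⇑cmap = ψ'.symm ∘ T ∘ (LinearEquiv.baseChange B B' P Ω[B⁄A] ψ) ∘ E := by
    funext q
    show cmap q = ψ'.symm (T ((LinearEquiv.baseChange B B' P Ω[B⁄A] ψ) (E q)))
    rw [← key q, LinearEquiv.symm_apply_apply]
  rw [hfac]
  exact ψ'.symm.bijective.comp (T.bijective.comp
    ((LinearEquiv.baseChange B B' P Ω[B⁄A] ψ).bijective.comp E.bijective))

/-- The comparison map factors through any linear map pinned on generators. -/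
theorem factor_of_tracking
    {P : Type u} [AddCommGroup P] [Module B P] (ψ : P ≃ₗ[B] Ω[B⁄A]) (dP : B → P)
    (hψ : ∀ s, ψ (dP s) = D A B s)
    {Q : Type u} [AddCommGroup Q] [Module B' Q] (E : Q ≃ₗ[B'] B' ⊗[B] P) (pb : P → Q)
    (hE : ∀ p, E (pb p) = (1 : B') ⊗ₜ[B] p)
    {Q' : Type u} [AddCommGroup Q'] [Module B' Q'] (ψ' : Q' ≃ₗ[B'] Ω[B'⁄A']) (dQ' : B' → Q')
    (hψ' : ∀ t, ψ' (dQ' t) = D A' B' t)
    (cmap : Q →ₗ[B'] Q') (hc : ∀ s : B, cmap (pb (dP s)) = dQ' (algebraMap B B' s))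
    (T : B' ⊗[B] Ω[B⁄A] →ₗ[B'] Ω[B'⁄A'])
    (hT : ∀ s : B, T ((1 : B') ⊗ₜ[B] D A B s) = D A' B' (algebraMap B B' s)) (q : Q) :
    ψ' (cmap q) = T ((LinearEquiv.baseChange B B' P Ω[B⁄A] ψ) (E q)) := by
  let φ₁ : Ω[B⁄A] →+ Ω[B'⁄A'] :=
    { toFun := fun ω => ψ' (cmap (E.symm ((1 : B') ⊗ₜ[B] ψ.symm ω)))
      map_zero' := by simp
      map_add' := fun x y => by simp [TensorProduct.tmul_add] }
  let φ₂ : Ω[B⁄A] →+ Ω[B'⁄A'] :=
    { toFun := fun ω => T ((1 : B') ⊗ₜ[B] ω)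
      map_zero' := by simp
      map_add' := fun x y => by simp [TensorProduct.tmul_add] }
  have hsm : ∀ (b : B) (p : P), (1 : B') ⊗ₜ[B] (b • p) = algebraMap B B' b • ((1 : B') ⊗ₜ[B] p) := by
    intro b p
    rw [TensorProduct.smul_tmul', ← TensorProduct.smul_tmul, Algebra.smul_def, mul_one,
      smul_eq_mul, mul_one]
  have hsm' : ∀ (b : B) (ω : Ω[B⁄A]),
      (1 : B') ⊗ₜ[B] (b • ω) = algebraMap B B' b • ((1 : B') ⊗ₜ[B] ω) := by
    intro b p
    rw [TensorProduct.smul_tmul', ← TensorProduct.smul_tmul, Algebra.smul_def, mul_one,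
      smul_eq_mul, mul_one]
  have h₁ : ∀ (b : B) (ω : Ω[B⁄A]), φ₁ (b • ω) = algebraMap B B' b • φ₁ ω := by
    intro b ω
    show ψ' (cmap (E.symm ((1 : B') ⊗ₜ[B] ψ.symm (b • ω)))) =
      algebraMap B B' b • ψ' (cmap (E.symm ((1 : B') ⊗ₜ[B] ψ.symm ω)))
    rw [map_smul, hsm, map_smul, map_smul, map_smul]
  have h₂ : ∀ (b : B) (ω : Ω[B⁄A]), φ₂ (b • ω) = algebraMap B B' b • φ₂ ω := by
    intro b ω
    show T ((1 : B') ⊗ₜ[B] (b • ω)) = algebraMap B B' b • T ((1 : B') ⊗ₜ[B] ω)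
    rw [hsm', map_smul]
  have h12 : ∀ ω, φ₁ ω = φ₂ ω := by
    apply ext_of_D (B' := B') φ₁ φ₂ h₁ h₂
    intro s
    show ψ' (cmap (E.symm ((1 : B') ⊗ₜ[B] ψ.symm (D A B s)))) = T ((1 : B') ⊗ₜ[B] D A B s)
    rw [← hψ s, LinearEquiv.symm_apply_apply, ← hE, LinearEquiv.symm_apply_apply, hc, hψ', hψ, hT]
  obtain ⟨t, rfl⟩ := E.symm.surjective q
  rw [LinearEquiv.apply_symm_apply]
  induction t using TensorProduct.induction_on with
  | zero => simp
  | add x y hx hy => rw [map_add, map_add, map_add, hx, hy, map_add, map_add]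
  | tmul b p =>
    have hb : b ⊗ₜ[B] p = b • ((1 : B') ⊗ₜ[B] p) := by
      rw [TensorProduct.smul_tmul', smul_eq_mul, mul_one]
    rw [hb, map_smul, map_smul, map_smul, map_smul, map_smul, LinearEquiv.baseChange_tmul]
    congr 1
    have h3 : ψ' (cmap (E.symm ((1 : B') ⊗ₜ[B] ψ.symm (ψ p)))) = T ((1 : B') ⊗ₜ[B] ψ p) :=
      h12 (ψ p)
    rw [LinearEquiv.symm_apply_apply] at h3
    exact h3

/-- The comparison isomorphism of Kähler differentials for a commutative square of rings whose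
horizontal maps are formally étale (formally unramified suffices on the base). -/
theorem exists_equiv_of_etale {A₁ B₁ A₂ B₂ : Type u} [CommRing A₁] [CommRing B₁] [CommRing A₂]
    [CommRing B₂] [Algebra A₁ B₁] [Algebra A₂ B₂] [Algebra B₁ B₂] [Algebra A₁ A₂] [Algebra A₁ B₂]
    [IsScalarTower A₁ B₁ B₂] [IsScalarTower A₁ A₂ B₂] [Algebra.FormallyEtale B₁ B₂]
    [Algebra.FormallyUnramified A₁ A₂] :
    ∃ T : B₂ ⊗[B₁] Ω[B₁⁄A₁] ≃ₗ[B₂] Ω[B₂⁄A₂],
      ∀ s : B₁, T ((1 : B₂) ⊗ₜ[B₁] D A₁ B₁ s) = D A₂ B₂ (algebraMap B₁ B₂ s) := by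
  have hinj : Function.Injective (KaehlerDifferential.map A₁ A₂ B₂ B₂) := by
    rw [injective_iff_map_eq_zero]
    intro x hx
    obtain ⟨y, rfl⟩ := (KaehlerDifferential.exact_mapBaseChange_map A₁ A₂ B₂ x).mp hx
    rw [Subsingleton.elim y 0, map_zero]
  let T₂ : Ω[B₂⁄A₁] ≃ₗ[B₂] Ω[B₂⁄A₂] :=
    LinearEquiv.ofBijective (KaehlerDifferential.map A₁ A₂ B₂ B₂)
      ⟨hinj, KaehlerDifferential.map_surjective A₁ A₂ B₂⟩
  refine ⟨(KaehlerDifferential.tensorKaehlerEquivOfFormallyEtale A₁ B₁ B₂).trans T₂, fun s => ?_⟩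
  show KaehlerDifferential.map A₁ A₂ B₂ B₂
    (KaehlerDifferential.tensorKaehlerEquivOfFormallyEtale A₁ B₁ B₂ ((1 : B₂) ⊗ₜ[B₁] D A₁ B₁ s)) = _
  rw [KaehlerDifferential.tensorKaehlerEquivOfFormallyEtale_apply,
    KaehlerDifferential.mapBaseChange_tmul, one_smul, KaehlerDifferential.map_D,
    KaehlerDifferential.map_D]
  rfl

end Groth.Agent.H39.KaehlerGlue
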