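import Groth.Agent.H39.DerTrack
import Groth.Agent.H39.PullTrack5
import Groth.Agent.H39.KaehlerGlue
import Groth.Agent.H8.IsoCover
import Groth.Agent.H8.PullbackStalk

/-!
# The canonical map `f^* Ω₁ ⟶ Ω₂` on sections over small affines
-/

set_option autoImplicit false
set_option linter.style.haveILetI false
universe u
open CategoryTheory AlgebraicGeometry Opposite OmegaSh TopologicalSpace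
open scoped TensorProduct

namespace Groth.Agent.H39.DiffCompatLocal

open Groth.Agent.H39

variable {X₁ S₁ X₂ S₂ : Scheme.{u}} (p₁ : X₁ ⟶ S₁) (p₂ : X₂ ⟶ S₂) (f : X₂ ⟶ X₁)
  {Ω₁ : X₁.Modules} {d₁ : Der p₁ Ω₁} (hd₁ : IsUniversal d₁)
  {Ω₂ : X₂.Modules} {d₂ : Der p₂ Ω₂} (hd₂ : IsUniversal d₂)
  {c : (Scheme.Modules.pullback f).obj Ω₁ ⟶ Ω₂} (hc : IsDiffCompat f d₁ d₂ c)
  {U₁ : S₁.Opens} (hU₁ : IsAffineOpen U₁) {V₁ : X₁.Opens} (hV₁ : IsAffineOpen V₁)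
  (e₁ : V₁ ≤ p₁ ⁻¹ᵁ U₁)
  {U₂ : S₂.Opens} (hU₂ : IsAffineOpen U₂) {V₂ : X₂.Opens} (hV₂ : IsAffineOpen V₂)
  (e₂ : V₂ ≤ p₂ ⁻¹ᵁ U₂) (e : V₂ ≤ f ⁻¹ᵁ V₁)

include hd₁ hd₂ hc hU₁ hV₁ hU₂ hV₂ in
set_option maxHeartbeats 1000000 in
/-- If the ring-level comparison map of Kähler differentials is bijective, so is the canonical map
`f^* Ω₁ ⟶ Ω₂` on sections over `V₂`. -/
theorem app_bijective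
    (T : letI : Algebra Γ(S₁, U₁) Γ(X₁, V₁) := (p₁.appLE U₁ V₁ e₁).hom.toAlgebra
      letI : Algebra Γ(S₂, U₂) Γ(X₂, V₂) := (p₂.appLE U₂ V₂ e₂).hom.toAlgebra
      letI : Algebra Γ(X₁, V₁) Γ(X₂, V₂) := (f.appLE V₁ V₂ e).hom.toAlgebra
      Γ(X₂, V₂) ⊗[Γ(X₁, V₁)] Ω[Γ(X₁, V₁)⁄Γ(S₁, U₁)] ≃ₗ[Γ(X₂, V₂)] Ω[Γ(X₂, V₂)⁄Γ(S₂, U₂)])
    (hT : letI : Algebra Γ(S₁, U₁) Γ(X₁, V₁) := (p₁.appLE U₁ V₁ e₁).hom.toAlgebra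
      letI : Algebra Γ(S₂, U₂) Γ(X₂, V₂) := (p₂.appLE U₂ V₂ e₂).hom.toAlgebra
      letI : Algebra Γ(X₁, V₁) Γ(X₂, V₂) := (f.appLE V₁ V₂ e).hom.toAlgebra
      ∀ s : Γ(X₁, V₁), T ((1 : Γ(X₂, V₂)) ⊗ₜ[Γ(X₁, V₁)] KaehlerDifferential.D Γ(S₁, U₁) Γ(X₁, V₁) s) =
        KaehlerDifferential.D Γ(S₂, U₂) Γ(X₂, V₂) (f.appLE V₁ V₂ e s)) :
    Function.Bijective (c.app V₂) := by
  letI : Algebra Γ(S₁, U₁) Γ(X₁, V₁) := (p₁.appLE U₁ V₁ e₁).hom.toAlgebra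
  letI : Algebra Γ(S₂, U₂) Γ(X₂, V₂) := (p₂.appLE U₂ V₂ e₂).hom.toAlgebra
  letI : Algebra Γ(X₁, V₁) Γ(X₂, V₂) := (f.appLE V₁ V₂ e).hom.toAlgebra
  haveI : Ω₁.IsQuasicoherent := DerFin.isQuasicoherent_of_isUniversal p₁ hd₁
  obtain ⟨ψ, hψ⟩ := DerFin.exists_linearEquiv_kaehler_track p₁ hd₁ hU₁ hV₁ e₁
  obtain ⟨ψ', hψ'⟩ := DerFin.exists_linearEquiv_kaehler_track p₂ hd₂ hU₂ hV₂ e₂
  obtain ⟨E, hE⟩ := PullTrack.exists_sectionsPullbackEquiv f Ω₁ hV₁ hV₂ e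
  let cmap : Γ((Scheme.Modules.pullback f).obj Ω₁, V₂) →ₗ[Γ(X₂, V₂)] Γ(Ω₂, V₂) :=
    { toFun := fun q => c.app V₂ q
      map_add' := fun a b => map_add _ a b
      map_smul' := fun r q => Scheme.Modules.Hom.app_smul c r q }
  have hcm : ∀ s : Γ(X₁, V₁), cmap (PullTrack.pullSectLE f Ω₁ V₁ V₂ e (d₁.app V₁ s)) =
      d₂.app V₂ (algebraMap Γ(X₁, V₁) Γ(X₂, V₂) s) := by
    intro s
    show c.app V₂ (PullTrack.pullSectLE f Ω₁ V₁ V₂ e (d₁.app V₁ s)) = d₂.app V₂ (f.appLE V₁ V₂ e s)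
    rw [PullTrack.pullSectLE_apply]
    have h1 := PullTrack.app_res c e (pullSect f Ω₁ V₁ (d₁.app V₁ s))
    rw [h1, hc V₁ s, ← DerAff.der_app_map]
    rfl
  exact KaehlerGlue.bijective_of_tracking ψ (fun s => d₁.app V₁ s) hψ E
    (fun p => PullTrack.pullSectLE f Ω₁ V₁ V₂ e p) hE ψ' (fun t => d₂.app V₂ t) hψ' cmap hcm T hT

include hd₁ hd₂ hc hU₁ hV₁ hU₂ hV₂ in
set_option maxHeartbeats 1000000 in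
/-- On sections over `V₂`, the canonical map `f^* Ω₁ ⟶ Ω₂` is identified with any ring-level
comparison map pinned on the generators `1 ⊗ d s`. -/
theorem exists_tracking
    (T : letI : Algebra Γ(S₁, U₁) Γ(X₁, V₁) := (p₁.appLE U₁ V₁ e₁).hom.toAlgebra
      letI : Algebra Γ(S₂, U₂) Γ(X₂, V₂) := (p₂.appLE U₂ V₂ e₂).hom.toAlgebra
      letI : Algebra Γ(X₁, V₁) Γ(X₂, V₂) := (f.appLE V₁ V₂ e).hom.toAlgebra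
      Γ(X₂, V₂) ⊗[Γ(X₁, V₁)] Ω[Γ(X₁, V₁)⁄Γ(S₁, U₁)] →ₗ[Γ(X₂, V₂)] Ω[Γ(X₂, V₂)⁄Γ(S₂, U₂)])
    (hT : letI : Algebra Γ(S₁, U₁) Γ(X₁, V₁) := (p₁.appLE U₁ V₁ e₁).hom.toAlgebra
      letI : Algebra Γ(S₂, U₂) Γ(X₂, V₂) := (p₂.appLE U₂ V₂ e₂).hom.toAlgebra
      letI : Algebra Γ(X₁, V₁) Γ(X₂, V₂) := (f.appLE V₁ V₂ e).hom.toAlgebra
      ∀ s : Γ(X₁, V₁), T ((1 : Γ(X₂, V₂)) ⊗ₜ[Γ(X₁, V₁)] KaehlerDifferential.D Γ(S₁, U₁) Γ(X₁, V₁) s) =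
        KaehlerDifferential.D Γ(S₂, U₂) Γ(X₂, V₂) (f.appLE V₁ V₂ e s)) :
    letI : Algebra Γ(S₁, U₁) Γ(X₁, V₁) := (p₁.appLE U₁ V₁ e₁).hom.toAlgebra
    letI : Algebra Γ(S₂, U₂) Γ(X₂, V₂) := (p₂.appLE U₂ V₂ e₂).hom.toAlgebra
    letI : Algebra Γ(X₁, V₁) Γ(X₂, V₂) := (f.appLE V₁ V₂ e).hom.toAlgebra
    ∃ (Ψ : Γ((Scheme.Modules.pullback f).obj Ω₁, V₂) ≃ₗ[Γ(X₂, V₂)]
        Γ(X₂, V₂) ⊗[Γ(X₁, V₁)] Ω[Γ(X₁, V₁)⁄Γ(S₁, U₁)])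
      (ψ' : Γ(Ω₂, V₂) ≃ₗ[Γ(X₂, V₂)] Ω[Γ(X₂, V₂)⁄Γ(S₂, U₂)]),
      (∀ s : Γ(X₁, V₁), Ψ (PullTrack.pullSectLE f Ω₁ V₁ V₂ e (d₁.app V₁ s)) =
        (1 : Γ(X₂, V₂)) ⊗ₜ[Γ(X₁, V₁)] KaehlerDifferential.D Γ(S₁, U₁) Γ(X₁, V₁) s) ∧
      (∀ t : Γ(X₂, V₂), ψ' (d₂.app V₂ t) = KaehlerDifferential.D Γ(S₂, U₂) Γ(X₂, V₂) t) ∧
      ∀ q : Γ((Scheme.Modules.pullback f).obj Ω₁, V₂), ψ' (c.app V₂ q) = T (Ψ q) := by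
  letI : Algebra Γ(S₁, U₁) Γ(X₁, V₁) := (p₁.appLE U₁ V₁ e₁).hom.toAlgebra
  letI : Algebra Γ(S₂, U₂) Γ(X₂, V₂) := (p₂.appLE U₂ V₂ e₂).hom.toAlgebra
  letI : Algebra Γ(X₁, V₁) Γ(X₂, V₂) := (f.appLE V₁ V₂ e).hom.toAlgebra
  haveI : Ω₁.IsQuasicoherent := DerFin.isQuasicoherent_of_isUniversal p₁ hd₁
  obtain ⟨ψ, hψ⟩ := DerFin.exists_linearEquiv_kaehler_track p₁ hd₁ hU₁ hV₁ e₁
  obtain ⟨ψ', hψ'⟩ := DerFin.exists_linearEquiv_kaehler_track p₂ hd₂ hU₂ hV₂ e₂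
  obtain ⟨E, hE⟩ := PullTrack.exists_sectionsPullbackEquiv f Ω₁ hV₁ hV₂ e
  let cmap : Γ((Scheme.Modules.pullback f).obj Ω₁, V₂) →ₗ[Γ(X₂, V₂)] Γ(Ω₂, V₂) :=
    { toFun := fun q => c.app V₂ q
      map_add' := fun a b => map_add _ a b
      map_smul' := fun r q => Scheme.Modules.Hom.app_smul c r q }
  have hcm : ∀ s : Γ(X₁, V₁), cmap (PullTrack.pullSectLE f Ω₁ V₁ V₂ e (d₁.app V₁ s)) =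
      d₂.app V₂ (algebraMap Γ(X₁, V₁) Γ(X₂, V₂) s) := by
    intro s
    show c.app V₂ (PullTrack.pullSectLE f Ω₁ V₁ V₂ e (d₁.app V₁ s)) = d₂.app V₂ (f.appLE V₁ V₂ e s)
    rw [PullTrack.pullSectLE_apply]
    have h1 := PullTrack.app_res c e (pullSect f Ω₁ V₁ (d₁.app V₁ s))
    rw [h1, hc V₁ s, ← DerAff.der_app_map]
    rfl
  refine ⟨E.trans (LinearEquiv.baseChange Γ(X₁, V₁) Γ(X₂, V₂) Γ(Ω₁, V₁)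
    Ω[Γ(X₁, V₁)⁄Γ(S₁, U₁)] ψ), ψ', fun s => ?_, hψ', fun q => ?_⟩
  · show (LinearEquiv.baseChange Γ(X₁, V₁) Γ(X₂, V₂) Γ(Ω₁, V₁) Ω[Γ(X₁, V₁)⁄Γ(S₁, U₁)] ψ)
      (E (PullTrack.pullSectLE f Ω₁ V₁ V₂ e (d₁.app V₁ s))) = _
    rw [hE, LinearEquiv.baseChange_tmul, hψ]
  · exact KaehlerGlue.factor_of_tracking ψ (fun s => d₁.app V₁ s) hψ E
      (fun p => PullTrack.pullSectLE f Ω₁ V₁ V₂ e p) hE ψ' (fun t => d₂.app V₂ t) hψ' cmap hcm T hT q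

end Groth.Agent.H39.DiffCompatLocal
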