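import Groth.Agent.H8.FinType
import Groth.Agent.H8.FPAffine
import Groth.Agent.H8.QCohPush
import Mathlib.AlgebraicGeometry.Morphisms.Finite
import Mathlib.AlgebraicGeometry.Morphisms.FinitePresentation
import Mathlib.RingTheory.Finiteness.ModuleFinitePresentation

/-!
# Pushforward of a finitely presented module along a finite, finitely presented morphism
-/

set_option autoImplicit false
set_option linter.style.haveILetI false
universe u
open CategoryTheory CategoryTheory.Limits AlgebraicGeometry Opposite

namespace Groth.Agent.H39.FinitePush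

/-- The pushforward of a module of finite presentation along a finite morphism locally of finite
presentation is of finite presentation. -/
theorem isFinitePresentation_pushforward {N X : Scheme.{u}} (h : N ⟶ X) [IsFinite h]
    [LocallyOfFinitePresentation h] (M : N.Modules)
    [SheafOfModules.IsFinitePresentation (R := N.ringCatSheaf) M] :
    SheafOfModules.IsFinitePresentation (R := X.ringCatSheaf)
      ((Scheme.Modules.pushforward h).obj M) := by
  haveI : M.IsQuasicoherent := inferInstance
  haveI hq : ((Scheme.Modules.pushforward h).obj M).IsQuasicoherent :=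
    Groth.Agent.H8.isQuasicoherent_pushforward h M
  apply Groth.Agent.H8.isFinitePresentation_of_forall_affine_finitePresentation
  intro V
  have hW : IsAffineOpen (h ⁻¹ᵁ (V : X.Opens)) := V.2.preimage h
  haveI h1 : Module.FinitePresentation Γ(N, h ⁻¹ᵁ (V : X.Opens)) Γ(M, h ⁻¹ᵁ (V : X.Opens)) :=
    Groth.Agent.H8.finitePresentation_sections_of_isAffineOpen M hW
  have h2 : (h.app (V : X.Opens)).hom.Finite := IsFinite.finite_app h (V : X.Opens) V.2
  have h3 : RingHom.FinitePresentation (h.app (V : X.Opens)).hom := by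
    have h4 := h.finitePresentation_appLE V.2 hW le_rfl
    rwa [← Scheme.Hom.app_eq_appLE] at h4
  letI : Algebra Γ(X, (V : X.Opens)) Γ(N, h ⁻¹ᵁ (V : X.Opens)) :=
    (h.app (V : X.Opens)).hom.toAlgebra
  haveI : Module.Finite Γ(X, (V : X.Opens)) Γ(N, h ⁻¹ᵁ (V : X.Opens)) := h2
  haveI : Algebra.FinitePresentation Γ(X, (V : X.Opens)) Γ(N, h ⁻¹ᵁ (V : X.Opens)) := h3
  haveI : Module.FinitePresentation Γ(X, (V : X.Opens)) Γ(N, h ⁻¹ᵁ (V : X.Opens)) :=
    Module.FinitePresentation.of_finite_of_finitePresentation _ _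
  letI : Module Γ(X, (V : X.Opens)) Γ(M, h ⁻¹ᵁ (V : X.Opens)) :=
    (show Module Γ(X, (V : X.Opens))
      Γ((Scheme.Modules.pushforward h).obj M, (V : X.Opens)) from inferInstance)
  haveI : IsScalarTower Γ(X, (V : X.Opens)) Γ(N, h ⁻¹ᵁ (V : X.Opens))
      Γ(M, h ⁻¹ᵁ (V : X.Opens)) :=
    IsScalarTower.of_algebraMap_smul (fun r m => rfl)
  exact Module.FinitePresentation.trans Γ(X, (V : X.Opens)) Γ(M, h ⁻¹ᵁ (V : X.Opens))
    Γ(N, h ⁻¹ᵁ (V : X.Opens))

end Groth.Agent.H39.FinitePush
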