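import Groth.Agent.H39.SheafGrp
import Mathlib.Order.Zorn
import Mathlib.Tactic.Group

set_option autoImplicit false
universe u

namespace Groth.Agent.H39

open CategoryTheory TopologicalSpace Opposite TopCat

variable {X : TopCat.{u}}

/-- a partial lift of the section `s` -/
structure PLift {G H : TopCat.Presheaf GrpCat.{u} X} (β : G ⟶ H) {U : Opens X}
    (s : H.obj (op U)) where
  V : Opens X
  hV : V ≤ U
  g : G.obj (op V)
  hg : (β.app (op V)).hom g = res H hV s

/-- the extension relation on partial lifts -/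
def PLift.le {G H : TopCat.Presheaf GrpCat.{u} X} {β : G ⟶ H} {U : Opens X}
    {s : H.obj (op U)} (a b : PLift β s) : Prop :=
  ∃ h : a.V ≤ b.V, res G h b.g = a.g

theorem PLift.le_trans {G H : TopCat.Presheaf GrpCat.{u} X} {β : G ⟶ H} {U : Opens X}
    {s : H.obj (op U)} {a b c : PLift β s} (hab : a.le b) (hbc : b.le c) : a.le c := by
  obtain ⟨h₁, e₁⟩ := hab
  obtain ⟨h₂, e₂⟩ := hbc
  refine ⟨h₁.trans h₂, ?_⟩
  rw [← e₁, ← e₂, res_res]

theorem PLift.chain_bounded {G H : TopCat.Presheaf GrpCat.{u} X} (hG : G.IsSheaf) (hH : H.IsSheaf)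
    (β : G ⟶ H) {U : Opens X} (s : H.obj (op U)) (c : Set (PLift β s))
    (hc : IsChain PLift.le c) : ∃ ub : PLift β s, ∀ a ∈ c, a.le ub := by
  let Uc : c → Opens X := fun i => i.1.V
  let sf : ∀ i : c, G.obj (op (Uc i)) := fun i => i.1.g
  have hle : ∀ i : c, Uc i ≤ iSup Uc := fun i => le_iSup Uc i
  have hcompat : ∀ i j : c, res G (inf_le_left : Uc i ⊓ Uc j ≤ Uc i) (sf i) =
      res G (inf_le_right : Uc i ⊓ Uc j ≤ Uc j) (sf j) := by
    intro i j
    by_cases hij : i.1 = j.1
    · have : i = j := Subtype.ext hij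
      subst this
      rfl
    · rcases hc i.2 j.2 hij with ⟨h, e⟩ | ⟨h, e⟩
      · change res G _ i.1.g = res G _ j.1.g
        rw [← e, res_res]
      · change res G _ i.1.g = res G _ j.1.g
        rw [← e, res_res]
  obtain ⟨t, ht⟩ := glue G hG Uc (iSup Uc) hle le_rfl sf hcompat
  have hUle : iSup Uc ≤ U := iSup_le fun i => i.1.hV
  refine ⟨⟨iSup Uc, hUle, t, ?_⟩, ?_⟩
  · refine sep H hH Uc (iSup Uc) hle le_rfl _ _ fun i => ?_
    rw [← nat_res, ht, res_res]
    exact i.1.hg
  · intro a ha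
    exact ⟨hle ⟨a, ha⟩, ht ⟨a, ha⟩⟩

/-- the key surjectivity statement -/
theorem surj_of_flasque
    (F G H : TopCat.Presheaf GrpCat.{u} X) (hG : G.IsSheaf) (hH : H.IsSheaf)
    (α : F ⟶ G) (β : G ⟶ H)
    (hex : ∀ (U : Opens X) (g : G.obj (op U)),
      (β.app (op U)).hom g = 1 ↔ g ∈ Set.range (α.app (op U)).hom)
    (hβ : ∀ (U : Opens X) (s : H.obj (op U)) (x : X), x ∈ U →
      ∃ (V : Opens X) (hV : V ≤ U), x ∈ V ∧ ∃ g : G.obj (op V),
        (β.app (op V)).hom g = (H.map (homOfLE hV).op).hom s)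
    (hfl : ∀ (U V : Opens X) (hUV : V ≤ U), Function.Surjective (F.map (homOfLE hUV).op).hom)
    (U : Opens X) : Function.Surjective (β.app (op U)).hom := by
  intro s
  obtain ⟨m, hm⟩ := exists_maximal_of_chains_bounded
    (PLift.chain_bounded hG hH β s) (fun hab hbc => PLift.le_trans hab hbc)
  have hU : U ≤ m.V := by
    intro x hx
    obtain ⟨W, hW, hxW, g₁, hg₁⟩ := hβ U s x hx
    -- compare on the overlap
    let a := res G (inf_le_left : m.V ⊓ W ≤ m.V) m.g
    let b := res G (inf_le_right : m.V ⊓ W ≤ W) g₁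
    have hab : (β.app (op (m.V ⊓ W))).hom (a⁻¹ * b) = 1 := by
      rw [map_mul, map_inv, nat_res, nat_res, m.hg]
      have : (β.app (op W)).hom g₁ = res H hW s := hg₁
      rw [this, res_res, res_res, inv_mul_cancel]
    obtain ⟨f₀, hf₀⟩ := (hex _ _).mp hab
    obtain ⟨f₁, hf₁⟩ := hfl W (m.V ⊓ W) inf_le_right f₀
    let g₂ : G.obj (op W) := g₁ * ((α.app (op W)).hom f₁)⁻¹
    have hg₂res : res G (inf_le_right : m.V ⊓ W ≤ W) g₂ = a := by
      change res G _ (g₁ * ((α.app (op W)).hom f₁)⁻¹) = a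
      rw [map_mul, map_inv, ← nat_res]
      have : res F (inf_le_right : m.V ⊓ W ≤ W) f₁ = f₀ := hf₁
      rw [this, hf₀]
      change b * (a⁻¹ * b)⁻¹ = a
      group
    have hg₂β : (β.app (op W)).hom g₂ = res H hW s := by
      change (β.app (op W)).hom (g₁ * ((α.app (op W)).hom f₁)⁻¹) = _
      rw [map_mul, map_inv]
      have h1 : (β.app (op W)).hom ((α.app (op W)).hom f₁) = 1 := (hex _ _).mpr ⟨f₁, rfl⟩
      rw [h1, inv_one, mul_one]
      exact hg₁
    -- glue over the union
    let U' : Bool → Opens X := fun b => match b with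
      | true => m.V
      | false => W
    let sf : ∀ b : Bool, G.obj (op (U' b)) := fun b => match b with
      | true => m.g
      | false => g₂
    have hU'le : ∀ b, U' b ≤ iSup U' := fun b => le_iSup U' b
    have hcompat : ∀ i j : Bool, res G (inf_le_left : U' i ⊓ U' j ≤ U' i) (sf i) =
        res G (inf_le_right : U' i ⊓ U' j ≤ U' j) (sf j) := by
      intro i j
      cases i <;> cases j
      · rfl
      · change res G (inf_le_left : W ⊓ m.V ≤ W) g₂ = res G (inf_le_right : W ⊓ m.V ≤ m.V) m.g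
        have e1 := congrArg (res G (le_of_eq (inf_comm _ _) : W ⊓ m.V ≤ m.V ⊓ W)) hg₂res
        rw [res_res] at e1
        rw [e1]
        change res G _ (res G _ m.g) = _
        rw [res_res]
      · change res G (inf_le_left : m.V ⊓ W ≤ m.V) m.g = res G (inf_le_right : m.V ⊓ W ≤ W) g₂
        rw [hg₂res]
      · rfl
    obtain ⟨t, ht⟩ := glue G hG U' (iSup U') hU'le le_rfl sf hcompat
    have hsup : iSup U' ≤ U := iSup_le fun b => by
      cases b
      · exact hW
      · exact m.hV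
    let m' : PLift β s := ⟨iSup U', hsup, t, by
      refine sep H hH U' (iSup U') hU'le le_rfl _ _ fun i => ?_
      rw [← nat_res, ht, res_res]
      cases i
      · exact hg₂β
      · exact m.hg⟩
    have hmm' : m.le m' := ⟨hU'le true, ht true⟩
    obtain ⟨h', -⟩ := hm m' hmm'
    exact h' (hU'le false hxW)
  refine ⟨res G hU m.g, ?_⟩
  rw [nat_res, m.hg, res_res, res_self]

end Groth.Agent.H39
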