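import Groth.Agent.S5016

/-!
# Injectivity of `B ⊗[A] Ω[A⁄R] → Ω[B⁄R]` detected at a "generic" field
-/

set_option autoImplicit false
universe u
open scoped TensorProduct

namespace Groth.Agent.H39.GenericDiff

/-- Functoriality of `KaehlerDifferential.map` along `A → B → K`. -/
theorem map_map (R A B K : Type u) [CommRing R] [CommRing A] [CommRing B] [CommRing K]
    [Algebra R A] [Algebra A B] [Algebra R B] [IsScalarTower R A B]
    [Algebra B K] [Algebra A K] [Algebra R K] [IsScalarTower A B K] [IsScalarTower R A K]
    [IsScalarTower R B K] (ω : Ω[A⁄R]) :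
    KaehlerDifferential.map R R B K (KaehlerDifferential.map R R A B ω) =
      KaehlerDifferential.map R R A K ω := by
  have hω : ω ∈ Submodule.span A (Set.range (KaehlerDifferential.D R A)) := by
    rw [KaehlerDifferential.span_range_derivation]; trivial
  induction hω using Submodule.span_induction with
  | mem x hx =>
    obtain ⟨a, rfl⟩ := hx
    rw [KaehlerDifferential.map_D, KaehlerDifferential.map_D, KaehlerDifferential.map_D,
      ← IsScalarTower.algebraMap_apply]
  | zero => simp only [map_zero]
  | add x y _ _ hx hy => simp only [map_add, hx, hy]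
  | smul a x _ hx =>
    have h1 : KaehlerDifferential.map R R A B (a • x) =
        algebraMap A B a • KaehlerDifferential.map R R A B x := by
      rw [map_smul, algebraMap_smul]
    rw [h1, map_smul, hx, map_smul, algebraMap_smul]

/-- If `Ω[A⁄R]` is flat, `B → K` is injective and `K` is formally smooth over `A`, then
`B ⊗[A] Ω[A⁄R] → Ω[B⁄R]` is injective. -/
theorem mapBaseChange_injective_of_generic (R A B K : Type u) [CommRing R] [CommRing A]
    [CommRing B] [CommRing K]
    [Algebra R A] [Algebra A B] [Algebra R B] [IsScalarTower R A B]
    [Algebra B K] [Algebra A K] [Algebra R K] [IsScalarTower A B K] [IsScalarTower R A K]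
    [IsScalarTower R B K]
    [Module.Flat A Ω[A⁄R]] [Algebra.FormallySmooth A K]
    (hinj : Function.Injective (algebraMap B K)) :
    Function.Injective (KaehlerDifferential.mapBaseChange R A B) := by
  let ι : B →ₗ[A] K := (IsScalarTower.toAlgHom A B K).toLinearMap
  have hι : Function.Injective ι := hinj
  have hrT : Function.Injective (ι.rTensor Ω[A⁄R]) :=
    Module.Flat.rTensor_preserves_injective_linearMap ι hι
  have key : ∀ x : B ⊗[A] Ω[A⁄R], KaehlerDifferential.mapBaseChange R A K (ι.rTensor Ω[A⁄R] x) =
      KaehlerDifferential.map R R B K (KaehlerDifferential.mapBaseChange R A B x) := by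
    intro x
    induction x using TensorProduct.induction_on with
    | zero => simp only [map_zero]
    | add x y hx hy => simp only [map_add, hx, hy]
    | tmul b ω =>
      rw [LinearMap.rTensor_tmul, KaehlerDifferential.mapBaseChange_tmul,
        KaehlerDifferential.mapBaseChange_tmul, map_smul, map_map]
      show algebraMap B K b • _ = _
      rw [algebraMap_smul]
  rw [injective_iff_map_eq_zero]
  intro x hx
  apply hrT
  rw [map_zero]
  apply Groth.Agent.S5016.mapBaseChange_injective R A K
  rw [key, hx, map_zero, map_zero]

end Groth.Agent.H39.GenericDiff
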