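import Groth.Agent.H39.GenericDiff
import Mathlib.AlgebraicGeometry.FunctionField
import Mathlib.AlgebraicGeometry.ResidueField
import Mathlib.RingTheory.Etale.Field

/-!
# Dominant separable morphisms of smooth integral schemes: `φ^*Ω_Y → Ω_X` is injective
-/

set_option autoImplicit false
set_option linter.style.haveILetI false
universe u
open CategoryTheory CategoryTheory.Limits AlgebraicGeometry Opposite OmegaSh TopologicalSpace
open scoped TensorProduct

namespace Groth.Agent.H39.GenericDiffSch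

open Groth.Agent.H39

/-- The stalk at the generic point of an integral scheme is a field. -/
lemma isField_stalk_of_eq_genericPoint {Y : Scheme.{u}} [IsIntegral Y] (y : Y)
    (hy : y = genericPoint Y) : IsField (Y.presheaf.stalk y) := by
  subst hy
  exact Field.toIsField Y.functionField

/-- A dominant morphism maps the generic point to the generic point. -/
lemma map_genericPoint {X Y : Scheme.{u}} [IsIntegral X] [IsIntegral Y] (φ : X ⟶ Y)
    (hdom : DenseRange φ.base) : φ.base (genericPoint X) = genericPoint Y := by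
  have h1 : IsGenericPoint (φ.base (genericPoint X)) (closure (φ.base '' Set.univ)) :=
    (genericPoint_spec X).image φ.base.hom.continuous
  rw [Set.image_univ, hdom.closure_range] at h1
  exact h1.eq (genericPoint_spec Y)

/-- If the stalk is a field, the residue map is injective. -/
lemma residue_injective_of_isField {X : Scheme.{u}} (x : X) (h : IsField (X.presheaf.stalk x)) :
    Function.Injective (X.residue x).hom := by
  rw [RingHom.injective_iff_ker_eq_bot]
  show RingHom.ker (IsLocalRing.residue _) = ⊥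
  rw [IsLocalRing.ker_residue, ← IsLocalRing.isField_iff_maximalIdeal_eq]
  exact h

/-- Sections over an affine open map formally smoothly to the residue field of a point whose
stalk is a field. -/
theorem formallySmooth_evaluation {Y : Scheme.{u}} {V : Y.Opens} (hV : IsAffineOpen V) (y : Y)
    (hy : y ∈ V) (h : IsField (Y.presheaf.stalk y)) :
    (Y.evaluation V y hy).hom.FormallySmooth := by
  letI iASt : Algebra Γ(Y, V) (Y.presheaf.stalk y) := (Y.presheaf.germ V y hy).hom.toAlgebra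
  letI iStK : Algebra (Y.presheaf.stalk y) (Y.residueField y) := (Y.residue y).hom.toAlgebra
  letI iAK : Algebra Γ(Y, V) (Y.residueField y) := (Y.evaluation V y hy).hom.toAlgebra
  haveI : IsScalarTower Γ(Y, V) (Y.presheaf.stalk y) (Y.residueField y) :=
    IsScalarTower.of_algebraMap_eq' rfl
  haveI hloc : IsLocalization.AtPrime (Y.presheaf.stalk y) (hV.primeIdealOf ⟨y, hy⟩).asIdeal :=
    hV.isLocalization_stalk ⟨y, hy⟩
  haveI : Algebra.FormallySmooth Γ(Y, V) (Y.presheaf.stalk y) :=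
    Algebra.FormallySmooth.of_isLocalization (hV.primeIdealOf ⟨y, hy⟩).asIdeal.primeCompl
  have hbij : Function.Bijective (algebraMap (Y.presheaf.stalk y) (Y.residueField y)) :=
    ⟨residue_injective_of_isField y h, Y.residue_surjective y⟩
  haveI : Algebra.FormallySmooth (Y.presheaf.stalk y) (Y.residueField y) :=
    Algebra.FormallySmooth.of_equiv
      (AlgEquiv.ofBijective (Algebra.ofId (Y.presheaf.stalk y) (Y.residueField y)) hbij)
  show Algebra.FormallySmooth Γ(Y, V) (Y.residueField y)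
  exact Algebra.FormallySmooth.comp Γ(Y, V) (Y.presheaf.stalk y) (Y.residueField y)

/-- Naturality of evaluation at a point for `appLE`. -/
lemma appLE_evaluation {X Y : Scheme.{u}} (φ : X ⟶ Y) {V₁ : Y.Opens} {V₂ : X.Opens}
    (e : V₂ ≤ φ ⁻¹ᵁ V₁) (x : X) (hx : x ∈ V₂) :
    φ.appLE V₁ V₂ e ≫ X.evaluation V₂ x hx =
      Y.evaluation V₁ (φ.base x) (e hx) ≫ φ.residueFieldMap x := by
  rw [Scheme.evaluation_naturality, Scheme.Hom.appLE, Category.assoc]
  congr 1
  rw [← Scheme.germ_residue, ← Scheme.germ_residue, ← Category.assoc, TopCat.Presheaf.germ_res]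

/-- Index type for the cover of `X` by nonempty affines `V₂ ≤ f⁻¹ V₁`, `V₁ ≤ g⁻¹ U`. -/
structure IdxG {X Y S : Scheme.{u}} (f : X ⟶ Y) (g : Y ⟶ S) : Type u where
  U : S.Opens
  V₁ : Y.Opens
  V₂ : X.Opens
  hU : IsAffineOpen U
  hV₁ : IsAffineOpen V₁
  hV₂ : IsAffineOpen V₂
  e₁ : V₁ ≤ g ⁻¹ᵁ U
  e : V₂ ≤ f ⁻¹ᵁ V₁
  hne : (V₂ : Set X).Nonempty

theorem isOpenCover_idxG {X Y S : Scheme.{u}} (f : X ⟶ Y) (g : Y ⟶ S) :
    IsOpenCover (fun k : IdxG f g => k.V₂) := by
  rw [IsOpenCover, eq_top_iff]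
  intro x _
  obtain ⟨U, hU, hxU, -⟩ :=
    (Opens.isBasis_iff_nbhd.mp S.isBasis_affineOpens) (Opens.mem_top (g (f x)))
  have h1 : f x ∈ g ⁻¹ᵁ U := hxU
  obtain ⟨V₁, hV₁, hxV₁, e₁⟩ := (Opens.isBasis_iff_nbhd.mp Y.isBasis_affineOpens) h1
  have h2 : x ∈ f ⁻¹ᵁ V₁ := hxV₁
  obtain ⟨V₂, hV₂, hxV₂, e⟩ := (Opens.isBasis_iff_nbhd.mp X.isBasis_affineOpens) h2
  exact Opens.mem_iSup.mpr ⟨⟨U, V₁, V₂, hU, hV₁, hV₂, e₁, e, ⟨x, hxV₂⟩⟩, hxV₂⟩

set_option maxHeartbeats 1000000 in
/-- For a dominant morphism of integral schemes, generically separable, with smooth target,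
the canonical map `φ^*Ω_Y → Ω_X` is injective on small affines. -/
theorem local_injective {X Y S : Scheme.{u}} [IsIntegral X] [IsIntegral Y] (g : Y ⟶ S) [Smooth g]
    (φ : X ⟶ Y) (hdom : DenseRange φ.base)
    (hsep : letI := (φ.residueFieldMap (genericPoint X)).hom.toAlgebra
      Algebra.IsSeparable (Y.residueField (φ.base (genericPoint X)))
        (X.residueField (genericPoint X)))
    {ΩY : Y.Modules} {dY : OmegaSh.Der g ΩY} (hY : OmegaSh.IsUniversal dY)
    {ΩX : X.Modules} {dX : OmegaSh.Der (φ ≫ g) ΩX} (hX : OmegaSh.IsUniversal dX)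
    {c : (Scheme.Modules.pullback φ).obj ΩY ⟶ ΩX} (hc : OmegaSh.IsDiffCompat φ dY dX c)
    (k : IdxG φ g) : Function.Injective (c.app k.V₂) := by
  have hξ : genericPoint X ∈ k.V₂ :=
    ((genericPoint_spec X).mem_open_set_iff k.V₂.isOpen).mpr (by simpa using k.hne)
  have hη : φ.base (genericPoint X) ∈ k.V₁ := k.e hξ
  have hηg : φ.base (genericPoint X) = genericPoint Y := map_genericPoint φ hdom
  have e₂ : k.V₂ ≤ (φ ≫ g) ⁻¹ᵁ k.U := fun x hx => k.e₁ (k.e hx)
  letI : Algebra Γ(S, k.U) Γ(Y, k.V₁) := (g.appLE k.U k.V₁ k.e₁).hom.toAlgebra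
  letI : Algebra Γ(S, k.U) Γ(X, k.V₂) := ((φ ≫ g).appLE k.U k.V₂ e₂).hom.toAlgebra
  letI : Algebra Γ(Y, k.V₁) Γ(X, k.V₂) := (φ.appLE k.V₁ k.V₂ k.e).hom.toAlgebra
  haveI : IsScalarTower Γ(S, k.U) Γ(Y, k.V₁) Γ(X, k.V₂) := by
    refine IsScalarTower.of_algebraMap_eq' ?_
    show ((φ ≫ g).appLE k.U k.V₂ e₂).hom =
      (φ.appLE k.V₁ k.V₂ k.e).hom.comp (g.appLE k.U k.V₁ k.e₁).hom
    rw [← CommRingCat.hom_comp, Scheme.Hom.appLE_comp_appLE]
  letI iBK : Algebra Γ(X, k.V₂) (X.residueField (genericPoint X)) :=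
    (X.evaluation k.V₂ (genericPoint X) hξ).hom.toAlgebra
  letI iAK : Algebra Γ(Y, k.V₁) (X.residueField (genericPoint X)) :=
    ((algebraMap Γ(X, k.V₂) (X.residueField (genericPoint X))).comp
      (algebraMap Γ(Y, k.V₁) Γ(X, k.V₂))).toAlgebra
  letI iRK : Algebra Γ(S, k.U) (X.residueField (genericPoint X)) :=
    ((algebraMap Γ(X, k.V₂) (X.residueField (genericPoint X))).comp
      (algebraMap Γ(S, k.U) Γ(X, k.V₂))).toAlgebra
  haveI : IsScalarTower Γ(Y, k.V₁) Γ(X, k.V₂) (X.residueField (genericPoint X)) :=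
    IsScalarTower.of_algebraMap_eq' rfl
  haveI : IsScalarTower Γ(S, k.U) Γ(X, k.V₂) (X.residueField (genericPoint X)) :=
    IsScalarTower.of_algebraMap_eq' rfl
  haveI : IsScalarTower Γ(S, k.U) Γ(Y, k.V₁) (X.residueField (genericPoint X)) := by
    refine IsScalarTower.of_algebraMap_eq' ?_
    show (algebraMap Γ(X, k.V₂) (X.residueField (genericPoint X))).comp
        (algebraMap Γ(S, k.U) Γ(X, k.V₂)) =
      ((algebraMap Γ(X, k.V₂) (X.residueField (genericPoint X))).comp
        (algebraMap Γ(Y, k.V₁) Γ(X, k.V₂))).comp (algebraMap Γ(S, k.U) Γ(Y, k.V₁))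
    rw [RingHom.comp_assoc, ← IsScalarTower.algebraMap_eq Γ(S, k.U) Γ(Y, k.V₁) Γ(X, k.V₂)]
  haveI : Algebra.FormallySmooth Γ(S, k.U) Γ(Y, k.V₁) :=
    (g.smooth_appLE k.hU k.hV₁ k.e₁).formallySmooth
  haveI : Module.Flat Γ(Y, k.V₁) Ω[Γ(Y, k.V₁)⁄Γ(S, k.U)] := inferInstance
  letI iAKA : Algebra Γ(Y, k.V₁) (Y.residueField (φ.base (genericPoint X))) :=
    (Y.evaluation k.V₁ (φ.base (genericPoint X)) hη).hom.toAlgebra
  letI iKAK : Algebra (Y.residueField (φ.base (genericPoint X))) (X.residueField (genericPoint X)) :=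
    (φ.residueFieldMap (genericPoint X)).hom.toAlgebra
  haveI : IsScalarTower Γ(Y, k.V₁) (Y.residueField (φ.base (genericPoint X)))
      (X.residueField (genericPoint X)) := by
    refine IsScalarTower.of_algebraMap_eq' ?_
    show (X.evaluation k.V₂ (genericPoint X) hξ).hom.comp (φ.appLE k.V₁ k.V₂ k.e).hom =
      (φ.residueFieldMap (genericPoint X)).hom.comp
        (Y.evaluation k.V₁ (φ.base (genericPoint X)) hη).hom
    rw [← CommRingCat.hom_comp, ← CommRingCat.hom_comp, appLE_evaluation]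
  haveI : Algebra.FormallySmooth Γ(Y, k.V₁) (Y.residueField (φ.base (genericPoint X))) :=
    formallySmooth_evaluation k.hV₁ _ hη (isField_stalk_of_eq_genericPoint _ hηg)
  haveI : Algebra.IsSeparable (Y.residueField (φ.base (genericPoint X)))
      (X.residueField (genericPoint X)) := hsep
  haveI : Algebra.FormallyEtale (Y.residueField (φ.base (genericPoint X)))
      (X.residueField (genericPoint X)) := Algebra.FormallyEtale.of_isSeparable _ _
  haveI : Algebra.FormallySmooth Γ(Y, k.V₁) (X.residueField (genericPoint X)) :=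
    Algebra.FormallySmooth.comp Γ(Y, k.V₁) (Y.residueField (φ.base (genericPoint X)))
      (X.residueField (genericPoint X))
  have hinj : Function.Injective (algebraMap Γ(X, k.V₂) (X.residueField (genericPoint X))) := by
    show Function.Injective ((X.residue (genericPoint X)).hom ∘
      (X.presheaf.germ k.V₂ (genericPoint X) hξ).hom)
    exact (residue_injective_of_isField (genericPoint X)
      (isField_stalk_of_eq_genericPoint _ rfl)).comp
      (germ_injective_of_isIntegral X (genericPoint X) hξ)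
  obtain ⟨Ψ, ψ', -, -, hfac⟩ := DiffCompatLocal.exists_tracking g (φ ≫ g) φ hY hX hc k.hU k.hV₁ k.e₁
    k.hU k.hV₂ e₂ k.e (KaehlerDifferential.mapBaseChange Γ(S, k.U) Γ(Y, k.V₁) Γ(X, k.V₂))
    (fun s => by
      rw [KaehlerDifferential.mapBaseChange_tmul, one_smul, KaehlerDifferential.map_D]
      rfl)
  intro q q' hq
  have h1 : ψ' (c.app k.V₂ q) = ψ' (c.app k.V₂ q') := by rw [hq]
  rw [hfac, hfac] at h1
  exact Ψ.injective (GenericDiff.mapBaseChange_injective_of_generic Γ(S, k.U) Γ(Y, k.V₁)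
    Γ(X, k.V₂) (X.residueField (genericPoint X)) hinj h1)

end Groth.Agent.H39.GenericDiffSch
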