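import Groth.Agent.H39.ConormalReg
import Groth.Agent.H56.LciSch
import Groth.Agent.H59.RegImmDesc
import Groth.Prelude.Def_OmegaPn

/-!
# Canonical maps between pulled-back ideal modules (conormal sheaves and graded pieces):
tracking on sections, local surjectivity
-/

set_option autoImplicit false
set_option linter.style.haveILetI false
universe u
open CategoryTheory CategoryTheory.Limits AlgebraicGeometry Opposite OmegaSh TopologicalSpace
open scoped TensorProduct

namespace Groth.Agent.H39.GrMap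

open Groth.Agent.H39 Groth.Agent.H8 Groth.Agent.H39.ConormalLocal Groth.Agent.H39.ConormalSect
  Groth.Agent.H39.ConormalMono Groth.Agent.H39.ConormalSplit Groth.Agent.H39.ConormalMap

/-- A function on any open whose restrictions to the affine opens inside lie in the ideal is a
section of the ideal module. -/
theorem exists_idealSect_eq_of_forall_mem {X : Scheme.{u}} (J : X.IdealSheafData)
    (O : X.Opens) (a : Γ(X, O))
    (ha : ∀ (V : X.affineOpens) (hV : V.1 ≤ O), X.presheaf.map (homOfLE hV).op a ∈ J.ideal V) :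
    ∃ s : Γ(ClSub.idealMod J, O), idealSect J O s = a := by
  let SC : ShortComplex X.Modules := ShortComplex.mk (kernel.ι (ClSub.toSubscheme J))
    (ClSub.toSubscheme J) (kernel.condition _)
  have hS : SC.Exact := ShortComplex.exact_of_f_is_kernel SC (kernelIsKernel _)
  haveI : Mono SC.f := inferInstanceAs (Mono (kernel.ι (ClSub.toSubscheme J)))
  refine exists_app_eq_of_exact SC hS O (strSect X O a) ?_
  have hB : Opens.IsBasis (Set.range (fun V : X.affineOpens => V.1)) := by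
    rw [Subtype.range_coe]; exact X.isBasis_affineOpens
  apply DerAff.sect_ext_of_basis (ClSub.quotMod J) hB O _ 0
  intro V hV
  rw [map_zero, ← app_res]
  have hmem := ha V hV
  rw [← Scheme.IdealSheafData.ker_subschemeι_app, RingHom.mem_ker] at hmem
  exact hmem

section Track

variable {Z X Z' X' : Scheme.{u}} (i : Z ⟶ X) (i' : Z' ⟶ X') (g : X ⟶ X') (gZ : Z ⟶ Z')
  (J : X.IdealSheafData) (J' : X'.IdealSheafData)

/-- The tracking property shared by `IsConormalMap` and `IsGrMap`. -/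
def Track (φ : (Scheme.Modules.pullback gZ).obj ((Scheme.Modules.pullback i').obj (ClSub.idealMod J')) ⟶
    (Scheme.Modules.pullback i).obj (ClSub.idealMod J)) : Prop :=
  ∀ (U' : X'.Opens) (s' : Γ(ClSub.idealMod J', U')) (s : Γ(ClSub.idealMod J, g ⁻¹ᵁ U')),
    idealSect J (g ⁻¹ᵁ U') s = g.app U' (idealSect J' U' s') →
    ∀ (V : Z.Opens) (h₁ : V ≤ gZ ⁻¹ᵁ (i' ⁻¹ᵁ U')) (h₂ : V ≤ i ⁻¹ᵁ (g ⁻¹ᵁ U')),
      ((Scheme.Modules.pullback i).obj (ClSub.idealMod J)).presheaf.map (homOfLE h₁).op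
          (φ.app (gZ ⁻¹ᵁ (i' ⁻¹ᵁ U'))
            (pullSect gZ ((Scheme.Modules.pullback i').obj (ClSub.idealMod J')) (i' ⁻¹ᵁ U')
              (pullSect i' (ClSub.idealMod J') U' s'))) =
        ((Scheme.Modules.pullback i).obj (ClSub.idealMod J)).presheaf.map (homOfLE h₂).op
          (pullSect i (ClSub.idealMod J) (g ⁻¹ᵁ U') s)

theorem track_of_isConormalMap
    {φ : (Scheme.Modules.pullback gZ).obj (Omega.conormal i') ⟶ Omega.conormal i}
    (hφ : IsConormalMap i i' g gZ φ) : Track i i' g gZ i.ker i'.ker φ := hφ.2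

theorem track_of_isGrMap (n : ℕ)
    {φ : (Scheme.Modules.pullback gZ).obj (PrinPart.grMod i' n) ⟶ PrinPart.grMod i n}
    (hφ : PrinPart.IsGrMap i i' g gZ n φ) : Track i i' g gZ (i.ker ^ n) (i'.ker ^ n) φ := hφ.2

variable {i i' g gZ J J'}
  {φ : (Scheme.Modules.pullback gZ).obj ((Scheme.Modules.pullback i').obj (ClSub.idealMod J')) ⟶
    (Scheme.Modules.pullback i).obj (ClSub.idealMod J)}

/-- The tracking property in `pullSectLE` form, over a small open `W`. -/
theorem Track.app_eq (hφ : Track i i' g gZ J J' φ) {U' : X'.Opens} {U : X.Opens}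
    (e : U ≤ g ⁻¹ᵁ U') (s' : Γ(ClSub.idealMod J', U')) (s : Γ(ClSub.idealMod J, g ⁻¹ᵁ U'))
    (hs : idealSect J (g ⁻¹ᵁ U') s = g.app U' (idealSect J' U' s'))
    (h₁ : i ⁻¹ᵁ U ≤ gZ ⁻¹ᵁ (i' ⁻¹ᵁ U')) :
    φ.app (i ⁻¹ᵁ U) (PullTrack.pullSectLE gZ ((Scheme.Modules.pullback i').obj (ClSub.idealMod J'))
      (i' ⁻¹ᵁ U') (i ⁻¹ᵁ U) h₁ (pullSect i' (ClSub.idealMod J') U' s')) =
      pullSect i (ClSub.idealMod J) U ((ClSub.idealMod J).presheaf.map (homOfLE e).op s) := by
  have h₂ : i ⁻¹ᵁ U ≤ i ⁻¹ᵁ (g ⁻¹ᵁ U') := fun z hz => e hz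
  have h3 := hφ U' s' s hs (i ⁻¹ᵁ U) h₁ h₂
  rw [PullTrack.pullSectLE_apply, PullTrack.app_res, h3, PullTrack.pullSect_res i _ e s]

/-- On a small affine where the ideal of the source is generated by the image of the ideal of the
target, the canonical map is surjective on sections. -/
theorem Track.local_surjective (hφ : Track i i' g gZ J J' φ) (hsq : gZ ≫ i' = i ≫ g)
    {U' : X'.Opens} (hU' : IsAffineOpen U') {U : X.Opens} (hU : IsAffineOpen U)
    (e : U ≤ g ⁻¹ᵁ U') (hW : IsAffineOpen (i ⁻¹ᵁ U)) (hsurj : Function.Surjective (i.app U))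
    (hpush : ∀ a' ∈ J'.ideal ⟨U', hU'⟩, ∀ (V : X.affineOpens) (hV : V.1 ≤ g ⁻¹ᵁ U'),
      X.presheaf.map (homOfLE hV).op (g.app U' a') ∈ J.ideal V)
    (hgen : J.ideal ⟨U, hU⟩ ≤ Ideal.map (g.appLE U' U e).hom (J'.ideal ⟨U', hU'⟩)) :
    Function.Surjective (φ.app (i ⁻¹ᵁ U)) := by
  haveI : (ClSub.idealMod J).IsQuasicoherent :=
    inferInstanceAs (kernel (ClSub.toSubscheme J)).IsQuasicoherent
  have h₁ : i ⁻¹ᵁ U ≤ gZ ⁻¹ᵁ (i' ⁻¹ᵁ U') := by
    intro z hz
    show i' (gZ z) ∈ U'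
    have h2 : i' (gZ z) = g (i z) := by
      rw [← Scheme.Hom.comp_apply, ← Scheme.Hom.comp_apply, hsq]
    rw [h2]; exact e hz
  -- the key predicate on functions
  have key : ∀ a ∈ Ideal.map (g.appLE U' U e).hom (J'.ideal ⟨U', hU'⟩),
      ∃ (y : Γ((Scheme.Modules.pullback gZ).obj
          ((Scheme.Modules.pullback i').obj (ClSub.idealMod J')), i ⁻¹ᵁ U))
        (x : Γ(ClSub.idealMod J, U)), idealSect J U x = a ∧
        φ.app (i ⁻¹ᵁ U) y = pullSect i (ClSub.idealMod J) U x := by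
    intro a ha
    rw [Ideal.map] at ha
    induction ha using Submodule.span_induction with
    | mem a ha =>
      obtain ⟨a', ha', rfl⟩ := ha
      obtain ⟨s', hs'⟩ := exists_idealSect_eq J' ⟨U', hU'⟩ a' ha'
      obtain ⟨s, hs⟩ := exists_idealSect_eq_of_forall_mem J (g ⁻¹ᵁ U') (g.app U' a')
        (hpush a' ha')
      have hs2 : idealSect J (g ⁻¹ᵁ U') s = g.app U' (idealSect J' U' s') := by rw [hs, hs']
      refine ⟨_, _, ?_, hφ.app_eq e s' s hs2 h₁⟩
      rw [idealSect_res, hs]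
      rfl
    | zero => exact ⟨0, 0, map_zero _, by rw [map_zero, map_zero]⟩
    | add a b _ _ iha ihb =>
      obtain ⟨y, x, hx, hy⟩ := iha
      obtain ⟨y', x', hx', hy'⟩ := ihb
      exact ⟨y + y', x + x', by rw [map_add, hx, hx'], by rw [map_add, map_add, hy, hy']⟩
    | smul b a _ iha =>
      obtain ⟨y, x, hx, hy⟩ := iha
      refine ⟨(i.app U).hom b • y, b • x, ?_, ?_⟩
      · rw [idealSect_smul, hx]; rfl
      · rw [Scheme.Modules.Hom.app_smul, hy, pullSect_smul]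
  intro t
  obtain ⟨x, rfl⟩ := ConormalReg.exists_pullSect_eq_of_surjective i (ClSub.idealMod J) hU hW hsurj t
  obtain ⟨y, x', hx', hy⟩ := key (idealSect J U x) (hgen (idealSect_mem_ideal J ⟨U, hU⟩ x))
  have hxx : x' = x := ι_injective J U hx'
  subst hxx
  exact ⟨y, hy⟩

end Track

section Cover

variable {Z X Z' X' : Scheme.{u}} (i : Z ⟶ X) (i' : Z' ⟶ X') (g : X ⟶ X') (gZ : Z ⟶ Z')
  [IsImmersion i] [IsImmersion i']

/-- Index type of the cover of `Z` by small affines adapted to a commutative square of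
immersions. -/
structure IdxS : Type u where
  U' : X'.Opens
  U : X.Opens
  hU' : IsAffineOpen U'
  hU'le : U' ≤ i'.coborderRange
  hU : IsAffineOpen U
  hUle : U ≤ i.coborderRange
  e : U ≤ g ⁻¹ᵁ U'

variable (hsq : gZ ≫ i' = i ≫ g)

include hsq in
theorem isOpenCover_idxS : IsOpenCover (fun k : IdxS i i' g => i ⁻¹ᵁ k.U) := by
  rw [IsOpenCover, eq_top_iff]
  intro z _
  have h2 : i' (gZ z) = g (i z) := by
    rw [← Scheme.Hom.comp_apply, ← Scheme.Hom.comp_apply, hsq]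
  have hz' : g (i z) ∈ i'.coborderRange := by
    rw [← h2]
    have := (i'.liftCoborder (gZ z)).2
    rwa [show (i'.liftCoborder (gZ z)).1 = i' (gZ z) from by
      rw [← Scheme.Opens.ι_apply, ← Scheme.Hom.comp_apply, Scheme.Hom.liftCoborder_ι]] at this
  obtain ⟨U', hU', hzU', hU'le⟩ :=
    (Opens.isBasis_iff_nbhd.mp X'.isBasis_affineOpens) hz'
  have hz : i z ∈ g ⁻¹ᵁ U' ⊓ i.coborderRange := by
    refine ⟨hzU', ?_⟩
    have := (i.liftCoborder z).2
    rwa [show (i.liftCoborder z).1 = i z from by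
      rw [← Scheme.Opens.ι_apply, ← Scheme.Hom.comp_apply, Scheme.Hom.liftCoborder_ι]] at this
  obtain ⟨U, hU, hzU, hUle⟩ := (Opens.isBasis_iff_nbhd.mp X.isBasis_affineOpens) hz
  exact Opens.mem_iSup.mpr ⟨⟨U', U, hU', hU'le, hU, fun x hx => (hUle hx).2,
    fun x hx => (hUle hx).1⟩, hzU⟩

end Cover

section Global

variable {Z X Z' X' : Scheme.{u}} {i : Z ⟶ X} {i' : Z' ⟶ X'} {g : X ⟶ X'} {gZ : Z ⟶ Z'}
  [IsImmersion i] [IsImmersion i'] [QuasiCompact i] [QuasiCompact i']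
  {J : X.IdealSheafData} {J' : X'.IdealSheafData}
  {φ : (Scheme.Modules.pullback gZ).obj ((Scheme.Modules.pullback i').obj (ClSub.idealMod J')) ⟶
    (Scheme.Modules.pullback i).obj (ClSub.idealMod J)}

omit [IsImmersion i] [IsImmersion i'] in
/-- `g♯` maps the kernel of `i'♯` into the kernel of `i♯`. -/
lemma appLE_mem_ker (hsq : gZ ≫ i' = i ≫ g) {U' : X'.Opens} {V : X.Opens} (hV : V ≤ g ⁻¹ᵁ U')
    (b' : Γ(X', U')) (hb' : (i'.app U').hom b' = 0) :
    (i.app V).hom ((g.appLE U' V hV).hom b') = 0 := by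
  have h1 : (i.app V).hom ((g.appLE U' V hV).hom b') =
      ((i ≫ g).appLE U' (i ⁻¹ᵁ V) (fun z hz => hV hz)).hom b' := by
    rw [← Scheme.Hom.appLE_comp_appLE i g U' V (i ⁻¹ᵁ V) hV le_rfl, Scheme.Hom.appLE_eq_app]
    rfl
  have h2 : ((gZ ≫ i').appLE U' (i ⁻¹ᵁ V) (by rw [hsq]; exact fun z hz => hV hz)).hom b' =
      (gZ.appLE (i' ⁻¹ᵁ U') (i ⁻¹ᵁ V) (by
        intro z hz
        show i' (gZ z) ∈ U'
        have h2 : i' (gZ z) = g (i z) := by
          rw [← Scheme.Hom.comp_apply, ← Scheme.Hom.comp_apply, hsq]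
        rw [h2]; exact hV hz)).hom ((i'.app U').hom b') := by
    rw [← Scheme.Hom.appLE_comp_appLE gZ i' U' (i' ⁻¹ᵁ U') (i ⁻¹ᵁ V) le_rfl, Scheme.Hom.appLE_eq_app]
    rfl
  rw [h1]
  have h3 : ((i ≫ g).appLE U' (i ⁻¹ᵁ V) (fun z hz => hV hz)).hom b' =
      ((gZ ≫ i').appLE U' (i ⁻¹ᵁ V) (by rw [hsq]; exact fun z hz => hV hz)).hom b' := by
    rw [ConormalSplit.appLE_congr_hom hsq.symm]
  rw [h3, h2, hb', map_zero]

/-- In a cartesian square of quasi-compact immersions, the canonical map between the pulled-back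
`n`-th powers of the ideals is an epimorphism. -/
theorem epi_of_isPullback (hφ : Track i i' g gZ J J' φ) (hpb : IsPullback gZ i i' g) (n : ℕ)
    (hJ : ∀ U : X.affineOpens, J.ideal U = (i.ker.ideal U) ^ n)
    (hJ' : ∀ U : X'.affineOpens, J'.ideal U = (i'.ker.ideal U) ^ n) : Epi φ := by
  haveI : (ClSub.idealMod J).IsQuasicoherent :=
    inferInstanceAs (kernel (ClSub.toSubscheme J)).IsQuasicoherent
  haveI : ((Scheme.Modules.pullback i).obj (ClSub.idealMod J)).IsQuasicoherent :=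
    Groth.Agent.H8.isQuasicoherent_pullback i (ClSub.idealMod J)
  refine Groth.Agent.H18.Serre.epi_of_surjective_affine_cover φ _
    (isOpenCover_idxS i i' g gZ hpb.w) (fun k => (coborder_affine' i k.hU k.hUle).1) (fun k => ?_)
  have hcl' : IsClosedImmersion (i' ∣_ k.U') :=
    Groth.Agent.H56.LciSch.isClosedImmersion_restrict_of_le_coborderRange i' k.U' k.hU'le
  obtain ⟨-, hker⟩ := Groth.Agent.H59.RegImmDesc.closedImm_and_ker_of_isPullback i' g i gZ hpb
    k.hU' hcl' k.hU k.e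
  refine hφ.local_surjective hpb.w k.hU' k.hU k.e (coborder_affine' i k.hU k.hUle).1
    (coborder_affine' i k.hU k.hUle).2 ?_ ?_
  · intro a' ha' V hV
    rw [hJ V, Scheme.Hom.ker_apply]
    rw [hJ', Scheme.Hom.ker_apply] at ha'
    have hle : Ideal.map (g.appLE k.U' V.1 hV).hom (RingHom.ker (i'.app k.U').hom) ≤
        RingHom.ker (i.app V.1).hom :=
      Ideal.map_le_iff_le_comap.mpr (fun b hb => appLE_mem_ker hpb.w hV b hb)
    have h1 : (g.appLE k.U' V.1 hV).hom a' ∈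
        Ideal.map (g.appLE k.U' V.1 hV).hom (RingHom.ker (i'.app k.U').hom ^ n) :=
      Ideal.mem_map_of_mem _ ha'
    rw [Ideal.map_pow] at h1
    exact Ideal.pow_right_mono hle n h1
  · rw [hJ, hJ', Scheme.Hom.ker_apply, Scheme.Hom.ker_apply, hker, Ideal.map_pow]

end Global

end Groth.Agent.H39.GrMap
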