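import Mathlib.RingTheory.Flat.Basic
import Mathlib.RingTheory.TensorProduct.Basic
import Mathlib.LinearAlgebra.TensorProduct.Tower
import Mathlib.RingTheory.Ideal.Maps

/-!
# Abstract algebra for canonical maps between base-changed modules, tracked on generators
-/

set_option autoImplicit false
open scoped TensorProduct

namespace Groth.Agent.H39.TensorTrack

section Flat

variable {A' A : Type*} [CommRing A'] [CommRing A] [Algebra A' A]
  {N' N : Type*} [AddCommGroup N'] [Module A' N'] [AddCommGroup N] [Module A N] [Module A' N]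
  [IsScalarTower A' A N]

/-- For a flat ring map `A' → A` and ideals `I = I' A`, presented as modules `N' ≅ I'`, `N ≅ I`
with a compatible semilinear map `ν : N' → N`: the map `A ⊗[A'] N' → N` is bijective. -/
theorem liftBaseChange_bijective_of_flat [Module.Flat A' A] (I' : Ideal A') (I : Ideal A)
    (hI : I ≤ Ideal.map (algebraMap A' A) I')
    (ι' : N' →ₗ[A'] A') (hι' : Function.Injective ι') (hr' : ∀ a' ∈ I', ∃ s', ι' s' = a')
    (ι : N →ₗ[A] A) (hι : Function.Injective ι) (hr : ∀ x, ι x ∈ I)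
    (ν : N' →ₗ[A'] N) (hν : ∀ s', ι (ν s') = algebraMap A' A (ι' s')) :
    Function.Bijective (ν.liftBaseChange A) := by
  have hcomp : ∀ z : A ⊗[A'] N', ι (ν.liftBaseChange A z) =
      TensorProduct.rid A' A (LinearMap.lTensor A ι' z) := by
    intro z
    induction z using TensorProduct.induction_on with
    | zero => simp only [map_zero]
    | add x y hx hy => simp only [map_add, hx, hy]
    | tmul a s' =>
      rw [LinearMap.liftBaseChange_tmul, map_smul, hν, LinearMap.lTensor_tmul,
        TensorProduct.rid_tmul, smul_eq_mul, Algebra.smul_def, mul_comm]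
  have hlt : Function.Injective (LinearMap.lTensor A ι') :=
    Module.Flat.lTensor_preserves_injective_linearMap ι' hι'
  constructor
  · intro z z' hz
    apply hlt
    apply (TensorProduct.rid A' A).injective
    rw [← hcomp, ← hcomp, hz]
  · intro x
    have key : ∀ a ∈ Ideal.map (algebraMap A' A) I', ∃ z : A ⊗[A'] N',
        ι (ν.liftBaseChange A z) = a := by
      intro a ha
      rw [Ideal.map] at ha
      induction ha using Submodule.span_induction with
      | mem a ha =>
        obtain ⟨a', ha', rfl⟩ := ha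
        obtain ⟨s', rfl⟩ := hr' a' ha'
        exact ⟨1 ⊗ₜ s', by rw [LinearMap.liftBaseChange_tmul, one_smul, hν]⟩
      | zero => exact ⟨0, by rw [map_zero, map_zero]⟩
      | add a b _ _ iha ihb =>
        obtain ⟨z, hz⟩ := iha
        obtain ⟨z', hz'⟩ := ihb
        exact ⟨z + z', by rw [map_add, map_add, hz, hz']⟩
      | smul c a _ iha =>
        obtain ⟨z, hz⟩ := iha
        exact ⟨c • z, by rw [map_smul, map_smul, hz]⟩
    obtain ⟨z, hz⟩ := key (ι x) (hI (hr x))
    exact ⟨z, hι hz⟩

end Flat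

section Tracking

variable {A' A B' B : Type*} [CommRing A'] [CommRing A] [CommRing B'] [CommRing B]
  [Algebra A' A] [Algebra A' B'] [Algebra A B] [Algebra B' B] [Algebra A' B]
  [IsScalarTower A' A B] [IsScalarTower A' B' B]
  {N' N P1 P2 P3 : Type*} [AddCommGroup N'] [Module A' N'] [AddCommGroup N] [Module A N]
  [Module A' N] [IsScalarTower A' A N]
  [AddCommGroup P1] [Module B' P1] [AddCommGroup P2] [Module B P2] [AddCommGroup P3] [Module B P3]

/-- A `B`-linear map between modules identified with `B ⊗[B'] (B' ⊗[A'] N')` and `B ⊗[A] N`,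
which on the tracked generators is induced by `ν : N' → N`, is bijective as soon as
`A ⊗[A'] N' → N` is. -/
theorem bijective_of_tracking (ν : N' →ₗ[A'] N) (hH : Function.Bijective (ν.liftBaseChange A))
    (E1 : P1 ≃ₗ[B'] B' ⊗[A'] N') (p1 : N' → P1) (h1 : ∀ s', E1 (p1 s') = 1 ⊗ₜ s')
    (E2 : P2 ≃ₗ[B] B ⊗[B'] P1) (p2 : P1 → P2) (h2 : ∀ q, E2 (p2 q) = 1 ⊗ₜ q)
    (E3 : P3 ≃ₗ[B] B ⊗[A] N) (p3 : N → P3) (h3 : ∀ x, E3 (p3 x) = 1 ⊗ₜ x)
    (φ : P2 →ₗ[B] P3) (hφ : ∀ s', φ (p2 (p1 s')) = p3 (ν s')) : Function.Bijective φ := by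
  let θ : A ⊗[A'] N' ≃ₗ[A] N := LinearEquiv.ofBijective (ν.liftBaseChange A) hH
  have hθ : ∀ s', θ.symm (ν s') = 1 ⊗ₜ s' := by
    intro s'
    rw [LinearEquiv.symm_apply_eq]
    show ν s' = ν.liftBaseChange A (1 ⊗ₜ s')
    rw [LinearMap.liftBaseChange_tmul, one_smul]
  let Λ : P2 ≃ₗ[B] B ⊗[A'] N' :=
    E2 ≪≫ₗ TensorProduct.AlgebraTensorModule.congr (LinearEquiv.refl B B) E1 ≪≫ₗ
      TensorProduct.AlgebraTensorModule.cancelBaseChange A' B' B B N'
  let R3 : P3 ≃ₗ[B] B ⊗[A'] N' :=
    E3 ≪≫ₗ TensorProduct.AlgebraTensorModule.congr (LinearEquiv.refl B B) θ.symm ≪≫ₗ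
      TensorProduct.AlgebraTensorModule.cancelBaseChange A' A B B N'
  have hΛ : ∀ s', Λ (p2 (p1 s')) = 1 ⊗ₜ s' := by
    intro s'
    show TensorProduct.AlgebraTensorModule.cancelBaseChange A' B' B B N'
      (TensorProduct.AlgebraTensorModule.congr (LinearEquiv.refl B B) E1 (E2 (p2 (p1 s')))) = _
    rw [h2, TensorProduct.AlgebraTensorModule.congr_tmul, h1,
      TensorProduct.AlgebraTensorModule.cancelBaseChange_tmul, one_smul]
    rfl
  have hR3 : ∀ s', R3 (p3 (ν s')) = 1 ⊗ₜ s' := by
    intro s'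
    show TensorProduct.AlgebraTensorModule.cancelBaseChange A' A B B N'
      (TensorProduct.AlgebraTensorModule.congr (LinearEquiv.refl B B) θ.symm (E3 (p3 (ν s')))) = _
    rw [h3, TensorProduct.AlgebraTensorModule.congr_tmul, hθ,
      TensorProduct.AlgebraTensorModule.cancelBaseChange_tmul, one_smul]
    rfl
  have hcomp : ∀ z : B ⊗[A'] N', R3 (φ (Λ.symm z)) = z := by
    intro z
    induction z using TensorProduct.induction_on with
    | zero => simp only [map_zero]
    | add x y hx hy => simp only [map_add, hx, hy]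
    | tmul b s' =>
      have hb : (b ⊗ₜ[A'] s' : B ⊗[A'] N') = b • ((1 : B) ⊗ₜ[A'] s') := by
        rw [TensorProduct.smul_tmul', smul_eq_mul, mul_one]
      rw [hb, map_smul, map_smul, map_smul, ← hΛ s', LinearEquiv.symm_apply_apply, hφ, hR3, hΛ]
  have hφeq : ∀ y : P2, φ y = R3.symm (Λ y) := by
    intro y
    rw [LinearEquiv.eq_symm_apply]
    have := hcomp (Λ y)
    rwa [LinearEquiv.symm_apply_apply] at this
  have : (φ : P2 → P3) = R3.symm ∘ Λ := funext hφeq
  rw [this]
  exact R3.symm.bijective.comp Λ.bijective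

end Tracking

end Groth.Agent.H39.TensorTrack
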