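import Groth.Agent.H39.GrMap
import Groth.Agent.H39.TensorTrack

/-!
# Canonical maps between pulled-back ideal modules: local bijectivity under flatness
-/

set_option autoImplicit false
set_option linter.style.haveILetI false
universe u
open CategoryTheory CategoryTheory.Limits AlgebraicGeometry Opposite OmegaSh TopologicalSpace
open scoped TensorProduct

namespace Groth.Agent.H39.GrMap

open Groth.Agent.H39 Groth.Agent.H8 Groth.Agent.H39.ConormalLocal Groth.Agent.H39.ConormalSect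
  Groth.Agent.H39.ConormalMono Groth.Agent.H39.ConormalSplit Groth.Agent.H39.ConormalMap

section Local

variable {Z X Z' X' : Scheme.{u}} {i : Z ⟶ X} {i' : Z' ⟶ X'} {g : X ⟶ X'} {gZ : Z ⟶ Z'}
  {J : X.IdealSheafData} {J' : X'.IdealSheafData}
  {φ : (Scheme.Modules.pullback gZ).obj ((Scheme.Modules.pullback i').obj (ClSub.idealMod J')) ⟶
    (Scheme.Modules.pullback i).obj (ClSub.idealMod J)}

set_option maxHeartbeats 1600000 in
/-- On a small affine, if `A ⊗[A'] J'(U') → J(U)` is bijective then the canonical map is bijective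
on sections. -/
theorem Track.local_bijective (hφ : Track i i' g gZ J J' φ) (hsq : gZ ≫ i' = i ≫ g)
    {U' : X'.Opens} (hU' : IsAffineOpen U') {U : X.Opens} (hU : IsAffineOpen U)
    (e : U ≤ g ⁻¹ᵁ U') (hW : IsAffineOpen (i ⁻¹ᵁ U)) (hW' : IsAffineOpen (i' ⁻¹ᵁ U'))
    (hpush : ∀ a' ∈ J'.ideal ⟨U', hU'⟩, ∀ (V : X.affineOpens) (hV : V.1 ≤ g ⁻¹ᵁ U'),
      X.presheaf.map (homOfLE hV).op (g.app U' a') ∈ J.ideal V)
    (hH : letI : Algebra Γ(X', U') Γ(X, U) := (g.appLE U' U e).hom.toAlgebra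
      letI : Module Γ(X', U') Γ(ClSub.idealMod J, U) :=
        Module.compHom Γ(ClSub.idealMod J, U) (algebraMap Γ(X', U') Γ(X, U))
      haveI : IsScalarTower Γ(X', U') Γ(X, U) Γ(ClSub.idealMod J, U) :=
        IsScalarTower.of_algebraMap_smul (fun _ _ => rfl)
      ∀ ν : Γ(ClSub.idealMod J', U') →ₗ[Γ(X', U')] Γ(ClSub.idealMod J, U),
        (∀ s', idealSect J U (ν s') = (g.appLE U' U e).hom (idealSect J' U' s')) →
        Function.Bijective (ν.liftBaseChange Γ(X, U))) :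
    Function.Bijective (φ.app (i ⁻¹ᵁ U)) := by
  haveI : (ClSub.idealMod J).IsQuasicoherent :=
    inferInstanceAs (kernel (ClSub.toSubscheme J)).IsQuasicoherent
  haveI : (ClSub.idealMod J').IsQuasicoherent :=
    inferInstanceAs (kernel (ClSub.toSubscheme J')).IsQuasicoherent
  haveI : ((Scheme.Modules.pullback i').obj (ClSub.idealMod J')).IsQuasicoherent :=
    Groth.Agent.H8.isQuasicoherent_pullback i' (ClSub.idealMod J')
  have h₁ : i ⁻¹ᵁ U ≤ gZ ⁻¹ᵁ (i' ⁻¹ᵁ U') := by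
    intro z hz
    show i' (gZ z) ∈ U'
    have h2 : i' (gZ z) = g (i z) := by
      rw [← Scheme.Hom.comp_apply, ← Scheme.Hom.comp_apply, hsq]
    rw [h2]; exact e hz
  have e0 : i ⁻¹ᵁ U ≤ i ⁻¹ᵁ U := le_rfl
  have e0' : i' ⁻¹ᵁ U' ≤ i' ⁻¹ᵁ U' := le_rfl
  letI aA'A : Algebra Γ(X', U') Γ(X, U) := (g.appLE U' U e).hom.toAlgebra
  letI aA'B' : Algebra Γ(X', U') Γ(Z', i' ⁻¹ᵁ U') := (i'.appLE U' (i' ⁻¹ᵁ U') e0').hom.toAlgebra
  letI aAB : Algebra Γ(X, U) Γ(Z, i ⁻¹ᵁ U) := (i.appLE U (i ⁻¹ᵁ U) e0).hom.toAlgebra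
  letI aB'B : Algebra Γ(Z', i' ⁻¹ᵁ U') Γ(Z, i ⁻¹ᵁ U) :=
    (gZ.appLE (i' ⁻¹ᵁ U') (i ⁻¹ᵁ U) h₁).hom.toAlgebra
  letI aA'B : Algebra Γ(X', U') Γ(Z, i ⁻¹ᵁ U) :=
    ((algebraMap Γ(X, U) Γ(Z, i ⁻¹ᵁ U)).comp (algebraMap Γ(X', U') Γ(X, U))).toAlgebra
  haveI : IsScalarTower Γ(X', U') Γ(X, U) Γ(Z, i ⁻¹ᵁ U) := IsScalarTower.of_algebraMap_eq' rfl
  haveI : IsScalarTower Γ(X', U') Γ(Z', i' ⁻¹ᵁ U') Γ(Z, i ⁻¹ᵁ U) := by
    refine IsScalarTower.of_algebraMap_eq' ?_
    show (i.appLE U (i ⁻¹ᵁ U) e0).hom.comp (g.appLE U' U e).hom =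
      (gZ.appLE (i' ⁻¹ᵁ U') (i ⁻¹ᵁ U) h₁).hom.comp (i'.appLE U' (i' ⁻¹ᵁ U') e0').hom
    rw [← CommRingCat.hom_comp, ← CommRingCat.hom_comp, Scheme.Hom.appLE_comp_appLE,
      Scheme.Hom.appLE_comp_appLE, ConormalSplit.appLE_congr_hom hsq.symm]
  letI mA'N : Module Γ(X', U') Γ(ClSub.idealMod J, U) :=
    Module.compHom Γ(ClSub.idealMod J, U) (algebraMap Γ(X', U') Γ(X, U))
  haveI : IsScalarTower Γ(X', U') Γ(X, U) Γ(ClSub.idealMod J, U) :=
    IsScalarTower.of_algebraMap_smul (fun _ _ => rfl)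
  -- the semilinear map `ν`
  have hex : ∀ s' : Γ(ClSub.idealMod J', U'), ∃ x : Γ(ClSub.idealMod J, U),
      idealSect J U x = (g.appLE U' U e).hom (idealSect J' U' s') := by
    intro s'
    refine exists_idealSect_eq J ⟨U, hU⟩ _ ?_
    exact hpush _ (idealSect_mem_ideal J' ⟨U', hU'⟩ s') ⟨U, hU⟩ e
  choose ν₀ hν₀ using hex
  let ν : Γ(ClSub.idealMod J', U') →ₗ[Γ(X', U')] Γ(ClSub.idealMod J, U) :=
    { toFun := ν₀
      map_add' := fun a b => ι_injective J U (by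
        show idealSect J U (ν₀ (a + b)) = idealSect J U (ν₀ a + ν₀ b)
        rw [hν₀, map_add, map_add, map_add, hν₀, hν₀])
      map_smul' := fun r a => ι_injective J U (by
        show idealSect J U (ν₀ (r • a)) =
          idealSect J U ((algebraMap Γ(X', U') Γ(X, U) r) • ν₀ a)
        rw [hν₀, idealSect_smul, idealSect_smul, map_mul, hν₀]
        rfl) }
  have hν : ∀ s', idealSect J U (ν s') = (g.appLE U' U e).hom (idealSect J' U' s') := hν₀
  have hHν := hH ν hν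
  obtain ⟨E1, hE1⟩ := PullTrack.exists_sectionsPullbackEquiv i' (ClSub.idealMod J') hU' hW' e0'
  obtain ⟨E2, hE2⟩ := PullTrack.exists_sectionsPullbackEquiv gZ
    ((Scheme.Modules.pullback i').obj (ClSub.idealMod J')) hW' hW h₁
  obtain ⟨E3, hE3⟩ := PullTrack.exists_sectionsPullbackEquiv i (ClSub.idealMod J) hU hW e0
  let φlin : Γ((Scheme.Modules.pullback gZ).obj
      ((Scheme.Modules.pullback i').obj (ClSub.idealMod J')), i ⁻¹ᵁ U) →ₗ[Γ(Z, i ⁻¹ᵁ U)]
      Γ((Scheme.Modules.pullback i).obj (ClSub.idealMod J), i ⁻¹ᵁ U) :=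
    { toFun := fun q => φ.app (i ⁻¹ᵁ U) q
      map_add' := fun a b => map_add _ a b
      map_smul' := fun r q => Scheme.Modules.Hom.app_smul φ r q }
  have hφlin : ∀ s', φlin (PullTrack.pullSectLE gZ
      ((Scheme.Modules.pullback i').obj (ClSub.idealMod J')) (i' ⁻¹ᵁ U') (i ⁻¹ᵁ U) h₁
      (PullTrack.pullSectLE i' (ClSub.idealMod J') U' (i' ⁻¹ᵁ U') e0' s')) =
      PullTrack.pullSectLE i (ClSub.idealMod J) U (i ⁻¹ᵁ U) e0 (ν s') := by
    intro s'
    obtain ⟨s, hs⟩ := exists_idealSect_eq_of_forall_mem J (g ⁻¹ᵁ U')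
      (g.app U' (idealSect J' U' s')) (hpush _ (idealSect_mem_ideal J' ⟨U', hU'⟩ s'))
    have h3 := hφ.app_eq e s' s hs h₁
    rw [PullTrack.pullSectLE_self, PullTrack.pullSectLE_self]
    refine h3.trans ?_
    congr 1
    apply ι_injective J U
    show idealSect J U _ = idealSect J U (ν s')
    rw [idealSect_res, hs, hν]
    rfl
  exact TensorTrack.bijective_of_tracking ν hHν E1 _ hE1 E2 _ hE2 E3 _ hE3 φlin hφlin

/-- The hypothesis `hH` of `Track.local_bijective` holds when `g♯` is flat and `J(U) = J'(U')·O(U)`. -/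
theorem hH_of_flat {X X' : Scheme.{u}} {g : X ⟶ X'} {J : X.IdealSheafData} {J' : X'.IdealSheafData}
    {U' : X'.Opens} (hU' : IsAffineOpen U') {U : X.Opens} (hU : IsAffineOpen U)
    (e : U ≤ g ⁻¹ᵁ U') (hflat : (g.appLE U' U e).hom.Flat)
    (hgen : J.ideal ⟨U, hU⟩ ≤ Ideal.map (g.appLE U' U e).hom (J'.ideal ⟨U', hU'⟩)) :
    letI : Algebra Γ(X', U') Γ(X, U) := (g.appLE U' U e).hom.toAlgebra
    letI : Module Γ(X', U') Γ(ClSub.idealMod J, U) :=
      Module.compHom Γ(ClSub.idealMod J, U) (algebraMap Γ(X', U') Γ(X, U))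
    haveI : IsScalarTower Γ(X', U') Γ(X, U) Γ(ClSub.idealMod J, U) :=
      IsScalarTower.of_algebraMap_smul (fun _ _ => rfl)
    ∀ ν : Γ(ClSub.idealMod J', U') →ₗ[Γ(X', U')] Γ(ClSub.idealMod J, U),
      (∀ s', idealSect J U (ν s') = (g.appLE U' U e).hom (idealSect J' U' s')) →
      Function.Bijective (ν.liftBaseChange Γ(X, U)) := by
  letI : Algebra Γ(X', U') Γ(X, U) := (g.appLE U' U e).hom.toAlgebra
  letI : Module Γ(X', U') Γ(ClSub.idealMod J, U) :=
    Module.compHom Γ(ClSub.idealMod J, U) (algebraMap Γ(X', U') Γ(X, U))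
  haveI : IsScalarTower Γ(X', U') Γ(X, U) Γ(ClSub.idealMod J, U) :=
    IsScalarTower.of_algebraMap_smul (fun _ _ => rfl)
  haveI : Module.Flat Γ(X', U') Γ(X, U) := hflat
  intro ν hν
  let ι' : Γ(ClSub.idealMod J', U') →ₗ[Γ(X', U')] Γ(X', U') :=
    { toFun := fun t => idealSect J' U' t
      map_add' := fun a b => map_add _ a b
      map_smul' := fun r t => idealSect_smul J' U' r t }
  let ι : Γ(ClSub.idealMod J, U) →ₗ[Γ(X, U)] Γ(X, U) :=
    { toFun := fun t => idealSect J U t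
      map_add' := fun a b => map_add _ a b
      map_smul' := fun r t => idealSect_smul J U r t }
  exact TensorTrack.liftBaseChange_bijective_of_flat (J'.ideal ⟨U', hU'⟩) (J.ideal ⟨U, hU⟩) hgen
    ι' (ι_injective J' U') (fun a' ha' => exists_idealSect_eq J' ⟨U', hU'⟩ a' ha')
    ι (ι_injective J U) (fun x => idealSect_mem_ideal J ⟨U, hU⟩ x) ν hν

end Local

section Global

variable {Z X Z' X' : Scheme.{u}} {i : Z ⟶ X} {i' : Z' ⟶ X'} {g : X ⟶ X'} {gZ : Z ⟶ Z'}
  [IsImmersion i] [IsImmersion i'] [QuasiCompact i] [QuasiCompact i']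
  {J : X.IdealSheafData} {J' : X'.IdealSheafData}
  {φ : (Scheme.Modules.pullback gZ).obj ((Scheme.Modules.pullback i').obj (ClSub.idealMod J')) ⟶
    (Scheme.Modules.pullback i).obj (ClSub.idealMod J)}

/-- In a cartesian square of quasi-compact immersions along a flat morphism, the canonical map
between the pulled-back `n`-th powers of the ideals is an isomorphism. -/
theorem isIso_of_isPullback_of_flat (hφ : Track i i' g gZ J J' φ) (hpb : IsPullback gZ i i' g)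
    [Flat g] (n : ℕ) (hJ : ∀ U : X.affineOpens, J.ideal U = (i.ker.ideal U) ^ n)
    (hJ' : ∀ U : X'.affineOpens, J'.ideal U = (i'.ker.ideal U) ^ n) : IsIso φ := by
  haveI : (ClSub.idealMod J).IsQuasicoherent :=
    inferInstanceAs (kernel (ClSub.toSubscheme J)).IsQuasicoherent
  haveI : ((Scheme.Modules.pullback i).obj (ClSub.idealMod J)).IsQuasicoherent :=
    Groth.Agent.H8.isQuasicoherent_pullback i (ClSub.idealMod J)
  haveI : (ClSub.idealMod J').IsQuasicoherent :=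
    inferInstanceAs (kernel (ClSub.toSubscheme J')).IsQuasicoherent
  haveI : ((Scheme.Modules.pullback i').obj (ClSub.idealMod J')).IsQuasicoherent :=
    Groth.Agent.H8.isQuasicoherent_pullback i' (ClSub.idealMod J')
  haveI : ((Scheme.Modules.pullback gZ).obj
      ((Scheme.Modules.pullback i').obj (ClSub.idealMod J'))).IsQuasicoherent :=
    Groth.Agent.H8.isQuasicoherent_pullback gZ _
  have hbij : ∀ k : IdxS i i' g, Function.Bijective (φ.app (i ⁻¹ᵁ k.U)) := by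
    intro k
    have hcl' : IsClosedImmersion (i' ∣_ k.U') :=
      Groth.Agent.H56.LciSch.isClosedImmersion_restrict_of_le_coborderRange i' k.U' k.hU'le
    obtain ⟨-, hker⟩ := Groth.Agent.H59.RegImmDesc.closedImm_and_ker_of_isPullback i' g i gZ hpb
      k.hU' hcl' k.hU k.e
    refine hφ.local_bijective hpb.w k.hU' k.hU k.e (coborder_affine' i k.hU k.hUle).1
      (coborder_affine' i' k.hU' k.hU'le).1 ?_ ?_
    · intro a' ha' V hV
      rw [hJ V, Scheme.Hom.ker_apply]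
      rw [hJ', Scheme.Hom.ker_apply] at ha'
      have hle : Ideal.map (g.appLE k.U' V.1 hV).hom (RingHom.ker (i'.app k.U').hom) ≤
          RingHom.ker (i.app V.1).hom :=
        Ideal.map_le_iff_le_comap.mpr (fun b hb => appLE_mem_ker hpb.w hV b hb)
      have h1 : (g.appLE k.U' V.1 hV).hom a' ∈
          Ideal.map (g.appLE k.U' V.1 hV).hom (RingHom.ker (i'.app k.U').hom ^ n) :=
        Ideal.mem_map_of_mem _ ha'
      rw [Ideal.map_pow] at h1
      exact Ideal.pow_right_mono hle n h1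
    · refine hH_of_flat k.hU' k.hU k.e
        (HasRingHomProperty.appLE @Flat g ‹_› ⟨k.U', k.hU'⟩ ⟨k.U, k.hU⟩ k.e) ?_
      rw [hJ, hJ', Scheme.Hom.ker_apply, Scheme.Hom.ker_apply, hker, Ideal.map_pow]
  haveI : Mono φ := mono_of_injective_affine_cover φ _ (isOpenCover_idxS i i' g gZ hpb.w)
    (fun k => (coborder_affine' i k.hU k.hUle).1) (fun k => (hbij k).1)
  haveI : Epi φ := Groth.Agent.H18.Serre.epi_of_surjective_affine_cover φ _
    (isOpenCover_idxS i i' g gZ hpb.w) (fun k => (coborder_affine' i k.hU k.hUle).1)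
    (fun k => (hbij k).2)
  exact isIso_of_mono_of_epi φ

end Global

end Groth.Agent.H39.GrMap
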