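import Groth.Agent.H39.TensorTrack
import Mathlib.RingTheory.IsTensorProduct

/-!
# Base change of the ideal of a section: `A ⊗[A'] I' ≅ I`
-/

set_option autoImplicit false
open scoped TensorProduct

namespace Groth.Agent.H39.TensorTrack

section Section

variable {C A' C' A : Type*} [CommRing C] [CommRing A'] [CommRing C'] [CommRing A]
  [Algebra C A'] [Algebra C C'] [Algebra A' A] [Algebra C' A] [Algebra C A]
  [IsScalarTower C A' A] [IsScalarTower C C' A]
  {N' N : Type*} [AddCommGroup N'] [Module A' N'] [AddCommGroup N] [Module A N] [Module A' N]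
  [IsScalarTower A' A N]

/-- Let `A = C' ⊗[C] A'` and let `ρ : A' → C` be a retraction of `C → A'` with kernel `I'`.
For modules `N' ≅ I'`, `N ≅ I ⊆ I' A` with a compatible `ν : N' → N`, the map
`A ⊗[A'] N' → N` is bijective. -/
theorem liftBaseChange_bijective_of_section [hpo : Algebra.IsPushout C C' A' A]
    (ρ : A' →+* C) (hρ : ∀ c, ρ (algebraMap C A' c) = c)
    (I' : Ideal A') (hI' : I' = RingHom.ker ρ) (I : Ideal A)
    (hI : I ≤ Ideal.map (algebraMap A' A) I')
    (ι' : N' →ₗ[A'] A') (hι' : Function.Injective ι') (hm' : ∀ s', ι' s' ∈ I')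
    (hr' : ∀ a' ∈ I', ∃ s', ι' s' = a')
    (ι : N →ₗ[A] A) (hι : Function.Injective ι) (hr : ∀ x, ι x ∈ I)
    (ν : N' →ₗ[A'] N) (hν : ∀ s', ι (ν s') = algebraMap A' A (ι' s')) :
    Function.Bijective (ν.liftBaseChange A) := by
  have hbc : IsBaseChange C' (IsScalarTower.toAlgHom C A' A).toLinearMap := hpo.out
  -- the projection `κ : A' → N'`
  have hmem : ∀ a' : A', a' - algebraMap C A' (ρ a') ∈ I' := by
    intro a'
    rw [hI', RingHom.mem_ker, map_sub, hρ, sub_self]
  have hex : ∀ a' : A', ∃ s', ι' s' = a' - algebraMap C A' (ρ a') := fun a' => hr' _ (hmem a')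
  choose κ hκ using hex
  have hκι : ∀ s', κ (ι' s') = s' := by
    intro s'
    apply hι'
    rw [hκ]
    have h0 : ρ (ι' s') = 0 := by
      have := hm' s'
      rwa [hI', RingHom.mem_ker] at this
    rw [h0, map_zero, sub_zero]
  have hκadd : ∀ a b, κ (a + b) = κ a + κ b := by
    intro a b
    apply hι'
    rw [map_add, hκ, hκ, hκ, map_add, map_add]
    ring
  have hκsmul : ∀ (c : C) (a : A'), κ (algebraMap C A' c * a) = algebraMap C A' c • κ a := by
    intro c a
    apply hι'
    rw [map_smul, hκ, hκ, map_mul, hρ, map_mul, smul_eq_mul]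
    ring
  have hκmul : ∀ (a : A') (s' : N'), κ (a * ι' s') = a • s' := by
    intro a s'
    rw [← smul_eq_mul, ← map_smul, hκι]
  let D₀ : A' →ₗ[C] A ⊗[A'] N' :=
    { toFun := fun a' => (1 : A) ⊗ₜ[A'] κ a'
      map_add' := fun a b => by rw [hκadd, TensorProduct.tmul_add]
      map_smul' := fun c a => by
        show (1 : A) ⊗ₜ[A'] κ (c • a) = c • ((1 : A) ⊗ₜ[A'] κ a)
        rw [Algebra.smul_def c a, hκsmul, TensorProduct.tmul_smul, TensorProduct.smul_tmul',
          TensorProduct.smul_tmul', Algebra.smul_def, mul_one, Algebra.smul_def, mul_one,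
          ← IsScalarTower.algebraMap_apply C A' A] }
  let D : A →ₗ[C'] A ⊗[A'] N' := hbc.lift D₀
  have hD : ∀ a' : A', D (algebraMap A' A a') = (1 : A) ⊗ₜ[A'] κ a' := fun a' => hbc.lift_eq D₀ a'
  -- `D` inverts multiplication
  have hDmul : ∀ (a : A) (s' : N'), D (a * algebraMap A' A (ι' s')) = a ⊗ₜ[A'] s' := by
    intro a s'
    refine hbc.inductionOn a (fun a => D (a * algebraMap A' A (ι' s')) = a ⊗ₜ[A'] s') ?_ ?_ ?_ ?_
    · rw [zero_mul, map_zero, TensorProduct.zero_tmul]
    · intro a'
      show D (algebraMap A' A a' * algebraMap A' A (ι' s')) = algebraMap A' A a' ⊗ₜ[A'] s'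
      rw [← map_mul, hD, hκmul, TensorProduct.tmul_smul, TensorProduct.smul_tmul',
        Algebra.smul_def, mul_one]
    · intro c' a ih
      rw [smul_mul_assoc, map_smul, ih, TensorProduct.smul_tmul']
    · intro a b iha ihb
      rw [add_mul, map_add, iha, ihb, TensorProduct.add_tmul]
  have hleft : ∀ z : A ⊗[A'] N', D (ι (ν.liftBaseChange A z)) = z := by
    intro z
    induction z using TensorProduct.induction_on with
    | zero => simp only [map_zero]
    | add x y hx hy => simp only [map_add, hx, hy]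
    | tmul a s' =>
      rw [LinearMap.liftBaseChange_tmul, map_smul, hν, smul_eq_mul, hDmul]
  constructor
  · intro z z' hz
    rw [← hleft z, ← hleft z', hz]
  · intro x
    have key : ∀ a ∈ Ideal.map (algebraMap A' A) I', ∃ z : A ⊗[A'] N',
        ι (ν.liftBaseChange A z) = a := by
      intro a ha
      rw [Ideal.map] at ha
      induction ha using Submodule.span_induction with
      | mem a ha =>
        obtain ⟨a', ha', rfl⟩ := ha
        obtain ⟨s', rfl⟩ := hr' a' ha'
        exact ⟨1 ⊗ₜ s', by rw [LinearMap.liftBaseChange_tmul, one_smul, hν]⟩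
      | zero => exact ⟨0, by rw [map_zero, map_zero]⟩
      | add a b _ _ iha ihb =>
        obtain ⟨z, hz⟩ := iha
        obtain ⟨z', hz'⟩ := ihb
        exact ⟨z + z', by rw [map_add, map_add, hz, hz']⟩
      | smul c a _ iha =>
        obtain ⟨z, hz⟩ := iha
        exact ⟨c • z, by rw [map_smul, map_smul, hz]⟩
    obtain ⟨z, hz⟩ := key (ι x) (hI (hr x))
    exact ⟨z, hι hz⟩

end Section

end Groth.Agent.H39.TensorTrack
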