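import Groth.Agent.H39.GrMapIso
import Groth.Agent.H39.TensorSection
import Mathlib.AlgebraicGeometry.Morphisms.Flat
import Mathlib.Algebra.Category.Ring.Constructions

/-!
# Conormal sheaf of a section commutes with base change
-/

set_option autoImplicit false
set_option linter.style.haveILetI false
universe u
open CategoryTheory CategoryTheory.Limits AlgebraicGeometry Opposite OmegaSh TopologicalSpace
open scoped TensorProduct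

namespace Groth.Agent.H39.GrMap

open Groth.Agent.H39 Groth.Agent.H8 Groth.Agent.H39.ConormalLocal Groth.Agent.H39.ConormalSect
  Groth.Agent.H39.ConormalMono Groth.Agent.H39.ConormalSplit Groth.Agent.H39.ConormalMap

/-- For a section `f` of `g`, every point of the image of `f` has an affine neighbourhood `U'`
with `g(U') ⊆ f⁻¹(U')`. -/
theorem exists_good_affine {X Y : Scheme.{u}} (g : X ⟶ Y) (f : Y ⟶ X) (hf : f ≫ g = 𝟙 Y) (y : Y) :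
    ∃ U' : X.Opens, IsAffineOpen U' ∧ f y ∈ U' ∧ U' ≤ g ⁻¹ᵁ (f ⁻¹ᵁ U') := by
  have hgf : ∀ y : Y, g (f y) = y := fun y => by
    rw [← Scheme.Hom.comp_apply, hf]; rfl
  obtain ⟨U₁, hU₁, hyU₁, -⟩ :=
    (Opens.isBasis_iff_nbhd.mp X.isBasis_affineOpens) (Opens.mem_top (f y))
  have hO : f y ∈ U₁ ⊓ g ⁻¹ᵁ (f ⁻¹ᵁ U₁) := by
    refine ⟨hyU₁, ?_⟩
    show f (g (f y)) ∈ U₁
    rw [hgf]; exact hyU₁
  obtain ⟨a, ha_le, hxa⟩ := hU₁.exists_basicOpen_le ⟨f y, hO⟩ hyU₁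
  have hDa : IsAffineOpen (X.basicOpen a) := hU₁.basicOpen a
  have hle : X.basicOpen a ≤ g ⁻¹ᵁ (f ⁻¹ᵁ U₁) := ha_le.trans inf_le_right
  have hU'eq : X.basicOpen (X.presheaf.map (homOfLE hle).op
      ((g.app (f ⁻¹ᵁ U₁)).hom ((f.app U₁).hom a))) =
      X.basicOpen a ⊓ g ⁻¹ᵁ (f ⁻¹ᵁ (X.basicOpen a)) := by
    rw [Scheme.basicOpen_res, ← Scheme.preimage_basicOpen, ← Scheme.preimage_basicOpen]
  refine ⟨X.basicOpen a ⊓ g ⁻¹ᵁ (f ⁻¹ᵁ (X.basicOpen a)), ?_, ⟨hxa, ?_⟩, ?_⟩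
  · rw [← hU'eq]
    exact hDa.basicOpen _
  · show f (g (f y)) ∈ X.basicOpen a
    rw [hgf]; exact hxa
  · intro x hx
    refine ⟨hx.2, ?_⟩
    show f (g (f (g x))) ∈ X.basicOpen a
    rw [hgf]
    exact hx.2

section SectionCase

variable {X Y X' Y' : Scheme.{u}} (g : X ⟶ Y) (f : Y ⟶ X) (hf : f ≫ g = 𝟙 Y)
  (u : Y' ⟶ Y) (v : X' ⟶ X) (g' : X' ⟶ Y') (hsq : IsPullback v g' g u)
  (f' : Y' ⟶ X') (hf' : f' ≫ g' = 𝟙 Y') (hf'v : f' ≫ v = u ≫ f)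

include hf hsq hf' hf'v in
/-- The square of the two sections is cartesian. -/
theorem isPullback_section : IsPullback u f' f v := by
  have hright : IsPullback g' v u g := hsq.flip
  have houter : IsPullback (f' ≫ g') u u (f ≫ g) := by
    rw [hf', hf]; exact IsPullback.id_horiz u
  exact (IsPullback.of_right houter hf'v hright).flip

/-- Index type of the cover of `Y'` adapted to the base change of a section. -/
structure IdxSec : Type u where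
  U' : X.Opens
  hU' : IsAffineOpen U'
  good : U' ≤ g ⁻¹ᵁ (f ⁻¹ᵁ U')
  V' : Y'.Opens
  hV' : IsAffineOpen V'
  hV'le : V' ≤ u ⁻¹ᵁ (f ⁻¹ᵁ U')

include hf' hf'v in
omit hf hsq in
lemma preimage_eq (k : IdxSec g f u (Y' := Y')) :
    f' ⁻¹ᵁ (v ⁻¹ᵁ k.U' ⊓ g' ⁻¹ᵁ k.V') = k.V' := by
  have h1 : ∀ z : Y', g' (f' z) = z := fun z => by
    rw [← Scheme.Hom.comp_apply, hf']; rfl
  have h2 : ∀ z : Y', v (f' z) = f (u z) := fun z => by
    rw [← Scheme.Hom.comp_apply, ← Scheme.Hom.comp_apply, hf'v]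
  ext z
  constructor
  · intro hz
    have := hz.2
    show z ∈ k.V'
    have h3 : g' (f' z) ∈ k.V' := this
    rwa [h1] at h3
  · intro hz
    refine ⟨?_, ?_⟩
    · show v (f' z) ∈ k.U'
      rw [h2]; exact k.hV'le hz
    · show g' (f' z) ∈ k.V'
      rw [h1]; exact hz

include hf hf' hf'v in
omit hsq in
theorem isOpenCover_idxSec :
    IsOpenCover (fun k : IdxSec g f u (Y' := Y') => f' ⁻¹ᵁ (v ⁻¹ᵁ k.U' ⊓ g' ⁻¹ᵁ k.V')) := by
  rw [IsOpenCover, eq_top_iff]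
  intro z _
  obtain ⟨U', hU', hzU', good⟩ := exists_good_affine g f hf (u z)
  have hz1 : z ∈ u ⁻¹ᵁ (f ⁻¹ᵁ U') := hzU'
  obtain ⟨V', hV', hzV', hV'le⟩ := (Opens.isBasis_iff_nbhd.mp Y'.isBasis_affineOpens) hz1
  let k : IdxSec g f u (Y' := Y') := ⟨U', hU', good, V', hV', hV'le⟩
  refine Opens.mem_iSup.mpr ⟨k, ?_⟩
  rw [preimage_eq g f u v g' f' hf' hf'v k]
  exact hzV'

variable [IsClosedImmersion f] [IsClosedImmersion f']
  {J : X'.IdealSheafData} {J' : X.IdealSheafData}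
  {φ : (Scheme.Modules.pullback u).obj ((Scheme.Modules.pullback f).obj (ClSub.idealMod J')) ⟶
    (Scheme.Modules.pullback f').obj (ClSub.idealMod J)}

include hf hsq hf' hf'v in
set_option maxHeartbeats 1600000 in
/-- On the members of the cover, the canonical map of conormal sheaves of the two sections is
bijective on sections. -/
theorem local_bijective_section (hφ : Track f' f v u J J' φ)
    (hJ : ∀ U : X'.affineOpens, J.ideal U = f'.ker.ideal U)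
    (hJ' : ∀ U : X.affineOpens, J'.ideal U = f.ker.ideal U) (k : IdxSec g f u (Y' := Y')) :
    Function.Bijective (φ.app (f' ⁻¹ᵁ (v ⁻¹ᵁ k.U' ⊓ g' ⁻¹ᵁ k.V'))) := by
  have hpb : IsPullback u f' f v := isPullback_section g f hf u v g' hsq f' hf' hf'v
  have hUS : IsAffineOpen (f ⁻¹ᵁ k.U') := k.hU'.preimage f
  haveI : IsAffine (f ⁻¹ᵁ k.U').toScheme := hUS
  haveI : IsAffine k.V'.toScheme := k.hV'
  haveI : IsAffine k.U'.toScheme := k.hU'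
  have hUaff : IsAffineOpen (v ⁻¹ᵁ k.U' ⊓ g' ⁻¹ᵁ k.V') :=
    .of_isIso (Scheme.Hom.isPullback_resLE hsq k.hV'le k.good rfl).isoPullback.hom
  have hpo := (isIso_pushoutSection_iff hsq k.hV'le k.good rfl).mp
    (isIso_pushoutSection_of_isAffineOpen hsq k.hV'le k.good rfl hUS k.hV' k.hU')
  have e : v ⁻¹ᵁ k.U' ⊓ g' ⁻¹ᵁ k.V' ≤ v ⁻¹ᵁ k.U' := inf_le_left
  have e' : v ⁻¹ᵁ k.U' ⊓ g' ⁻¹ᵁ k.V' ≤ g' ⁻¹ᵁ k.V' := inf_le_right
  have hW : IsAffineOpen (f' ⁻¹ᵁ (v ⁻¹ᵁ k.U' ⊓ g' ⁻¹ᵁ k.V')) := by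
    rw [preimage_eq g f u v g' f' hf' hf'v k]; exact k.hV'
  have hcl' : IsClosedImmersion (f ∣_ k.U') := inferInstance
  obtain ⟨-, hker⟩ := Groth.Agent.H59.RegImmDesc.closedImm_and_ker_of_isPullback f v f' u hpb
    k.hU' hcl' hUaff e
  refine hφ.local_bijective hf'v.symm k.hU' hUaff e hW hUS ?_ ?_
  · intro a' ha' V hV
    rw [hJ V, Scheme.Hom.ker_apply]
    rw [hJ', Scheme.Hom.ker_apply] at ha'
    exact appLE_mem_ker hf'v.symm hV a' ha'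
  · letI aA'A : Algebra Γ(X, k.U') Γ(X', v ⁻¹ᵁ k.U' ⊓ g' ⁻¹ᵁ k.V') :=
      (v.appLE k.U' (v ⁻¹ᵁ k.U' ⊓ g' ⁻¹ᵁ k.V') e).hom.toAlgebra
    letI : Module Γ(X, k.U') Γ(ClSub.idealMod J, v ⁻¹ᵁ k.U' ⊓ g' ⁻¹ᵁ k.V') :=
      Module.compHom Γ(ClSub.idealMod J, v ⁻¹ᵁ k.U' ⊓ g' ⁻¹ᵁ k.V')
        (algebraMap Γ(X, k.U') Γ(X', v ⁻¹ᵁ k.U' ⊓ g' ⁻¹ᵁ k.V'))
    haveI : IsScalarTower Γ(X, k.U') Γ(X', v ⁻¹ᵁ k.U' ⊓ g' ⁻¹ᵁ k.V')
        Γ(ClSub.idealMod J, v ⁻¹ᵁ k.U' ⊓ g' ⁻¹ᵁ k.V') :=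
      IsScalarTower.of_algebraMap_smul (fun _ _ => rfl)
    letI aCA' : Algebra Γ(Y, f ⁻¹ᵁ k.U') Γ(X, k.U') :=
      (g.appLE (f ⁻¹ᵁ k.U') k.U' k.good).hom.toAlgebra
    letI aCC' : Algebra Γ(Y, f ⁻¹ᵁ k.U') Γ(Y', k.V') :=
      (u.appLE (f ⁻¹ᵁ k.U') k.V' k.hV'le).hom.toAlgebra
    letI aC'A : Algebra Γ(Y', k.V') Γ(X', v ⁻¹ᵁ k.U' ⊓ g' ⁻¹ᵁ k.V') :=
      (g'.appLE k.V' (v ⁻¹ᵁ k.U' ⊓ g' ⁻¹ᵁ k.V') e').hom.toAlgebra
    letI aCA : Algebra Γ(Y, f ⁻¹ᵁ k.U') Γ(X', v ⁻¹ᵁ k.U' ⊓ g' ⁻¹ᵁ k.V') :=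
      ((algebraMap Γ(X, k.U') Γ(X', v ⁻¹ᵁ k.U' ⊓ g' ⁻¹ᵁ k.V')).comp
        (algebraMap Γ(Y, f ⁻¹ᵁ k.U') Γ(X, k.U'))).toAlgebra
    haveI : IsScalarTower Γ(Y, f ⁻¹ᵁ k.U') Γ(X, k.U') Γ(X', v ⁻¹ᵁ k.U' ⊓ g' ⁻¹ᵁ k.V') :=
      IsScalarTower.of_algebraMap_eq' rfl
    haveI : IsScalarTower Γ(Y, f ⁻¹ᵁ k.U') Γ(Y', k.V') Γ(X', v ⁻¹ᵁ k.U' ⊓ g' ⁻¹ᵁ k.V') := by
      refine IsScalarTower.of_algebraMap_eq' ?_
      show (v.appLE k.U' (v ⁻¹ᵁ k.U' ⊓ g' ⁻¹ᵁ k.V') e).hom.comp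
          (g.appLE (f ⁻¹ᵁ k.U') k.U' k.good).hom =
        (g'.appLE k.V' (v ⁻¹ᵁ k.U' ⊓ g' ⁻¹ᵁ k.V') e').hom.comp
          (u.appLE (f ⁻¹ᵁ k.U') k.V' k.hV'le).hom
      rw [← CommRingCat.hom_comp, ← CommRingCat.hom_comp]
      exact congrArg CommRingCat.Hom.hom hpo.w
    haveI : Algebra.IsPushout Γ(Y, f ⁻¹ᵁ k.U') Γ(Y', k.V') Γ(X, k.U')
        Γ(X', v ⁻¹ᵁ k.U' ⊓ g' ⁻¹ᵁ k.V') :=
      CommRingCat.isPushout_iff_isPushout.mp hpo.flip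
    intro ν hν
    let ι' : Γ(ClSub.idealMod J', k.U') →ₗ[Γ(X, k.U')] Γ(X, k.U') :=
      { toFun := fun t => idealSect J' k.U' t
        map_add' := fun a b => map_add _ a b
        map_smul' := fun r t => idealSect_smul J' k.U' r t }
    let ι : Γ(ClSub.idealMod J, v ⁻¹ᵁ k.U' ⊓ g' ⁻¹ᵁ k.V') →ₗ[Γ(X', v ⁻¹ᵁ k.U' ⊓ g' ⁻¹ᵁ k.V')]
        Γ(X', v ⁻¹ᵁ k.U' ⊓ g' ⁻¹ᵁ k.V') :=
      { toFun := fun t => idealSect J _ t
        map_add' := fun a b => map_add _ a b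
        map_smul' := fun r t => idealSect_smul J _ r t }
    have hρ : ∀ c : Γ(Y, f ⁻¹ᵁ k.U'), (f.app k.U').hom
        (algebraMap Γ(Y, f ⁻¹ᵁ k.U') Γ(X, k.U') c) = c := by
      intro c
      show (f.app k.U').hom ((g.appLE (f ⁻¹ᵁ k.U') k.U' k.good).hom c) = c
      have h1 := congr($(Scheme.Hom.appLE_comp_appLE f g (f ⁻¹ᵁ k.U') k.U' (f ⁻¹ᵁ k.U')
        k.good le_rfl) c)
      rw [Scheme.Hom.appLE_eq_app] at h1
      refine h1.trans ?_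
      rw [ConormalSplit.appLE_congr_hom hf, id_appLE_apply]
    refine TensorTrack.liftBaseChange_bijective_of_section (C' := Γ(Y', k.V')) (f.app k.U').hom hρ
      (J'.ideal ⟨k.U', k.hU'⟩) ?_ (J.ideal ⟨_, hUaff⟩) ?_
      ι' (ι_injective J' k.U') (fun s' => idealSect_mem_ideal J' ⟨k.U', k.hU'⟩ s')
      (fun a' ha' => exists_idealSect_eq J' ⟨k.U', k.hU'⟩ a' ha')
      ι (ι_injective J _) (fun x => idealSect_mem_ideal J ⟨_, hUaff⟩ x) ν hν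
    · rw [hJ', Scheme.Hom.ker_apply]
    · rw [hJ, hJ', Scheme.Hom.ker_apply, Scheme.Hom.ker_apply, hker]
      exact le_rfl

include hf hsq hf' hf'v in
/-- The conormal sheaf of a section commutes with base change. -/
theorem isIso_section (hφ : Track f' f v u J J' φ)
    (hJ : ∀ U : X'.affineOpens, J.ideal U = f'.ker.ideal U)
    (hJ' : ∀ U : X.affineOpens, J'.ideal U = f.ker.ideal U) : IsIso φ := by
  haveI : (ClSub.idealMod J).IsQuasicoherent :=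
    inferInstanceAs (kernel (ClSub.toSubscheme J)).IsQuasicoherent
  haveI : ((Scheme.Modules.pullback f').obj (ClSub.idealMod J)).IsQuasicoherent :=
    Groth.Agent.H8.isQuasicoherent_pullback f' (ClSub.idealMod J)
  haveI : (ClSub.idealMod J').IsQuasicoherent :=
    inferInstanceAs (kernel (ClSub.toSubscheme J')).IsQuasicoherent
  haveI : ((Scheme.Modules.pullback f).obj (ClSub.idealMod J')).IsQuasicoherent :=
    Groth.Agent.H8.isQuasicoherent_pullback f (ClSub.idealMod J')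
  haveI : ((Scheme.Modules.pullback u).obj
      ((Scheme.Modules.pullback f).obj (ClSub.idealMod J'))).IsQuasicoherent :=
    Groth.Agent.H8.isQuasicoherent_pullback u _
  have hbij := local_bijective_section g f hf u v g' hsq f' hf' hf'v hφ hJ hJ'
  have haff : ∀ k : IdxSec g f u (Y' := Y'),
      IsAffineOpen (f' ⁻¹ᵁ (v ⁻¹ᵁ k.U' ⊓ g' ⁻¹ᵁ k.V')) := by
    intro k
    rw [preimage_eq g f u v g' f' hf' hf'v k]; exact k.hV'
  haveI : Mono φ := mono_of_injective_affine_cover φ _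
    (isOpenCover_idxSec g f hf u v g' f' hf' hf'v) haff (fun k => (hbij k).1)
  haveI : Epi φ := Groth.Agent.H18.Serre.epi_of_surjective_affine_cover φ _
    (isOpenCover_idxSec g f hf u v g' f' hf' hf'v) haff (fun k => (hbij k).2)
  exact isIso_of_mono_of_epi φ

end SectionCase

end Groth.Agent.H39.GrMap
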