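import Groth.Agent.H39.TensorSection
import Mathlib.RingTheory.Flat.Equalizer
import Mathlib.LinearAlgebra.TensorProduct.Quotient

/-!
# Base change of the powers of the ideal of a section, under flatness of the graded pieces

Ring-level input for `u^* Gr_n(f) ≅ Gr_n(f')`.
-/

set_option autoImplicit false
open scoped TensorProduct

namespace Groth.Agent.H39.TensorTrack

section Surj

variable {A' B : Type*} [CommRing A'] [CommRing B] [Algebra A' B]
  {M : Type*} [AddCommGroup M] [Module A' M]

/-- For a surjective `A' → B`, every element of `B ⊗[A'] M` is of the form `1 ⊗ m`. -/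
theorem exists_one_tmul (hs : Function.Surjective (algebraMap A' B)) (z : B ⊗[A'] M) :
    ∃ m : M, z = (1 : B) ⊗ₜ[A'] m := by
  induction z using TensorProduct.induction_on with
  | zero => exact ⟨0, (TensorProduct.tmul_zero _ _).symm⟩
  | tmul b m =>
    obtain ⟨a, rfl⟩ := hs b
    refine ⟨a • m, ?_⟩
    rw [TensorProduct.tmul_smul, TensorProduct.smul_tmul', Algebra.smul_def, mul_one]
  | add x y hx hy =>
    obtain ⟨m, rfl⟩ := hx
    obtain ⟨m', rfl⟩ := hy
    exact ⟨m + m', (TensorProduct.tmul_add _ _ _).symm⟩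

/-- For a surjective `A' → B` with kernel `I`, `1 ⊗ m = 0` in `B ⊗[A'] M` iff `m ∈ I M`. -/
theorem one_tmul_eq_zero_iff (hs : Function.Surjective (algebraMap A' B)) (m : M) :
    (1 : B) ⊗ₜ[A'] m = 0 ↔ m ∈ (RingHom.ker (algebraMap A' B)) • (⊤ : Submodule A' M) := by
  let f : A' →ₐ[A'] B := Algebra.ofId A' B
  have hf : Function.Surjective f := hs
  let e₃ : B ≃ₗ[A'] A' ⧸ RingHom.ker (algebraMap A' B) :=
    (Ideal.quotientKerAlgEquivOfSurjective hf).symm.toLinearEquiv
  have he₃ : e₃ 1 = 1 := map_one (Ideal.quotientKerAlgEquivOfSurjective hf).symm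
  let Θ : B ⊗[A'] M ≃ₗ[A'] M ⧸ ((RingHom.ker (algebraMap A' B)) • (⊤ : Submodule A' M)) :=
    (TensorProduct.congr e₃ (LinearEquiv.refl A' M)).trans
      (TensorProduct.quotTensorEquivQuotSMul M (RingHom.ker (algebraMap A' B)))
  have hΘ : Θ ((1 : B) ⊗ₜ[A'] m) = Submodule.Quotient.mk m := by
    show TensorProduct.quotTensorEquivQuotSMul M _
      (TensorProduct.congr e₃ (LinearEquiv.refl A' M) ((1 : B) ⊗ₜ[A'] m)) = _
    rw [TensorProduct.congr_tmul, he₃, LinearEquiv.refl_apply,
      TensorProduct.quotTensorEquivQuotSMul_mk_one_tmul]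
  rw [← Θ.map_eq_zero_iff, hΘ, Submodule.Quotient.mk_eq_zero]

end Surj

section Flat

variable {C A' : Type*} [CommRing C] [CommRing A'] [Algebra C A'] (I' : Ideal A')

/-- The inclusion `I'^(k+1) → I'^k`, as a `C`-linear map. -/
def powIncl (k : ℕ) : ↥(I' ^ (k + 1)) →ₗ[C] ↥(I' ^ k) :=
  (Submodule.inclusion (Ideal.pow_le_pow_right (Nat.le_succ k))).restrictScalars C

/-- If `I'^k / I'^(k+1)` is flat over `C`, then `T ⊗[C] I'^(k+1) → T ⊗[C] I'^k` is injective. -/
theorem lTensor_powIncl_injective (k : ℕ) {P : Type*} [AddCommGroup P] [Module C P]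
    [Module.Flat C P] (π : ↥(I' ^ k) →ₗ[C] P) (hπ : Function.Surjective π)
    (hker : ∀ x : ↥(I' ^ k), π x = 0 ↔ (x : A') ∈ I' ^ (k + 1))
    (T : Type*) [AddCommGroup T] [Module C T] :
    Function.Injective ((powIncl (C := C) I' k).lTensor T) := by
  refine LinearMap.lTensor_injective_of_exact_of_flat π hπ (powIncl I' k) ?_ ?_ T
  · intro a b h
    exact Subtype.ext (congrArg Subtype.val h : _)
  · intro y
    rw [hker]
    constructor
    · intro hy
      exact ⟨⟨y.1, hy⟩, Subtype.ext rfl⟩
    · rintro ⟨x, rfl⟩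
      exact x.2

/-- If all the `T ⊗[C] I'^(k+1) → T ⊗[C] I'^k`, `k < n`, are injective, so is
`T ⊗[C] I'^n → T ⊗[C] A'`. -/
theorem lTensor_subtype_pow_injective (n : ℕ) (T : Type*) [AddCommGroup T] [Module C T]
    (h : ∀ k < n, Function.Injective ((powIncl (C := C) I' k).lTensor T)) :
    Function.Injective (((I' ^ n).subtype.restrictScalars C).lTensor T) := by
  induction n with
  | zero =>
    let e : ↥(I' ^ 0) ≃ₗ[C] A' :=
      LinearEquiv.ofBijective ((I' ^ 0).subtype.restrictScalars C)
        ⟨Subtype.val_injective, fun a => ⟨⟨a, by rw [pow_zero, Ideal.one_eq_top]; trivial⟩, rfl⟩⟩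
    exact (e.lTensor T).injective
  | succ n ih =>
    have h1 := ih (fun k hk => h k (Nat.lt_succ_of_lt hk))
    have h2 := h n (Nat.lt_succ_self n)
    have h3 : ((I' ^ (n + 1)).subtype.restrictScalars C) =
        ((I' ^ n).subtype.restrictScalars C) ∘ₗ powIncl I' n := rfl
    rw [h3, LinearMap.lTensor_comp]
    exact h1.comp h2

end Flat

section SectionPow

variable {C A' C' A : Type*} [CommRing C] [CommRing A'] [CommRing C'] [CommRing A]
  [Algebra C A'] [Algebra C C'] [Algebra A' A] [Algebra C' A] [Algebra C A]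
  [IsScalarTower C A' A] [IsScalarTower C C' A]
  {N' N : Type*} [AddCommGroup N'] [Module A' N'] [AddCommGroup N] [Module A N] [Module A' N]
  [IsScalarTower A' A N]

/-- Naturality of `cancelBaseChange`: injectivity of `A ⊗[A'] φ` follows from that of
`C' ⊗[C] φ` when `A = C' ⊗[C] A'`. -/
theorem lTensor_injective_of_isPushout [hpo : Algebra.IsPushout C C' A' A]
    {M₁ M₂ : Type*} [AddCommGroup M₁] [Module C M₁] [Module A' M₁] [IsScalarTower C A' M₁]
    [AddCommGroup M₂] [Module C M₂] [Module A' M₂] [IsScalarTower C A' M₂]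
    (φ : M₁ →ₗ[A'] M₂)
    (h : Function.Injective ((φ.restrictScalars C).lTensor C')) :
    Function.Injective (φ.lTensor A) := by
  have hnat : ∀ z : C' ⊗[C] M₁,
      φ.lTensor A ((Algebra.IsPushout.cancelBaseChange C C' A' A M₁).symm z) =
        (Algebra.IsPushout.cancelBaseChange C C' A' A M₂).symm
          ((φ.restrictScalars C).lTensor C' z) := by
    intro z
    induction z using TensorProduct.induction_on with
    | zero => simp only [map_zero]
    | add x y hx hy => simp only [map_add, hx, hy]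
    | tmul s m =>
      rw [Algebra.IsPushout.cancelBaseChange_symm_tmul, LinearMap.lTensor_tmul,
        LinearMap.lTensor_tmul, Algebra.IsPushout.cancelBaseChange_symm_tmul]
      rfl
  intro x y hxy
  obtain ⟨x', rfl⟩ := (Algebra.IsPushout.cancelBaseChange C C' A' A M₁).symm.surjective x
  obtain ⟨y', rfl⟩ := (Algebra.IsPushout.cancelBaseChange C C' A' A M₁).symm.surjective y
  rw [hnat, hnat] at hxy
  rw [h ((Algebra.IsPushout.cancelBaseChange C C' A' A M₂).symm.injective hxy)]

/-- Let `A = C' ⊗[C] A'`, `I'` an ideal of `A'` with `C' ⊗[C] I'^n → C' ⊗[C] A'` injective.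
For modules `N' ≅ I'^n`, `N ≅ J ⊆ (I' A)^n` with a compatible `ν : N' → N`, the map
`A ⊗[A'] N' → N` is bijective. -/
theorem liftBaseChange_bijective_of_pow [hpo : Algebra.IsPushout C C' A' A]
    (I' : Ideal A') (I : Ideal A) (n : ℕ) (hI : I ≤ Ideal.map (algebraMap A' A) I')
    (hinj : Function.Injective (((I' ^ n).subtype.restrictScalars C).lTensor C'))
    (ι' : N' →ₗ[A'] A') (hι' : Function.Injective ι') (hm' : ∀ s', ι' s' ∈ I' ^ n)
    (hr' : ∀ a' ∈ I' ^ n, ∃ s', ι' s' = a')
    (ι : N →ₗ[A] A) (hι : Function.Injective ι) (hr : ∀ x, ι x ∈ I ^ n)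
    (ν : N' →ₗ[A'] N) (hν : ∀ s', ι (ν s') = algebraMap A' A (ι' s')) :
    Function.Bijective (ν.liftBaseChange A) := by
  -- `N' ≃ I'^n`
  let e' : N' ≃ₗ[A'] ↥(I' ^ n) :=
    LinearEquiv.ofBijective (ι'.codRestrict (I' ^ n) hm')
      ⟨fun a b h => hι' (congrArg Subtype.val h),
        fun ⟨a, ha⟩ => by
          obtain ⟨s', hs'⟩ := hr' a ha
          exact ⟨s', Subtype.ext hs'⟩⟩
  have hι'e : ι' = (I' ^ n).subtype ∘ₗ e'.toLinearMap := rfl
  have hinjA : Function.Injective (ι'.lTensor A) := by
    have h1 : Function.Injective (LinearMap.lTensor A e'.toLinearMap) :=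
      (e'.lTensor A).injective
    have h2 : Function.Injective (LinearMap.lTensor A (I' ^ n).subtype) :=
      lTensor_injective_of_isPushout (C := C) (C' := C') (I' ^ n).subtype hinj
    rw [hι'e, LinearMap.lTensor_comp, LinearMap.coe_comp]
    exact h2.comp h1
  have hΨ : ∀ z : A ⊗[A'] N', ι (ν.liftBaseChange A z) =
      TensorProduct.rid A' A (ι'.lTensor A z) := by
    intro z
    induction z using TensorProduct.induction_on with
    | zero => simp only [map_zero]
    | add x y hx hy => simp only [map_add, hx, hy]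
    | tmul a s' =>
      rw [LinearMap.liftBaseChange_tmul, map_smul, hν, smul_eq_mul, LinearMap.lTensor_tmul,
        TensorProduct.rid_tmul, Algebra.smul_def, mul_comm]
  constructor
  · intro z z' hz
    apply hinjA
    apply (TensorProduct.rid A' A).injective
    rw [← hΨ, ← hΨ, hz]
  · intro x
    have key : ∀ a ∈ Ideal.map (algebraMap A' A) (I' ^ n), ∃ z : A ⊗[A'] N',
        ι (ν.liftBaseChange A z) = a := by
      intro a ha
      rw [Ideal.map] at ha
      induction ha using Submodule.span_induction with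
      | mem a ha =>
        obtain ⟨a', ha', rfl⟩ := ha
        obtain ⟨s', rfl⟩ := hr' a' ha'
        exact ⟨1 ⊗ₜ s', by rw [LinearMap.liftBaseChange_tmul, one_smul, hν]⟩
      | zero => exact ⟨0, by rw [map_zero, map_zero]⟩
      | add a b _ _ iha ihb =>
        obtain ⟨z, hz⟩ := iha
        obtain ⟨z', hz'⟩ := ihb
        exact ⟨z + z', by rw [map_add, map_add, hz, hz']⟩
      | smul c a _ iha =>
        obtain ⟨z, hz⟩ := iha
        exact ⟨c • z, by rw [map_smul, map_smul, hz]⟩
    have hx : ι x ∈ Ideal.map (algebraMap A' A) (I' ^ n) := by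
      rw [Ideal.map_pow]
      exact Ideal.pow_right_mono hI n (hr x)
    obtain ⟨z, hz⟩ := key (ι x) hx
    exact ⟨z, hι hz⟩

end SectionPow

end Groth.Agent.H39.TensorTrack

namespace Groth.Agent.H39.TensorTrack

/-- Transport of `I' M` along an identification of `M` with an ideal `K`. -/
theorem mem_smul_top_iff_of_equiv {A' : Type*} [CommRing A'] {M : Type*} [AddCommGroup M]
    [Module A' M] (I' K : Ideal A') (e : M ≃ₗ[A'] ↥K) (m : M) :
    m ∈ I' • (⊤ : Submodule A' M) ↔ ((e m : ↥K) : A') ∈ I' * K := by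
  have h1 : Submodule.map (K.subtype ∘ₗ e.toLinearMap) (I' • (⊤ : Submodule A' M)) = I' • K := by
    rw [Submodule.map_smul'', Submodule.map_top, LinearMap.range_comp, LinearEquiv.range,
      Submodule.map_top, Submodule.range_subtype]
  rw [← smul_eq_mul, ← h1]
  constructor
  · intro hm
    exact Submodule.mem_map_of_mem hm
  · rintro ⟨m', hm', h⟩
    have h2 : m' = m := e.injective (Subtype.ext h)
    rwa [h2] at hm'

end Groth.Agent.H39.TensorTrack
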