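import Groth.Agent.H39.GrMapSection
import Groth.Agent.H39.TensorSectionPow
import Groth.Agent.H89.PinchSheafFlat

/-!
# Graded pieces of the ideal of a section commute with base change when they are flat
-/

set_option autoImplicit false
set_option linter.style.haveILetI false
universe u
open CategoryTheory CategoryTheory.Limits AlgebraicGeometry Opposite OmegaSh TopologicalSpace
open scoped TensorProduct

namespace Groth.Agent.H39.GrMap

open Groth.Agent.H39 Groth.Agent.H8 Groth.Agent.H39.ConormalLocal Groth.Agent.H39.ConormalSect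
  Groth.Agent.H39.ConormalMono Groth.Agent.H39.ConormalSplit Groth.Agent.H39.ConormalMap

section GrSect

variable {Y X : Scheme.{u}} (f : Y ⟶ X) [IsClosedImmersion f] (J : X.IdealSheafData)
  {U' : X.Opens} (hU' : IsAffineOpen U')

include hU' in
/-- Over an affine open, every section of `f^* J` over `f⁻¹ U'` is pulled back from `U'`. -/
theorem pullSect_surjective : Function.Surjective (pullSect f (ClSub.idealMod J) U') := by
  intro q
  have hW : IsAffineOpen (f ⁻¹ᵁ U') := hU'.preimage f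
  letI : Algebra Γ(X, U') Γ(Y, f ⁻¹ᵁ U') := (f.appLE U' (f ⁻¹ᵁ U') le_rfl).hom.toAlgebra
  have happ : f.appLE U' (f ⁻¹ᵁ U') le_rfl = f.app U' := (Scheme.Hom.app_eq_appLE f).symm
  have hs : Function.Surjective (algebraMap Γ(X, U') Γ(Y, f ⁻¹ᵁ U')) := by
    show Function.Surjective (f.appLE U' (f ⁻¹ᵁ U') le_rfl).hom
    rw [happ]
    exact f.app_surjective U' hU'
  haveI : (ClSub.idealMod J).IsQuasicoherent :=
    inferInstanceAs (kernel (ClSub.toSubscheme J)).IsQuasicoherent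
  obtain ⟨E, hE⟩ := PullTrack.exists_sectionsPullbackEquiv f (ClSub.idealMod J) hU' hW le_rfl
  obtain ⟨m, hm⟩ := TensorTrack.exists_one_tmul hs (E q)
  refine ⟨m, ?_⟩
  apply E.injective
  rw [hm, ← hE, PullTrack.pullSectLE_self]

/-- Over an affine open, the pulled-back section of `s` vanishes iff `s ∈ I J`. -/
theorem pullSect_eq_zero_iff (s : Γ(ClSub.idealMod J, U')) :
    pullSect f (ClSub.idealMod J) U' s = 0 ↔
      idealSect J U' s ∈ RingHom.ker (f.app U').hom * J.ideal ⟨U', hU'⟩ := by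
  have hW : IsAffineOpen (f ⁻¹ᵁ U') := hU'.preimage f
  letI : Algebra Γ(X, U') Γ(Y, f ⁻¹ᵁ U') := (f.appLE U' (f ⁻¹ᵁ U') le_rfl).hom.toAlgebra
  have happ : f.appLE U' (f ⁻¹ᵁ U') le_rfl = f.app U' := (Scheme.Hom.app_eq_appLE f).symm
  have hs : Function.Surjective (algebraMap Γ(X, U') Γ(Y, f ⁻¹ᵁ U')) := by
    show Function.Surjective (f.appLE U' (f ⁻¹ᵁ U') le_rfl).hom
    rw [happ]
    exact f.app_surjective U' hU'
  have hker : RingHom.ker (algebraMap Γ(X, U') Γ(Y, f ⁻¹ᵁ U')) = RingHom.ker (f.app U').hom := by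
    show RingHom.ker (f.appLE U' (f ⁻¹ᵁ U') le_rfl).hom = _
    rw [happ]
  haveI : (ClSub.idealMod J).IsQuasicoherent :=
    inferInstanceAs (kernel (ClSub.toSubscheme J)).IsQuasicoherent
  obtain ⟨E, hE⟩ := PullTrack.exists_sectionsPullbackEquiv f (ClSub.idealMod J) hU' hW le_rfl
  rw [← E.map_eq_zero_iff, ← PullTrack.pullSectLE_self, hE, TensorTrack.one_tmul_eq_zero_iff hs,
    hker, TensorTrack.mem_smul_top_iff_of_equiv _ _ (idealEquiv J ⟨U', hU'⟩), idealEquiv_apply]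

end GrSect

section SectionPow

variable {X Y : Scheme.{u}} (g : X ⟶ Y) (f : Y ⟶ X) (hf : f ≫ g = 𝟙 Y)

include hf in
lemma app_appLE_section {U' : X.Opens} (good : U' ≤ g ⁻¹ᵁ (f ⁻¹ᵁ U')) (c : Γ(Y, f ⁻¹ᵁ U')) :
    (f.app U').hom ((g.appLE (f ⁻¹ᵁ U') U' good).hom c) = c := by
  have h1 := congr($(Scheme.Hom.appLE_comp_appLE f g (f ⁻¹ᵁ U') U' (f ⁻¹ᵁ U') good le_rfl) c)
  rw [Scheme.Hom.appLE_eq_app] at h1
  refine h1.trans ?_
  rw [ConormalSplit.appLE_congr_hom hf, id_appLE_apply]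

variable [IsClosedImmersion f]

include hf in
set_option maxHeartbeats 1000000 in
/-- If `Gr_k(f)` is flat, `T ⊗ I'^(k+1) → T ⊗ I'^k` is injective (over the ring of the base). -/
theorem lTensor_powIncl_injective_of_isFlat {U' : X.Opens} (hU' : IsAffineOpen U')
    (good : U' ≤ g ⁻¹ᵁ (f ⁻¹ᵁ U')) (k : ℕ) (hflat : FlatMod.IsFlat (PrinPart.grMod f k))
    {T : Type u} [CommRing T] (ψ : Γ(Y, f ⁻¹ᵁ U') →+* T) :
    letI : Algebra Γ(Y, f ⁻¹ᵁ U') Γ(X, U') := (g.appLE (f ⁻¹ᵁ U') U' good).hom.toAlgebra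
    letI : Algebra Γ(Y, f ⁻¹ᵁ U') T := ψ.toAlgebra
    Function.Injective ((TensorTrack.powIncl (C := Γ(Y, f ⁻¹ᵁ U'))
      (RingHom.ker (f.app U').hom) k).lTensor T) := by
  letI aCA' : Algebra Γ(Y, f ⁻¹ᵁ U') Γ(X, U') := (g.appLE (f ⁻¹ᵁ U') U' good).hom.toAlgebra
  letI aCT : Algebra Γ(Y, f ⁻¹ᵁ U') T := ψ.toAlgebra
  have hW : IsAffineOpen (f ⁻¹ᵁ U') := hU'.preimage f
  haveI : (ClSub.idealMod (f.ker ^ k)).IsQuasicoherent :=
    inferInstanceAs (kernel (ClSub.toSubscheme (f.ker ^ k))).IsQuasicoherent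
  haveI : ((Scheme.Modules.pullback f).obj (ClSub.idealMod (f.ker ^ k))).IsQuasicoherent :=
    Groth.Agent.H8.isQuasicoherent_pullback f _
  haveI hfl : Module.Flat Γ(Y, f ⁻¹ᵁ U')
      Γ((Scheme.Modules.pullback f).obj (ClSub.idealMod (f.ker ^ k)), f ⁻¹ᵁ U') :=
    Groth.Agent.H89.PinchSheafFlat.flat_sections_of_isFlat
      ((Scheme.Modules.pullback f).obj (ClSub.idealMod (f.ker ^ k))) hW (fun x _ => hflat x)
  have hk : (f.ker ^ k).ideal ⟨U', hU'⟩ = (RingHom.ker (f.app U').hom) ^ k := by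
    show (f.ker.ideal ⟨U', hU'⟩) ^ k = _
    rw [Scheme.Hom.ker_apply]
  let e1 : Γ(ClSub.idealMod (f.ker ^ k), U') ≃ₗ[Γ(X, U')] ↥((RingHom.ker (f.app U').hom) ^ k) :=
    (idealEquiv (f.ker ^ k) ⟨U', hU'⟩).trans (LinearEquiv.ofEq _ _ hk)
  have he1 : ∀ s, ((e1 s : ↥((RingHom.ker (f.app U').hom) ^ k)) : Γ(X, U')) =
      idealSect (f.ker ^ k) U' s := fun s => rfl
  let π : ↥((RingHom.ker (f.app U').hom) ^ k) →ₗ[Γ(Y, f ⁻¹ᵁ U')]
      Γ((Scheme.Modules.pullback f).obj (ClSub.idealMod (f.ker ^ k)), f ⁻¹ᵁ U') :=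
    { toFun := fun x => pullSect f (ClSub.idealMod (f.ker ^ k)) U' (e1.symm x)
      map_add' := fun a b => by rw [map_add, map_add]
      map_smul' := fun c x => by
        have h1 : c • x = algebraMap Γ(Y, f ⁻¹ᵁ U') Γ(X, U') c • x := (algebraMap_smul _ c x).symm
        rw [h1, map_smul, pullSect_smul]
        show (f.app U').hom ((g.appLE (f ⁻¹ᵁ U') U' good).hom c) • _ = _
        rw [app_appLE_section g f hf good c]
        rfl }
  have hπ : Function.Surjective π := by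
    intro q
    obtain ⟨s, hs⟩ := pullSect_surjective f (f.ker ^ k) hU' q
    exact ⟨e1 s, by show pullSect f _ U' (e1.symm (e1 s)) = q; rw [e1.symm_apply_apply, hs]⟩
  have hker : ∀ x : ↥((RingHom.ker (f.app U').hom) ^ k),
      π x = 0 ↔ (x : Γ(X, U')) ∈ (RingHom.ker (f.app U').hom) ^ (k + 1) := by
    intro x
    show pullSect f _ U' (e1.symm x) = 0 ↔ _
    rw [pullSect_eq_zero_iff f (f.ker ^ k) hU', hk, ← he1, e1.apply_symm_apply, pow_succ']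
  exact TensorTrack.lTensor_powIncl_injective (C := Γ(Y, f ⁻¹ᵁ U')) (RingHom.ker (f.app U').hom) k
    π hπ hker T

end SectionPow

section SectionCasePow

variable {X Y X' Y' : Scheme.{u}} (g : X ⟶ Y) (f : Y ⟶ X) (hf : f ≫ g = 𝟙 Y)
  (u : Y' ⟶ Y) (v : X' ⟶ X) (g' : X' ⟶ Y') (hsq : IsPullback v g' g u)
  (f' : Y' ⟶ X') (hf' : f' ≫ g' = 𝟙 Y') (hf'v : f' ≫ v = u ≫ f)

variable [IsClosedImmersion f] [IsClosedImmersion f']
  {J : X'.IdealSheafData} {J' : X.IdealSheafData}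
  {φ : (Scheme.Modules.pullback u).obj ((Scheme.Modules.pullback f).obj (ClSub.idealMod J')) ⟶
    (Scheme.Modules.pullback f').obj (ClSub.idealMod J)}

include hf hsq hf' hf'v in
set_option maxHeartbeats 1600000 in
/-- On the members of the cover, the canonical map of graded pieces of the two sections is
bijective on sections, when the lower graded pieces of `f` are flat. -/
theorem local_bijective_section_pow (hφ : Track f' f v u J J' φ) (n : ℕ)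
    (hflat : ∀ k < n, FlatMod.IsFlat (PrinPart.grMod f k))
    (hJ : ∀ U : X'.affineOpens, J.ideal U = (f'.ker.ideal U) ^ n)
    (hJ' : ∀ U : X.affineOpens, J'.ideal U = (f.ker.ideal U) ^ n) (k : IdxSec g f u (Y' := Y')) :
    Function.Bijective (φ.app (f' ⁻¹ᵁ (v ⁻¹ᵁ k.U' ⊓ g' ⁻¹ᵁ k.V'))) := by
  have hpb : IsPullback u f' f v := isPullback_section g f hf u v g' hsq f' hf' hf'v
  have hUS : IsAffineOpen (f ⁻¹ᵁ k.U') := k.hU'.preimage f
  haveI : IsAffine (f ⁻¹ᵁ k.U').toScheme := hUS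
  haveI : IsAffine k.V'.toScheme := k.hV'
  haveI : IsAffine k.U'.toScheme := k.hU'
  have hUaff : IsAffineOpen (v ⁻¹ᵁ k.U' ⊓ g' ⁻¹ᵁ k.V') :=
    .of_isIso (Scheme.Hom.isPullback_resLE hsq k.hV'le k.good rfl).isoPullback.hom
  have hpo := (isIso_pushoutSection_iff hsq k.hV'le k.good rfl).mp
    (isIso_pushoutSection_of_isAffineOpen hsq k.hV'le k.good rfl hUS k.hV' k.hU')
  have e : v ⁻¹ᵁ k.U' ⊓ g' ⁻¹ᵁ k.V' ≤ v ⁻¹ᵁ k.U' := inf_le_left
  have e' : v ⁻¹ᵁ k.U' ⊓ g' ⁻¹ᵁ k.V' ≤ g' ⁻¹ᵁ k.V' := inf_le_right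
  have hW : IsAffineOpen (f' ⁻¹ᵁ (v ⁻¹ᵁ k.U' ⊓ g' ⁻¹ᵁ k.V')) := by
    rw [preimage_eq g f u v g' f' hf' hf'v k]; exact k.hV'
  have hcl' : IsClosedImmersion (f ∣_ k.U') := inferInstance
  obtain ⟨-, hker⟩ := Groth.Agent.H59.RegImmDesc.closedImm_and_ker_of_isPullback f v f' u hpb
    k.hU' hcl' hUaff e
  have hJ'eq : J'.ideal ⟨k.U', k.hU'⟩ = (RingHom.ker (f.app k.U').hom) ^ n := by
    rw [hJ', Scheme.Hom.ker_apply]
  have hJeq : J.ideal ⟨_, hUaff⟩ = (RingHom.ker (f'.app (v ⁻¹ᵁ k.U' ⊓ g' ⁻¹ᵁ k.V')).hom) ^ n := by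
    rw [hJ, Scheme.Hom.ker_apply]
  refine hφ.local_bijective hf'v.symm k.hU' hUaff e hW hUS ?_ ?_
  · intro a' ha' V hV
    rw [hJ V, Scheme.Hom.ker_apply]
    rw [hJ'eq] at ha'
    have h1 : Ideal.map (v.appLE k.U' V.1 hV).hom (RingHom.ker (f.app k.U').hom) ≤
        RingHom.ker (f'.app V.1).hom := by
      rw [Ideal.map_le_iff_le_comap]
      intro b hb
      exact appLE_mem_ker hf'v.symm hV b hb
    have h2 : (v.appLE k.U' V.1 hV).hom a' ∈ (RingHom.ker (f'.app V.1).hom) ^ n :=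
      Ideal.pow_right_mono h1 n (by rw [← Ideal.map_pow]; exact Ideal.mem_map_of_mem _ ha')
    exact h2
  · letI aA'A : Algebra Γ(X, k.U') Γ(X', v ⁻¹ᵁ k.U' ⊓ g' ⁻¹ᵁ k.V') :=
      (v.appLE k.U' (v ⁻¹ᵁ k.U' ⊓ g' ⁻¹ᵁ k.V') e).hom.toAlgebra
    letI : Module Γ(X, k.U') Γ(ClSub.idealMod J, v ⁻¹ᵁ k.U' ⊓ g' ⁻¹ᵁ k.V') :=
      Module.compHom Γ(ClSub.idealMod J, v ⁻¹ᵁ k.U' ⊓ g' ⁻¹ᵁ k.V')
        (algebraMap Γ(X, k.U') Γ(X', v ⁻¹ᵁ k.U' ⊓ g' ⁻¹ᵁ k.V'))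
    haveI : IsScalarTower Γ(X, k.U') Γ(X', v ⁻¹ᵁ k.U' ⊓ g' ⁻¹ᵁ k.V')
        Γ(ClSub.idealMod J, v ⁻¹ᵁ k.U' ⊓ g' ⁻¹ᵁ k.V') :=
      IsScalarTower.of_algebraMap_smul (fun _ _ => rfl)
    letI aCA' : Algebra Γ(Y, f ⁻¹ᵁ k.U') Γ(X, k.U') :=
      (g.appLE (f ⁻¹ᵁ k.U') k.U' k.good).hom.toAlgebra
    letI aCC' : Algebra Γ(Y, f ⁻¹ᵁ k.U') Γ(Y', k.V') :=
      (u.appLE (f ⁻¹ᵁ k.U') k.V' k.hV'le).hom.toAlgebra
    letI aC'A : Algebra Γ(Y', k.V') Γ(X', v ⁻¹ᵁ k.U' ⊓ g' ⁻¹ᵁ k.V') :=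
      (g'.appLE k.V' (v ⁻¹ᵁ k.U' ⊓ g' ⁻¹ᵁ k.V') e').hom.toAlgebra
    letI aCA : Algebra Γ(Y, f ⁻¹ᵁ k.U') Γ(X', v ⁻¹ᵁ k.U' ⊓ g' ⁻¹ᵁ k.V') :=
      ((algebraMap Γ(X, k.U') Γ(X', v ⁻¹ᵁ k.U' ⊓ g' ⁻¹ᵁ k.V')).comp
        (algebraMap Γ(Y, f ⁻¹ᵁ k.U') Γ(X, k.U'))).toAlgebra
    haveI : IsScalarTower Γ(Y, f ⁻¹ᵁ k.U') Γ(X, k.U') Γ(X', v ⁻¹ᵁ k.U' ⊓ g' ⁻¹ᵁ k.V') :=
      IsScalarTower.of_algebraMap_eq' rfl
    haveI : IsScalarTower Γ(Y, f ⁻¹ᵁ k.U') Γ(Y', k.V') Γ(X', v ⁻¹ᵁ k.U' ⊓ g' ⁻¹ᵁ k.V') := by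
      refine IsScalarTower.of_algebraMap_eq' ?_
      show (v.appLE k.U' (v ⁻¹ᵁ k.U' ⊓ g' ⁻¹ᵁ k.V') e).hom.comp
          (g.appLE (f ⁻¹ᵁ k.U') k.U' k.good).hom =
        (g'.appLE k.V' (v ⁻¹ᵁ k.U' ⊓ g' ⁻¹ᵁ k.V') e').hom.comp
          (u.appLE (f ⁻¹ᵁ k.U') k.V' k.hV'le).hom
      rw [← CommRingCat.hom_comp, ← CommRingCat.hom_comp]
      exact congrArg CommRingCat.Hom.hom hpo.w
    haveI : Algebra.IsPushout Γ(Y, f ⁻¹ᵁ k.U') Γ(Y', k.V') Γ(X, k.U')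
        Γ(X', v ⁻¹ᵁ k.U' ⊓ g' ⁻¹ᵁ k.V') :=
      CommRingCat.isPushout_iff_isPushout.mp hpo.flip
    intro ν hν
    let ι' : Γ(ClSub.idealMod J', k.U') →ₗ[Γ(X, k.U')] Γ(X, k.U') :=
      { toFun := fun t => idealSect J' k.U' t
        map_add' := fun a b => map_add _ a b
        map_smul' := fun r t => idealSect_smul J' k.U' r t }
    let ι : Γ(ClSub.idealMod J, v ⁻¹ᵁ k.U' ⊓ g' ⁻¹ᵁ k.V') →ₗ[Γ(X', v ⁻¹ᵁ k.U' ⊓ g' ⁻¹ᵁ k.V')]
        Γ(X', v ⁻¹ᵁ k.U' ⊓ g' ⁻¹ᵁ k.V') :=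
      { toFun := fun t => idealSect J _ t
        map_add' := fun a b => map_add _ a b
        map_smul' := fun r t => idealSect_smul J _ r t }
    have hinj : Function.Injective ((((RingHom.ker (f.app k.U').hom) ^ n).subtype.restrictScalars
        Γ(Y, f ⁻¹ᵁ k.U')).lTensor Γ(Y', k.V')) :=
      TensorTrack.lTensor_subtype_pow_injective (C := Γ(Y, f ⁻¹ᵁ k.U'))
        (RingHom.ker (f.app k.U').hom) n Γ(Y', k.V')
        (fun j hj => lTensor_powIncl_injective_of_isFlat g f hf k.hU' k.good j (hflat j hj)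
          (u.appLE (f ⁻¹ᵁ k.U') k.V' k.hV'le).hom)
    refine TensorTrack.liftBaseChange_bijective_of_pow (C := Γ(Y, f ⁻¹ᵁ k.U')) (C' := Γ(Y', k.V'))
      (RingHom.ker (f.app k.U').hom)
      (RingHom.ker (f'.app (v ⁻¹ᵁ k.U' ⊓ g' ⁻¹ᵁ k.V')).hom) n hker.le hinj
      ι' (ι_injective J' k.U')
      (fun s' => hJ'eq ▸ idealSect_mem_ideal J' ⟨k.U', k.hU'⟩ s')
      (fun a' ha' => exists_idealSect_eq J' ⟨k.U', k.hU'⟩ a' (hJ'eq ▸ ha'))
      ι (ι_injective J _) (fun x => hJeq ▸ idealSect_mem_ideal J ⟨_, hUaff⟩ x) ν hν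

include hf hsq hf' hf'v in
/-- The graded pieces of the ideal of a section commute with base change, when the lower graded
pieces are flat. -/
theorem isIso_section_pow (hφ : Track f' f v u J J' φ) (n : ℕ)
    (hflat : ∀ k < n, FlatMod.IsFlat (PrinPart.grMod f k))
    (hJ : ∀ U : X'.affineOpens, J.ideal U = (f'.ker.ideal U) ^ n)
    (hJ' : ∀ U : X.affineOpens, J'.ideal U = (f.ker.ideal U) ^ n) : IsIso φ := by
  haveI : (ClSub.idealMod J).IsQuasicoherent :=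
    inferInstanceAs (kernel (ClSub.toSubscheme J)).IsQuasicoherent
  haveI : ((Scheme.Modules.pullback f').obj (ClSub.idealMod J)).IsQuasicoherent :=
    Groth.Agent.H8.isQuasicoherent_pullback f' (ClSub.idealMod J)
  haveI : (ClSub.idealMod J').IsQuasicoherent :=
    inferInstanceAs (kernel (ClSub.toSubscheme J')).IsQuasicoherent
  haveI : ((Scheme.Modules.pullback f).obj (ClSub.idealMod J')).IsQuasicoherent :=
    Groth.Agent.H8.isQuasicoherent_pullback f (ClSub.idealMod J')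
  haveI : ((Scheme.Modules.pullback u).obj
      ((Scheme.Modules.pullback f).obj (ClSub.idealMod J'))).IsQuasicoherent :=
    Groth.Agent.H8.isQuasicoherent_pullback u _
  have hbij := local_bijective_section_pow g f hf u v g' hsq f' hf' hf'v hφ n hflat hJ hJ'
  have haff : ∀ k : IdxSec g f u (Y' := Y'),
      IsAffineOpen (f' ⁻¹ᵁ (v ⁻¹ᵁ k.U' ⊓ g' ⁻¹ᵁ k.V')) := by
    intro k
    rw [preimage_eq g f u v g' f' hf' hf'v k]; exact k.hV'
  haveI : Mono φ := mono_of_injective_affine_cover φ _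
    (isOpenCover_idxSec g f hf u v g' f' hf' hf'v) haff (fun k => (hbij k).1)
  haveI : Epi φ := Groth.Agent.H18.Serre.epi_of_surjective_affine_cover φ _
    (isOpenCover_idxSec g f hf u v g' f' hf' hf'v) haff (fun k => (hbij k).2)
  exact isIso_of_mono_of_epi φ

end SectionCasePow

end Groth.Agent.H39.GrMap
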