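import Mathlib.RingTheory.AdicCompletion.Basic
import Mathlib.RingTheory.Finiteness.Defs
import Mathlib.RingTheory.Finiteness.Basic
import Mathlib.LinearAlgebra.Span.Defs
import Mathlib.RingTheory.Ideal.Operations

set_option autoImplicit false
universe u v

namespace Groth.Agent.H39.InvLim

open Submodule

section

variable {A : Type u} [CommRing A] (I : Ideal A)
  {M : ℕ → Type v} [∀ n, AddCommGroup (M n)] [∀ n, Module A (M n)]
  (f : ∀ n, M (n + 1) →ₗ[A] M n)
  {L : Type v} [AddCommGroup L] [Module A L] (π : ∀ n, L →ₗ[A] M n)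

/-- elements of `I^(n+1)` kill `M n` -/
theorem kill (hk : ∀ n, I ^ (n + 1) • (⊤ : Submodule A (M n)) = ⊥) {n : ℕ} {a : A}
    (ha : a ∈ I ^ (n + 1)) (z : M n) : a • z = 0 := by
  have : a • z ∈ I ^ (n + 1) • (⊤ : Submodule A (M n)) := smul_mem_smul ha mem_top
  rw [hk n] at this
  exact (mem_bot A).mp this

theorem kill_of_le (hk : ∀ n, I ^ (n + 1) • (⊤ : Submodule A (M n)) = ⊥) {n j : ℕ} (hj : n + 1 ≤ j)
    {a : A} (ha : a ∈ I ^ j) (z : M n) : a • z = 0 :=
  kill I hk (Ideal.pow_le_pow_right hj ha) z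

/-- `π 0` is surjective -/
theorem surj_zero (hf : ∀ n, Function.Surjective (f n))
    (hlift : ∀ y : (∀ n, M n), (∀ n, f n (y (n + 1)) = y n) → ∃ x : L, ∀ n, π n x = y n) :
    Function.Surjective (π 0) := by
  intro y
  let z : ∀ n, M n := fun n => Nat.rec y (fun m zm => Classical.choose (hf m zm)) n
  have hz : ∀ n, f n (z (n + 1)) = z n := fun n => Classical.choose_spec (hf n (z n))
  obtain ⟨x, hx⟩ := hlift z hz
  exact ⟨x, hx 0⟩

/-- the images of a family generating `M 0` generate each `M n` -/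
theorem span_top (hk : ∀ n, I ^ (n + 1) • (⊤ : Submodule A (M n)) = ⊥)
    (hker : ∀ n, LinearMap.ker (f n) = I ^ (n + 1) • (⊤ : Submodule A (M (n + 1))))
    (hπ : ∀ n, f n ∘ₗ π (n + 1) = π n)
    {ι : Type*} (x : ι → L) (h0 : span A (Set.range fun i => π 0 (x i)) = ⊤) (n : ℕ) :
    span A (Set.range fun i => π n (x i)) = ⊤ := by
  induction n with
  | zero => exact h0
  | succ n ih =>
    set S := span A (Set.range fun i => π (n + 1) (x i)) with hS
    have hmap : S.map (f n) = ⊤ := by
      rw [hS, Submodule.map_span, ← ih, ← Set.range_comp]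
      congr 2
      funext i
      change f n (π (n + 1) (x i)) = π n (x i)
      rw [← hπ n]; rfl
    have h1 : (⊤ : Submodule A (M (n + 1))) = S ⊔ I ^ (n + 1) • ⊤ := by
      refine le_antisymm ?_ le_top
      intro z _
      have : f n z ∈ S.map (f n) := by rw [hmap]; trivial
      obtain ⟨s, hs, hsz⟩ := this
      have hzs : z - s ∈ LinearMap.ker (f n) := by
        rw [LinearMap.mem_ker, map_sub, hsz, sub_self]
      rw [hker n] at hzs
      have : z = s + (z - s) := by abel
      rw [this]
      exact Submodule.add_mem_sup hs hzs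
    have h2 : I ^ (n + 1) • (⊤ : Submodule A (M (n + 1))) ≤ S := by
      conv_lhs => rw [h1]
      rw [Submodule.smul_sup]
      refine sup_le Submodule.smul_le_right ?_
      rw [← mul_smul, ← pow_add]
      have : I ^ (n + 1 + (n + 1)) ≤ I ^ (n + 1 + 1) := Ideal.pow_le_pow_right (by omega)
      calc I ^ (n + 1 + (n + 1)) • (⊤ : Submodule A (M (n + 1)))
          ≤ I ^ (n + 1 + 1) • ⊤ := Submodule.smul_mono_left this
        _ = ⊥ := hk (n + 1)
        _ ≤ S := bot_le
    rw [h1]
    exact (sup_eq_left.mpr h2).symm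

/-- vanishing of the first `j` projections -/
def Van (j : ℕ) (y : L) : Prop := ∀ m, m < j → π m y = 0

/-- the linear combination attached to a coefficient vector -/
def comb {t : ℕ} (x : Fin t → L) (c : Fin t → A) : L := ∑ i, c i • x i

theorem comb_add {t : ℕ} (x : Fin t → L) (c d : Fin t → A) :
    comb x (c + d) = comb x c + comb x d := by
  simp [comb, add_smul, Finset.sum_add_distrib]

theorem comb_sub {t : ℕ} (x : Fin t → L) (c d : Fin t → A) :
    comb x (c - d) = comb x c - comb x d := by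
  simp [comb, sub_smul, Finset.sum_sub_distrib]

theorem comb_zero {t : ℕ} (x : Fin t → L) : comb x (0 : Fin t → A) = 0 := by
  simp [comb]

theorem π_comb_eq_zero (hk : ∀ n, I ^ (n + 1) • (⊤ : Submodule A (M n)) = ⊥)
    {t : ℕ} (x : Fin t → L) (c : Fin t → A) {m j : ℕ} (hmj : m + 1 ≤ j)
    (hc : ∀ i, c i ∈ I ^ j) : π m (comb x c) = 0 := by
  simp only [comb, map_sum, map_smul]
  exact Finset.sum_eq_zero fun i _ => kill_of_le I hk hmj (hc i) _

theorem comb_mem {t : ℕ} (x : Fin t → L) (c : Fin t → A) {j : ℕ}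
    (hc : ∀ i, c i ∈ I ^ j) : comb x c ∈ I ^ j • (⊤ : Submodule A L) :=
  Submodule.sum_mem _ fun i _ => smul_mem_smul (hc i) mem_top

/-- one approximation step -/
theorem step (hk : ∀ n, I ^ (n + 1) • (⊤ : Submodule A (M n)) = ⊥)
    (hker : ∀ n, LinearMap.ker (f n) = I ^ (n + 1) • (⊤ : Submodule A (M (n + 1))))
    (hπ : ∀ n, f n ∘ₗ π (n + 1) = π n)
    {t : ℕ} (x : Fin t → L) (hx : ∀ n, span A (Set.range fun i => π n (x i)) = ⊤)
    (j : ℕ) (y : L) (hy : Van π j y) :
    ∃ e : Fin t → A, (∀ i, e i ∈ I ^ j) ∧ Van π (j + 1) (y - comb x e) := by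
  have hmem : π j y ∈ I ^ j • (⊤ : Submodule A (M j)) := by
    cases j with
    | zero => simp
    | succ j' =>
      rw [← hker j', LinearMap.mem_ker]
      have := hy j' (Nat.lt_succ_self j')
      rw [← hπ j'] at this
      exact this
  rw [← hx j, mem_ideal_smul_span_iff_exists_sum] at hmem
  obtain ⟨a, ha, hsum⟩ := hmem
  refine ⟨fun i => a i, ha, ?_⟩
  intro m hm
  rcases Nat.lt_succ_iff_lt_or_eq.mp hm with hlt | rfl
  · rw [map_sub, hy m hlt, π_comb_eq_zero I π hk x _ (Nat.succ_le_of_lt hlt) ha, sub_zero]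
  · rw [map_sub, sub_eq_zero, ← hsum]
    simp only [comb, map_sum, map_smul]
    exact Finsupp.sum_fintype a _ (fun i => zero_smul A _)

/-- the approximation theorem: an element killed by the first `k` projections is a combination of
the generators with coefficients in `I ^ k` -/
theorem approx [IsPrecomplete I A] (hk : ∀ n, I ^ (n + 1) • (⊤ : Submodule A (M n)) = ⊥)
    (hker : ∀ n, LinearMap.ker (f n) = I ^ (n + 1) • (⊤ : Submodule A (M (n + 1))))
    (hπ : ∀ n, f n ∘ₗ π (n + 1) = π n)
    (hinj : ∀ x : L, (∀ n, π n x = 0) → x = 0)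
    {t : ℕ} (x : Fin t → L) (hx : ∀ n, span A (Set.range fun i => π n (x i)) = ⊤)
    (k : ℕ) (y : L) (hy : Van π k y) :
    ∃ c : Fin t → A, (∀ i, c i ∈ I ^ k) ∧ y = comb x c := by
  classical
  have hstep := step I f π hk hker hπ x hx
  choose E hE1 hE2 using hstep
  let P : ℕ → Type u := fun j => {p : Fin t → A // Van π (k + j) (y - comb x p)}
  let seq : ∀ j, P j := fun j => Nat.rec (motive := P)
    ⟨0, by simpa [comb_zero] using hy⟩
    (fun j s => ⟨s.1 + E (k + j) (y - comb x s.1) s.2, by
      have := hE2 (k + j) (y - comb x s.1) s.2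
      rw [comb_add, ← sub_sub]; exact this⟩) j
  let q : ℕ → Fin t → A := fun j => (seq j).1
  have hq0 : q 0 = 0 := rfl
  have hqsucc : ∀ j, q (j + 1) = q j + E (k + j) (y - comb x (q j)) (seq j).2 := fun j => rfl
  have hqvan : ∀ j, Van π (k + j) (y - comb x (q j)) := fun j => (seq j).2
  have hdiff : ∀ j i, q (j + 1) i - q j i ∈ I ^ (k + j) := by
    intro j i
    rw [hqsucc j]
    simp only [Pi.add_apply, add_sub_cancel_left]
    exact hE1 _ _ _ i
  have hcauchy : ∀ i m n, m ≤ n → q n i - q m i ∈ I ^ (k + m) := by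
    intro i m n hmn
    induction n, hmn using Nat.le_induction with
    | base => simp
    | succ n hmn ih =>
      have : q (n + 1) i - q m i = (q (n + 1) i - q n i) + (q n i - q m i) := by ring
      rw [this]
      exact Ideal.add_mem _ (Ideal.pow_le_pow_right (by omega) (hdiff n i)) ih
  have hlim : ∀ i, ∃ c : A, ∀ n, q n i ≡ c [SMOD (I ^ n • ⊤ : Submodule A A)] := by
    intro i
    refine IsPrecomplete.prec ‹IsPrecomplete I A› (f := fun n => q n i) ?_
    intro m n hmn
    rw [SModEq.sub_mem, smul_eq_mul, Ideal.mul_top]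
    have := hcauchy i m n hmn
    have h2 : q m i - q n i = -(q n i - q m i) := by ring
    rw [h2]
    exact Ideal.neg_mem_iff _ |>.mpr (Ideal.pow_le_pow_right (by omega) this)
  choose c hc using hlim
  have hc' : ∀ i n, c i - q n i ∈ I ^ n := by
    intro i n
    have := hc i n
    rw [SModEq.sub_mem, smul_eq_mul, Ideal.mul_top] at this
    have h2 : c i - q n i = -(q n i - c i) := by ring
    rw [h2]
    exact (Ideal.neg_mem_iff _).mpr this
  have hck : ∀ i, c i ∈ I ^ k := by
    intro i
    have h1 := hc' i k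
    have h2 : q k i ∈ I ^ k := by
      have := hcauchy i 0 k (Nat.zero_le k)
      rw [hq0] at this
      simpa using this
    have : c i = (c i - q k i) + q k i := by ring
    rw [this]
    exact Ideal.add_mem _ h1 h2
  refine ⟨c, hck, ?_⟩
  have hzero : y - comb x c = 0 := by
    apply hinj
    intro n
    have e : y - comb x c = (y - comb x (q (n + 1))) - comb x (c - q (n + 1)) := by
      rw [comb_sub]; abel
    have h3 : π n (comb x (c - q (n + 1))) = 0 :=
      π_comb_eq_zero I π hk x (c - q (n + 1)) (le_refl (n + 1)) (fun i => hc' i (n + 1))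
    rw [e, map_sub, hqvan (n + 1) n (by omega), h3, sub_zero]
  exact sub_eq_zero.mp hzero

theorem van_of_ker (hπ : ∀ n, f n ∘ₗ π (n + 1) = π n) (y : L) (n : ℕ) (hy : π n y = 0) :
    Van π (n + 1) y := by
  induction n with
  | zero =>
    intro m hm
    obtain rfl : m = 0 := by omega
    exact hy
  | succ n ih =>
    have h1 : π n y = 0 := by
      rw [← hπ n]
      change f n (π (n + 1) y) = 0
      rw [hy, map_zero]
    intro m hm
    rcases Nat.lt_succ_iff_lt_or_eq.mp hm with hlt | rfl
    · exact ih h1 m hlt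
    · exact hy

theorem smul_top_le_ker (hk : ∀ n, I ^ (n + 1) • (⊤ : Submodule A (M n)) = ⊥) (n : ℕ) :
    I ^ (n + 1) • (⊤ : Submodule A L) ≤ LinearMap.ker (π n) := by
  intro z hz
  rw [LinearMap.mem_ker]
  induction hz using Submodule.smul_induction_on' with
  | smul a ha z _ => rw [map_smul]; exact kill I hk ha _
  | add z₁ _ z₂ _ h₁ h₂ => rw [map_add, h₁, h₂, add_zero]

/-- the full statement -/
theorem main [IsAdicComplete I A]
    (hf : ∀ n, Function.Surjective (f n))
    (hk : ∀ n, I ^ (n + 1) • (⊤ : Submodule A (M n)) = ⊥)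
    (hker : ∀ n, LinearMap.ker (f n) = I ^ (n + 1) • (⊤ : Submodule A (M (n + 1))))
    (hπ : ∀ n, f n ∘ₗ π (n + 1) = π n)
    (hinj : ∀ x : L, (∀ n, π n x = 0) → x = 0)
    (hlift : ∀ y : (∀ n, M n), (∀ n, f n (y (n + 1)) = y n) → ∃ x : L, ∀ n, π n x = y n)
    (h0 : Module.Finite A (M 0)) :
    Module.Finite A L ∧ IsAdicComplete I L ∧
      ∀ n, Function.Surjective (π n) ∧ LinearMap.ker (π n) = I ^ (n + 1) • (⊤ : Submodule A L) := by
  obtain ⟨t, s, hs⟩ := Module.Finite.exists_fin (R := A) (M := M 0)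
  have hsurj0 := surj_zero f π hf hlift
  choose x hxs using fun i => hsurj0 (s i)
  have hx0 : span A (Set.range fun i => π 0 (x i)) = ⊤ := by
    rw [← hs]; congr 2; funext i; exact hxs i
  have hx := span_top I f π hk hker hπ x hx0
  have happrox := approx I f π hk hker hπ hinj x hx
  have hkerπ : ∀ n, LinearMap.ker (π n) = I ^ (n + 1) • (⊤ : Submodule A L) := by
    intro n
    refine le_antisymm ?_ (smul_top_le_ker I π hk n)
    intro y hy
    obtain ⟨c, hc, rfl⟩ := happrox (n + 1) y (van_of_ker f π hπ y n hy)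
    exact comb_mem I x c hc
  have hH : IsHausdorff I L := by
    refine ⟨?_⟩
    intro y hy
    apply hinj
    intro n
    have := hy (n + 1)
    rw [SModEq.zero] at this
    exact smul_top_le_ker I π hk n this
  have hP : IsPrecomplete I L := by
    refine ⟨?_⟩
    intro g hg
    let y : ∀ n, M n := fun n => π n (g (n + 1))
    have hy : ∀ n, f n (y (n + 1)) = y n := by
      intro n
      change f n (π (n + 1) (g (n + 1 + 1))) = π n (g (n + 1))
      have h1 : f n (π (n + 1) (g (n + 1 + 1))) = π n (g (n + 1 + 1)) := by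
        rw [← hπ n]; rfl
      rw [h1]
      have h2 := hg (Nat.le_succ (n + 1))
      rw [SModEq.sub_mem] at h2
      have h3 := smul_top_le_ker I π hk n h2
      rw [LinearMap.mem_ker, map_sub, sub_eq_zero] at h3
      exact h3.symm
    obtain ⟨l, hl⟩ := hlift y hy
    refine ⟨l, fun n => ?_⟩
    cases n with
    | zero => rw [SModEq.sub_mem]; simp
    | succ n =>
      rw [SModEq.sub_mem, ← hkerπ n, LinearMap.mem_ker, map_sub, hl n, sub_self]
  refine ⟨?_, { toIsHausdorff := hH, toIsPrecomplete := hP }, fun n => ⟨?_, hkerπ n⟩⟩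
  · -- finiteness
    have htop : span A (Set.range x) = ⊤ := by
      refine eq_top_iff.mpr fun y _ => ?_
      obtain ⟨c, -, rfl⟩ := happrox 0 y (fun m hm => absurd hm (Nat.not_lt_zero m))
      exact Submodule.sum_mem _ fun i _ =>
        Submodule.smul_mem _ _ (subset_span (Set.mem_range_self i))
    exact ⟨by rw [← htop]; exact Submodule.fg_span (Set.finite_range x)⟩
  · -- surjectivity
    intro z
    have hz : z ∈ span A (Set.range fun i => π n (x i)) := by rw [hx n]; trivial
    have hle : span A (Set.range fun i => π n (x i)) ≤ LinearMap.range (π n) := by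
      rw [span_le]
      rintro _ ⟨i, rfl⟩
      exact ⟨x i, rfl⟩
    exact hle hz

end

end Groth.Agent.H39.InvLim
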