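import Groth.Agent.H39.InvLim
import Mathlib.Algebra.Module.Projective
import Mathlib.RingTheory.Ideal.Quotient.Defs
import Mathlib.LinearAlgebra.Pi
import Mathlib.LinearAlgebra.FreeModule.Basic
import Mathlib.LinearAlgebra.StdBasis

set_option autoImplicit false
universe u v

namespace Groth.Agent.H39.InvLimProj

open Submodule

section lift

variable {A : Type u} [CommRing A]

/-- lifting maps out of a free module modulo `J` along a surjection of modules killed by `J` -/
theorem lift_free (J : Ideal A) (m : ℕ) {N N' : Type*} [AddCommGroup N] [Module A N]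
    [AddCommGroup N'] [Module A N']
    (hN : ∀ a ∈ J, ∀ z : N, a • z = 0) (p : N →ₗ[A] N') (hp : Function.Surjective p)
    (g : (Fin m → A ⧸ J) →ₗ[A] N') :
    ∃ g' : (Fin m → A ⧸ J) →ₗ[A] N, p ∘ₗ g' = g := by
  classical
  choose z hz using fun k => hp (g (Pi.single k 1))
  have hle : ∀ k, J ≤ LinearMap.ker (LinearMap.toSpanSingleton A N (z k)) := fun k a ha => by
    rw [LinearMap.mem_ker, LinearMap.toSpanSingleton_apply]
    exact hN a ha _
  let ψ : ∀ k, (A ⧸ J) →ₗ[A] N := fun k =>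
    Submodule.liftQ J (LinearMap.toSpanSingleton A N (z k)) (hle k)
  refine ⟨∑ k, ψ k ∘ₗ LinearMap.proj k, ?_⟩
  apply LinearMap.pi_ext
  intro k q
  obtain ⟨a, rfl⟩ := Submodule.Quotient.mk_surjective J q
  have hsingle : (Pi.single k (Submodule.Quotient.mk a) : Fin m → A ⧸ J) =
      a • (Pi.single k 1 : Fin m → A ⧸ J) := by
    rw [← Pi.single_smul]
    congr 1
    change _ = Submodule.Quotient.mk (a • (1 : A))
    rw [smul_eq_mul, mul_one]
  rw [hsingle, map_smul, map_smul]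
  congr 1
  rw [← hz k]
  simp only [LinearMap.comp_apply, LinearMap.sum_apply, LinearMap.proj_apply]
  congr 1
  rw [Finset.sum_eq_single k]
  · simp only [Pi.single_eq_same]
    change (Submodule.liftQ J (LinearMap.toSpanSingleton A N (z k)) (hle k))
      (Submodule.Quotient.mk 1) = z k
    rw [Submodule.liftQ_apply, LinearMap.toSpanSingleton_apply, one_smul]
  · intro b _ hb
    simp [Pi.single_eq_of_ne hb]
  · intro h; exact absurd (Finset.mem_univ k) h

end lift

section main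

open InvLim

variable {A : Type u} [CommRing A] (I : Ideal A)
  {M : ℕ → Type v} [∀ n, AddCommGroup (M n)] [∀ n, Module A (M n)]
  (f : ∀ n, M (n + 1) →ₗ[A] M n)
  {L : Type v} [AddCommGroup L] [Module A L] (π : ∀ n, L →ₗ[A] M n)
  {t : ℕ} (x : Fin t → L)

/-- the quotient `A / I^(n+1)` in module form -/
abbrev Q (n : ℕ) : Type u := A ⧸ (I ^ (n + 1) • ⊤ : Submodule A A)

theorem Q_kill (n : ℕ) (a : A) (ha : a ∈ I ^ (n + 1)) (q : Q I n) : a • q = 0 := by
  obtain ⟨b, rfl⟩ := Submodule.Quotient.mk_surjective _ q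
  rw [← Submodule.Quotient.mk_smul, Submodule.Quotient.mk_eq_zero]
  exact Submodule.smul_mem_smul ha mem_top

theorem F_kill (n : ℕ) (a : A) (ha : a ∈ I ^ (n + 1)) (v : Fin t → Q I n) : a • v = 0 := by
  funext j
  exact Q_kill I n a ha (v j)

variable (hk : ∀ n, I ^ (n + 1) • (⊤ : Submodule A (M n)) = ⊥)

/-- the coordinate maps `Q n → M n`, `a ↦ a • π n (x j)` -/
noncomputable def ψ (n : ℕ) (j : Fin t) : Q I n →ₗ[A] M n :=
  Submodule.liftQ _ (LinearMap.toSpanSingleton A (M n) (π n (x j))) (by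
    rw [Submodule.smul_le]
    intro a ha b _
    rw [LinearMap.mem_ker, LinearMap.toSpanSingleton_apply, smul_assoc]
    exact kill I hk ha _)

theorem ψ_mk (n : ℕ) (j : Fin t) (a : A) :
    ψ I π x hk n j (Submodule.Quotient.mk a) = a • π n (x j) := by
  rw [ψ, Submodule.liftQ_apply, LinearMap.toSpanSingleton_apply]

/-- the presentation maps -/
noncomputable def φ (n : ℕ) : (Fin t → Q I n) →ₗ[A] M n :=
  ∑ j, ψ I π x hk n j ∘ₗ LinearMap.proj j

theorem φ_apply (n : ℕ) (v : Fin t → Q I n) : φ I π x hk n v = ∑ j, ψ I π x hk n j (v j) := by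
  simp [φ, LinearMap.sum_apply]

theorem φ_mk (n : ℕ) (c : Fin t → A) :
    φ I π x hk n (fun j => Submodule.Quotient.mk (c j)) = π n (comb x c) := by
  rw [φ_apply]
  simp only [ψ_mk, comb, map_sum, map_smul]

/-- the transition maps on the free modules -/
noncomputable def pr (n : ℕ) : (Fin t → Q I (n + 1)) →ₗ[A] (Fin t → Q I n) :=
  (Submodule.factorPow I A (Nat.le_succ (n + 1))).compLeft (Fin t)

theorem pr_mk (n : ℕ) (c : Fin t → A) :
    pr I (t := t) n (fun j => Submodule.Quotient.mk (c j)) = fun j => Submodule.Quotient.mk (c j) := by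
  funext j
  simp [pr, LinearMap.compLeft]

theorem exists_rep (n : ℕ) (v : Fin t → Q I n) :
    ∃ c : Fin t → A, v = fun j => Submodule.Quotient.mk (c j) := by
  choose c hc using fun j => Submodule.Quotient.mk_surjective _ (v j)
  exact ⟨c, funext fun j => (hc j).symm⟩

theorem pr_surj (n : ℕ) : Function.Surjective (pr I (t := t) n) := by
  intro v
  obtain ⟨c, rfl⟩ := exists_rep I n v
  exact ⟨fun j => Submodule.Quotient.mk (c j), pr_mk I n c⟩

theorem φ_surj (hx : ∀ n, span A (Set.range fun i => π n (x i)) = ⊤) (n : ℕ) :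
    Function.Surjective (φ I π x hk n) := by
  intro z
  have hz : z ∈ span A (Set.range fun i => π n (x i)) := by rw [hx n]; trivial
  obtain ⟨c, hc⟩ := (Submodule.mem_span_range_iff_exists_fun A).mp hz
  refine ⟨fun j => Submodule.Quotient.mk (c j), ?_⟩
  rw [φ_mk, ← hc]
  simp only [comb, map_sum, map_smul]

theorem φ_compat (hπ : ∀ n, f n ∘ₗ π (n + 1) = π n) (n : ℕ) :
    f n ∘ₗ φ I π x hk (n + 1) = φ I π x hk n ∘ₗ pr I n := by
  refine LinearMap.ext fun v => ?_
  obtain ⟨c, rfl⟩ := exists_rep I (n + 1) v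
  simp only [LinearMap.comp_apply]
  rw [pr_mk, φ_mk, φ_mk, ← hπ n]
  rfl

theorem base_sec (hx : ∀ n, span A (Set.range fun i => π n (x i)) = ⊤) {m : ℕ}
    (i : M 0 →ₗ[A] (Fin m → A ⧸ I ^ (0 + 1))) (r : (Fin m → A ⧸ I ^ (0 + 1)) →ₗ[A] M 0)
    (hri : r ∘ₗ i = LinearMap.id) :
    ∃ s : M 0 →ₗ[A] (Fin t → Q I 0), φ I π x hk 0 ∘ₗ s = LinearMap.id := by
  obtain ⟨ρ, hρ⟩ := lift_free (I ^ (0 + 1)) m (N := Fin t → Q I 0) (N' := M 0)
    (fun a ha z => F_kill I 0 a ha z) (φ I π x hk 0) (φ_surj I π x hk hx 0) r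
  refine ⟨ρ ∘ₗ i, ?_⟩
  rw [← LinearMap.comp_assoc, hρ, hri]

theorem step_sec
    (hker : ∀ n, LinearMap.ker (f n) = I ^ (n + 1) • (⊤ : Submodule A (M (n + 1))))
    (hπ : ∀ n, f n ∘ₗ π (n + 1) = π n)
    (n : ℕ) (s : M n →ₗ[A] (Fin t → Q I n)) (hs : φ I π x hk n ∘ₗ s = LinearMap.id) {m : ℕ}
    (i : M (n + 1) →ₗ[A] (Fin m → A ⧸ I ^ (n + 1 + 1)))
    (r : (Fin m → A ⧸ I ^ (n + 1 + 1)) →ₗ[A] M (n + 1))
    (hri : r ∘ₗ i = LinearMap.id) :
    ∃ s' : M (n + 1) →ₗ[A] (Fin t → Q I (n + 1)),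
      φ I π x hk (n + 1) ∘ₗ s' = LinearMap.id ∧ pr I n ∘ₗ s' = s ∘ₗ f n := by
  obtain ⟨g', hg'⟩ := lift_free (I ^ (n + 1 + 1)) m (N := Fin t → Q I (n + 1))
    (N' := Fin t → Q I n)
    (fun a ha z => F_kill I (n + 1) a ha z) (pr I n) (pr_surj I n) (s ∘ₗ f n ∘ₗ r)
  let τ : M (n + 1) →ₗ[A] (Fin t → Q I (n + 1)) := g' ∘ₗ i
  have hprτ : pr I n ∘ₗ τ = s ∘ₗ f n := by
    change pr I n ∘ₗ (g' ∘ₗ i) = s ∘ₗ f n
    rw [← LinearMap.comp_assoc, hg', LinearMap.comp_assoc, LinearMap.comp_assoc, hri,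
      LinearMap.comp_id]
  let u : M (n + 1) →ₗ[A] M (n + 1) := φ I π x hk (n + 1) ∘ₗ τ
  have hfu : f n ∘ₗ u = f n := by
    change f n ∘ₗ (φ I π x hk (n + 1) ∘ₗ τ) = f n
    rw [← LinearMap.comp_assoc, φ_compat I f π x hk hπ n, LinearMap.comp_assoc, hprτ,
      ← LinearMap.comp_assoc, hs, LinearMap.id_comp]
  let ν : M (n + 1) →ₗ[A] M (n + 1) := u - LinearMap.id
  have hfν : f n ∘ₗ ν = 0 := by
    change f n ∘ₗ (u - LinearMap.id) = 0
    rw [LinearMap.comp_sub, hfu, LinearMap.comp_id, sub_self]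
  have hν_range : ∀ z, ν z ∈ I ^ (n + 1) • (⊤ : Submodule A (M (n + 1))) := fun z => by
    rw [← hker n, LinearMap.mem_ker]
    exact LinearMap.congr_fun hfν z
  have hν_kill : ∀ w ∈ I ^ (n + 1) • (⊤ : Submodule A (M (n + 1))), ν w = 0 := by
    intro w hw
    induction hw using Submodule.smul_induction_on' with
    | smul a ha w _ =>
      rw [map_smul]
      have h2 : a • ν w ∈ I ^ (n + 1 + 1) • (⊤ : Submodule A (M (n + 1))) := by
        have h3 : a • ν w ∈ I ^ (n + 1) • (I ^ (n + 1) • (⊤ : Submodule A (M (n + 1)))) :=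
          Submodule.smul_mem_smul ha (hν_range w)
        rw [← Submodule.mul_smul, ← pow_add] at h3
        exact Submodule.smul_mono_left (Ideal.pow_le_pow_right (by omega)) h3
      rw [hk (n + 1)] at h2
      exact (mem_bot A).mp h2
    | add w₁ _ w₂ _ h₁ h₂ => rw [map_add, h₁, h₂, add_zero]
  have hν_sq : ν ∘ₗ ν = 0 := LinearMap.ext fun z => hν_kill _ (hν_range z)
  have hu : u = LinearMap.id + ν := by
    change u = LinearMap.id + (u - LinearMap.id)
    abel
  refine ⟨τ ∘ₗ (LinearMap.id - ν), ?_, ?_⟩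
  · rw [← LinearMap.comp_assoc]
    change u ∘ₗ (LinearMap.id - ν) = LinearMap.id
    rw [hu, LinearMap.comp_sub, LinearMap.add_comp, LinearMap.add_comp, hν_sq]
    simp
  · rw [← LinearMap.comp_assoc, hprτ, LinearMap.comp_sub, LinearMap.comp_id, LinearMap.comp_assoc,
      hfν, LinearMap.comp_zero, sub_zero]

include hk in
/-- the projective case -/
theorem main_proj [IsAdicComplete I A]
    (hf : ∀ n, Function.Surjective (f n))
    (hker : ∀ n, LinearMap.ker (f n) = I ^ (n + 1) • (⊤ : Submodule A (M (n + 1))))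
    (hπ : ∀ n, f n ∘ₗ π (n + 1) = π n)
    (hinj : ∀ x : L, (∀ n, π n x = 0) → x = 0)
    (hlift : ∀ y : (∀ n, M n), (∀ n, f n (y (n + 1)) = y n) → ∃ x : L, ∀ n, π n x = y n)
    (hproj : ∀ n, ∃ (m : ℕ) (i : M n →ₗ[A] (Fin m → A ⧸ I ^ (n + 1)))
      (r : (Fin m → A ⧸ I ^ (n + 1)) →ₗ[A] M n), r ∘ₗ i = LinearMap.id) :
    Module.Finite A L ∧ Module.Projective A L ∧
      ∀ n, Function.Surjective (π n) ∧ LinearMap.ker (π n) = I ^ (n + 1) • (⊤ : Submodule A L) := by
  classical
  have h0 : Module.Finite A (M 0) := by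
    obtain ⟨m, i, r, hri⟩ := hproj 0
    have hr : Function.Surjective r := fun z => ⟨i z, LinearMap.congr_fun hri z⟩
    exact Module.Finite.of_surjective r hr
  obtain ⟨hfin, -, hrest⟩ := InvLim.main I f π hf hk hker hπ hinj hlift h0
  refine ⟨hfin, ?_, hrest⟩
  -- generators
  obtain ⟨t, s0, hs0⟩ := Module.Finite.exists_fin (R := A) (M := M 0)
  have hsurj0 := surj_zero f π hf hlift
  choose x hxs using fun i => hsurj0 (s0 i)
  have hx0 : span A (Set.range fun i => π 0 (x i)) = ⊤ := by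
    rw [← hs0]; congr 2; funext i; exact hxs i
  have hx := span_top I f π hk hker hπ x hx0
  -- compatible sections
  choose m i r hri using hproj
  let P : ℕ → Type _ := fun n =>
    {s : M n →ₗ[A] (Fin t → Q I n) // φ I π x hk n ∘ₗ s = LinearMap.id}
  have hstep : ∀ n (s : P n), ∃ s' : M (n + 1) →ₗ[A] (Fin t → Q I (n + 1)),
      φ I π x hk (n + 1) ∘ₗ s' = LinearMap.id ∧ pr I n ∘ₗ s' = s.1 ∘ₗ f n :=
    fun n s => step_sec I f π x hk hker hπ n s.1 s.2 (i (n + 1)) (r (n + 1)) (hri (n + 1))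
  let base : P 0 := ⟨Classical.choose (base_sec I π x hk hx (i 0) (r 0) (hri 0)),
    Classical.choose_spec (base_sec I π x hk hx (i 0) (r 0) (hri 0))⟩
  let next : ∀ n, P n → P (n + 1) := fun n s =>
    ⟨Classical.choose (hstep n s), (Classical.choose_spec (hstep n s)).1⟩
  let seq : ∀ n, P n := fun n => Nat.rec (motive := P) base next n
  have hseq : ∀ n, pr I n ∘ₗ (seq (n + 1)).1 = (seq n).1 ∘ₗ f n := fun n =>
    (Classical.choose_spec (hstep n (seq n))).2
  -- the coordinate functionals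
  let g : Fin t → ∀ n, L →ₗ[A] Q I n := fun j n => LinearMap.proj j ∘ₗ (seq n).1 ∘ₗ π n
  have ha : StrictMono (fun n : ℕ => n + 1) := fun a b h => Nat.succ_lt_succ h
  have hg : ∀ j, ∀ {k : ℕ}, Submodule.factorPow I A (ha.monotone k.le_succ) ∘ₗ g j (k + 1) = g j k := by
    intro j k
    refine LinearMap.ext fun l => ?_
    have h1 := LinearMap.congr_fun (hseq k) (π (k + 1) l)
    have h2 : f k (π (k + 1) l) = π k l := by rw [← hπ k]; rfl
    simp only [LinearMap.comp_apply] at h1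
    rw [h2] at h1
    have h3 := congrFun h1 j
    simp only [LinearMap.comp_apply, g, LinearMap.proj_apply]
    rw [← h3]
    simp [pr, LinearMap.compLeft]
  let σ : Fin t → L →ₗ[A] A := fun j => IsAdicComplete.StrictMono.lift I ha (g j) (hg j)
  have hσ : ∀ j n l, (Submodule.Quotient.mk (σ j l) : Q I n) = g j n l := fun j n l =>
    IsAdicComplete.StrictMono.mk_lift I ha (g j) (hg j) l
  let Sg : L →ₗ[A] (Fin t → A) := LinearMap.pi σ
  let Φ : (Fin t → A) →ₗ[A] L := Fintype.linearCombination A x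
  have hsplit : Φ ∘ₗ Sg = LinearMap.id := by
    refine LinearMap.ext fun l => ?_
    simp only [LinearMap.comp_apply, LinearMap.id_apply]
    have hcomb : Φ (Sg l) = comb x (fun j => σ j l) := rfl
    rw [hcomb]
    have hz : comb x (fun j => σ j l) - l = 0 := by
      apply hinj
      intro n
      rw [map_sub, ← φ_mk I π x hk n (fun j => σ j l)]
      have h1 : (fun j => (Submodule.Quotient.mk (σ j l) : Q I n)) = (seq n).1 (π n l) := by
        funext j
        rw [hσ j n l]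
        rfl
      rw [h1]
      have h2 := LinearMap.congr_fun (seq n).2 (π n l)
      simp only [LinearMap.comp_apply, LinearMap.id_apply] at h2
      rw [h2, sub_self]
    exact sub_eq_zero.mp hz
  exact Module.Projective.of_split Sg Φ hsplit

end main

end Groth.Agent.H39.InvLimProj
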