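import Groth.Prelude.Def_W4c1nerontoraddGraph
import Mathlib

/-!
# Integer cycles, circuits and cuts in finite labelled multigraphs (`LabGraph`)
-/

set_option autoImplicit false
universe u
open LabGraph Finset

namespace Groth.Agent.H39.LabG

variable {V E : Type u} [Fintype V] [Fintype E] [DecidableEq V] [DecidableEq E]

/-- The coboundary of a vertex labelling on an edge (head minus tail). -/
def dd (ends : E → V × V) (φ : V → ℤ) (e : E) : ℤ := φ (ends e).2 - φ (ends e).1

lemma pairing (ends : E → V × V) (γ : E → ℤ) (φ : V → ℤ) :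
    ∑ e, γ e * dd ends φ e = ∑ v, φ v * boundary ends γ v := by
  unfold boundary dd
  simp_rw [Finset.mul_sum]
  rw [Finset.sum_comm]
  refine Finset.sum_congr rfl fun e _ => ?_
  simp only [mul_sub, mul_ite, mul_zero, Finset.sum_sub_distrib, Finset.sum_ite_eq,
    Finset.mem_univ, if_true]
  ring

lemma boundary_mul (ends : E → V × V) (c : ℤ) (γ : E → ℤ) (v : V) :
    boundary ends (fun e => c * γ e) v = c * boundary ends γ v := by
  unfold boundary
  rw [Finset.mul_sum]
  refine Finset.sum_congr rfl fun e _ => ?_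
  split_ifs <;> ring

lemma boundary_single_loop (ends : E → V × V) (e₁ : E) (h : (ends e₁).1 = (ends e₁).2) (v : V) :
    boundary ends (fun e => if e = e₁ then (1 : ℤ) else 0) v = 0 := by
  unfold boundary
  apply Finset.sum_eq_zero
  intro e _
  by_cases he : e = e₁
  · simp [he, h]
  · simp [he]

/-- Every nonempty edge set meeting every vertex in an even number of edge-ends supports a nonzero
integer cycle. -/
theorem exists_cycle : ∀ (n : ℕ) (ends : E → V × V) (C : Finset E), C.card = n → C.Nonempty →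
    (∀ v, Even (endCount ends C v)) →
    ∃ γ : E → ℤ, (∃ e, γ e ≠ 0) ∧ (∀ e, e ∉ C → γ e = 0) ∧ ∀ v, boundary ends γ v = 0 := by
  intro n
  induction n with
  | zero =>
    intro ends C hc hne _
    exact absurd (Finset.card_eq_zero.mp hc) hne.ne_empty
  | succ n ih =>
    intro ends C hc hne hev
    have loop : ∀ e₁ ∈ C, (ends e₁).1 = (ends e₁).2 → ∃ γ : E → ℤ, (∃ e, γ e ≠ 0) ∧
        (∀ e, e ∉ C → γ e = 0) ∧ ∀ v, boundary ends γ v = 0 := by
      intro e₁ he₁ h
      refine ⟨fun e => if e = e₁ then 1 else 0, ⟨e₁, by simp⟩, ?_, boundary_single_loop ends e₁ h⟩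
      intro e he
      have : e ≠ e₁ := fun h' => he (h' ▸ he₁)
      simp [this]
    obtain ⟨e₁, he₁⟩ := hne
    by_cases hloop : (ends e₁).1 = (ends e₁).2
    · exact loop e₁ he₁ hloop
    have hex : ∃ e₂ ∈ C, e₂ ≠ e₁ ∧ ((ends e₂).1 = (ends e₁).2 ∨ (ends e₂).2 = (ends e₁).2) := by
      by_contra hcon
      push_neg at hcon
      have h1 : endCount ends C (ends e₁).2 = 1 := by
        unfold endCount
        rw [Finset.sum_eq_single_of_mem e₁ he₁]
        · rw [if_neg hloop, if_pos rfl]
        · intro e he hne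
          have := hcon e he hne
          simp [this.1, this.2]
      have := hev (ends e₁).2
      rw [h1] at this
      exact absurd this (by decide)
    obtain ⟨e₂, he₂, hne₂, hb₂⟩ := hex
    by_cases hloop₂ : (ends e₂).1 = (ends e₂).2
    · exact loop e₂ he₂ hloop₂
    obtain ⟨c, s, hterm⟩ : ∃ (c : V) (s : ℤ), ∀ (v : V) (g : ℤ),
        ((if (ends e₂).2 = v then s * g else 0) - (if (ends e₂).1 = v then s * g else 0) =
          (if c = v then g else 0) - (if (ends e₁).2 = v then g else 0)) ∧
        (((if (ends e₂).1 = v then 1 else 0) + (if (ends e₂).2 = v then 1 else 0) : ℕ) =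
          (if (ends e₁).2 = v then 1 else 0) + (if c = v then 1 else 0)) := by
      rcases hb₂ with h | h
      · refine ⟨(ends e₂).2, 1, fun v g => ?_⟩
        rw [h]
        simp
      · refine ⟨(ends e₂).1, -1, fun v g => ?_⟩
        rw [h]
        constructor
        · split_ifs <;> ring
        · exact add_comm _ _
    have hends'₁ : Function.update ends e₁ ((ends e₁).1, c) e₁ = ((ends e₁).1, c) :=
      Function.update_self ..
    have hends'_ne : ∀ e, e ≠ e₁ → Function.update ends e₁ ((ends e₁).1, c) e = ends e :=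
      fun e he => Function.update_of_ne he _ _
    have he₁C' : e₁ ∈ C.erase e₂ := Finset.mem_erase.mpr ⟨hne₂.symm, he₁⟩
    have hcard : (C.erase e₂).card = n := by
      rw [Finset.card_erase_of_mem he₂, hc]; rfl
    have key : ∀ v, endCount ends C v =
        endCount (Function.update ends e₁ ((ends e₁).1, c)) (C.erase e₂) v +
          2 * (if (ends e₁).2 = v then 1 else 0) := by
      intro v
      have h1 : endCount ends C v =
          ((if (ends e₂).1 = v then 1 else 0) + (if (ends e₂).2 = v then 1 else 0)) +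
          (((if (ends e₁).1 = v then 1 else 0) + (if (ends e₁).2 = v then 1 else 0)) +
            ∑ e ∈ (C.erase e₂).erase e₁,
              ((if (ends e).1 = v then 1 else 0) + (if (ends e).2 = v then 1 else 0))) := by
        unfold endCount
        have ha := Finset.add_sum_erase C (fun e => ((if (ends e).1 = v then 1 else 0) +
          (if (ends e).2 = v then 1 else 0) : ℕ)) he₂
        have hb := Finset.add_sum_erase (C.erase e₂) (fun e => ((if (ends e).1 = v then 1 else 0) +
          (if (ends e).2 = v then 1 else 0) : ℕ)) he₁C'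
        rw [← ha, ← hb]
      have h2 : endCount (Function.update ends e₁ ((ends e₁).1, c)) (C.erase e₂) v =
          ((if (ends e₁).1 = v then 1 else 0) + (if c = v then 1 else 0)) +
            ∑ e ∈ (C.erase e₂).erase e₁,
              ((if (ends e).1 = v then 1 else 0) + (if (ends e).2 = v then 1 else 0)) := by
        unfold endCount
        have hb := Finset.add_sum_erase (C.erase e₂)
          (fun e => ((if (Function.update ends e₁ ((ends e₁).1, c) e).1 = v then 1 else 0) +
          (if (Function.update ends e₁ ((ends e₁).1, c) e).2 = v then 1 else 0) : ℕ)) he₁C'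
        rw [← hb, hends'₁]
        congr 1
        refine Finset.sum_congr rfl fun e he => ?_
        rw [hends'_ne e (Finset.ne_of_mem_erase he)]
      rw [h1, h2, (hterm v 0).2]
      ring
    have hev' : ∀ v, Even (endCount (Function.update ends e₁ ((ends e₁).1, c)) (C.erase e₂) v) := by
      intro v
      have h := hev v
      rw [key v] at h
      exact (Nat.even_add.mp h).mpr (even_two_mul _)
    obtain ⟨γ', ⟨e', he'⟩, hsupp', hcyc'⟩ :=
      ih (Function.update ends e₁ ((ends e₁).1, c)) (C.erase e₂) hcard ⟨e₁, he₁C'⟩ hev'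
    have hγ'₂ : γ' e₂ = 0 := hsupp' e₂ (Finset.notMem_erase e₂ C)
    have hγ₂ : Function.update γ' e₂ (s * γ' e₁) e₂ = s * γ' e₁ := Function.update_self ..
    have hγ_ne : ∀ e, e ≠ e₂ → Function.update γ' e₂ (s * γ' e₁) e = γ' e :=
      fun e he => Function.update_of_ne he _ _
    refine ⟨Function.update γ' e₂ (s * γ' e₁), ⟨e', ?_⟩, ?_, ?_⟩
    · have hne' : e' ≠ e₂ := fun h => he' (h ▸ hγ'₂)
      rw [hγ_ne e' hne']
      exact he'
    · intro e he
      have hne' : e ≠ e₂ := fun h => he (h ▸ he₂)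
      rw [hγ_ne e hne']
      exact hsupp' e (fun h => he (Finset.mem_of_mem_erase h))
    · intro v
      have h0 := hcyc' v
      have hdiff : boundary ends (Function.update γ' e₂ (s * γ' e₁)) v -
          boundary (Function.update ends e₁ ((ends e₁).1, c)) γ' v = 0 := by
        unfold boundary
        rw [← Finset.sum_sub_distrib]
        rw [Finset.sum_eq_add e₁ e₂ hne₂.symm]
        · rw [hends'₁, hends'_ne e₂ hne₂, hγ₂, hγ_ne e₁ hne₂.symm, hγ'₂, (hterm v (γ' e₁)).1]
          simp only [ite_self, sub_self, sub_zero]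
          ring
        · intro e _ h12
          rw [hends'_ne e h12.1, hγ_ne e h12.2, sub_self]
        · intro h; exact absurd (Finset.mem_univ _) h
        · intro h; exact absurd (Finset.mem_univ _) h
      linarith

/-- A nonempty even edge set contains a circuit. -/
theorem exists_circuit_subset (ends : E → V × V) : ∀ (C₀ : Finset E), C₀.Nonempty →
    (∀ v, Even (endCount ends C₀ v)) → ∃ C ⊆ C₀, IsCircuit ends C := by
  intro C₀
  induction C₀ using Finset.strongInduction with
  | H C₀ ih =>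
    intro hne hev
    by_cases hC : IsCircuit ends C₀
    · exact ⟨C₀, Finset.Subset.refl _, hC⟩
    · unfold IsCircuit at hC
      push_neg at hC
      obtain ⟨C', hC'ss, hC'ne, hC'ev⟩ := hC hne hev
      obtain ⟨C, hCs, hCc⟩ := ih C' hC'ss hC'ne hC'ev
      exact ⟨C, hCs.trans hC'ss.subset, hCc⟩

/-- The orthogonality condition implies circuit-coprimality. -/
theorem coprime_of_R (ends : E → V × V) (l : E → ℕ)
    (hR : ∀ x : E → ℤ, ∃ y : E → ℤ, ∀ γ : E → ℤ, (∀ v : V, boundary ends γ v = 0) →
      ∑ e : E, γ e * (x e - (l e : ℤ) * y e) = 0) :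
    IsCircuitCoprime ends l := by
  intro C hC
  by_contra hne
  obtain ⟨p, hp, hpd⟩ := Nat.exists_prime_and_dvd hne
  have hp_all : ∀ e ∈ C, p ∣ l e := fun e he => dvd_trans hpd (Finset.gcd_dvd he)
  obtain ⟨γ, ⟨e₁, he₁⟩, hsupp, hcyc⟩ := exists_cycle C.card ends C rfl hC.1 hC.2.1
  obtain ⟨γ₀, hγ₀, hgcd⟩ := Finset.extract_gcd γ (⟨e₁, Finset.mem_univ _⟩ : (Finset.univ : Finset E).Nonempty)
  have hc0 : (Finset.univ : Finset E).gcd γ ≠ 0 := by
    intro h0
    apply he₁
    rw [hγ₀ e₁ (Finset.mem_univ _), h0, zero_mul]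
  have hcyc₀ : ∀ v, boundary ends γ₀ v = 0 := by
    intro v
    have h1 : boundary ends γ v = (Finset.univ : Finset E).gcd γ * boundary ends γ₀ v := by
      rw [← boundary_mul]
      congr 1
      funext e
      exact hγ₀ e (Finset.mem_univ _)
    have h2 := hcyc v
    rw [h1] at h2
    exact (mul_eq_zero.mp h2).resolve_left hc0
  have hsupp₀ : ∀ e, e ∉ C → γ₀ e = 0 := by
    intro e he
    have h1 := hsupp e he
    rw [hγ₀ e (Finset.mem_univ _)] at h1
    exact (mul_eq_zero.mp h1).resolve_left hc0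
  have hpZ : Prime (p : ℤ) := Nat.prime_iff_prime_int.mp hp
  obtain ⟨e₀, he₀⟩ : ∃ e₀, ¬ (p : ℤ) ∣ γ₀ e₀ := by
    by_contra hcon
    push_neg at hcon
    have : (p : ℤ) ∣ (Finset.univ : Finset E).gcd γ₀ := Finset.dvd_gcd fun e _ => hcon e
    rw [hgcd] at this
    exact hpZ.not_unit (isUnit_of_dvd_one this)
  obtain ⟨y, hy⟩ := hR (fun e => if e = e₀ then 1 else 0)
  have h := hy γ₀ hcyc₀
  have h1 : ∑ e : E, γ₀ e * ((if e = e₀ then (1 : ℤ) else 0) - (l e : ℤ) * y e) =
      γ₀ e₀ - ∑ e : E, γ₀ e * ((l e : ℤ) * y e) := by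
    simp only [mul_sub, Finset.sum_sub_distrib, mul_ite, mul_one, mul_zero, Finset.sum_ite_eq',
      Finset.mem_univ, if_true]
  rw [h1] at h
  have h2 : (p : ℤ) ∣ ∑ e : E, γ₀ e * ((l e : ℤ) * y e) := by
    apply Finset.dvd_sum
    intro e _
    by_cases heC : e ∈ C
    · have : (p : ℤ) ∣ (l e : ℤ) := Int.natCast_dvd_natCast.mpr (hp_all e heC)
      exact Dvd.dvd.mul_left (Dvd.dvd.mul_right this _) _
    · rw [hsupp₀ e heC, zero_mul]
      exact dvd_zero _
  apply he₀
  have : γ₀ e₀ = ∑ e : E, γ₀ e * ((l e : ℤ) * y e) := by linarith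
  rw [this]
  exact h2

/-- `ψ` is Cartier along the edges of `E'`. -/
def CartOn (ends : E → V × V) (l : E → ℕ) (E' : Finset E) (ψ : V → ℤ) : Prop :=
  ∀ e ∈ E', (l e : ℤ) ∣ dd ends ψ e

lemma dd_comb (ends : E → V × V) (ψ₁ ψ₂ : V → ℤ) (k : ℤ) (e : E) :
    dd ends (fun v => ψ₁ v + k * ψ₂ v) e = dd ends ψ₁ e + k * dd ends ψ₂ e := by
  unfold dd
  ring

lemma CartOn.comb {ends : E → V × V} {l : E → ℕ} {E' : Finset E} {ψ₁ ψ₂ : V → ℤ}
    (h1 : CartOn ends l E' ψ₁) (h2 : CartOn ends l E' ψ₂) (k : ℤ) :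
    CartOn ends l E' (fun v => ψ₁ v + k * ψ₂ v) := by
  intro e he
  rw [dd_comb]
  exact dvd_add (h1 e he) (Dvd.dvd.mul_left (h2 e he) k)

lemma path_parity (ends : E → V × V) (S : Finset E) (b : V) :
    ∀ w, Relation.ReflTransGen (fun u w => ∃ e ∈ S, (ends e = (u, w) ∨ ends e = (w, u))) b w →
    ∃ D : Finset E, D ⊆ S ∧ ∀ v,
      (endCount ends D v + (if b = v then 1 else 0) + (if w = v then 1 else 0)) % 2 = 0 := by
  intro w h
  induction h with
  | refl =>
    refine ⟨∅, Finset.empty_subset _, fun v => ?_⟩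
    have : endCount ends ∅ v = 0 := by simp [endCount]
    rw [this]
    omega
  | @tail w' w _ hstep ih =>
    obtain ⟨D, hDS, hD⟩ := ih
    obtain ⟨e, heS, hends⟩ := hstep
    have hte : ∀ v, ((if (ends e).1 = v then 1 else 0) + (if (ends e).2 = v then 1 else 0) : ℕ) =
        (if w' = v then 1 else 0) + (if w = v then 1 else 0) := by
      intro v
      rcases hends with h | h
      · rw [h]
      · rw [h]; exact add_comm _ _
    by_cases heD : e ∈ D
    · refine ⟨D.erase e, (Finset.erase_subset _ _).trans hDS, fun v => ?_⟩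
      have h1 : endCount ends D v =
          ((if (ends e).1 = v then 1 else 0) + (if (ends e).2 = v then 1 else 0)) +
            endCount ends (D.erase e) v := by
        unfold endCount
        have ha := Finset.add_sum_erase D (fun e => ((if (ends e).1 = v then 1 else 0) +
          (if (ends e).2 = v then 1 else 0) : ℕ)) heD
        rw [← ha]
      have h2 := hD v
      have h3 := hte v
      omega
    · refine ⟨insert e D, Finset.insert_subset heS hDS, fun v => ?_⟩
      have h1 : endCount ends (insert e D) v =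
          ((if (ends e).1 = v then 1 else 0) + (if (ends e).2 = v then 1 else 0)) +
            endCount ends D v := by
        unfold endCount; rw [Finset.sum_insert heD]
      have h2 := hD v
      have h3 := hte v
      omega

/-- For a prime `p` dividing the label of `e₀`, a cut gives a labelling Cartier along `E'` whose
difference along `e₀` is `1` modulo `p`. -/
theorem exists_cut (ends : E → V × V) (l : E → ℕ) (hcc : IsCircuitCoprime ends l)
    (E' : Finset E) (e₀ : E) (he₀ : e₀ ∉ E') (p : ℕ) (hp : p.Prime) (hpl : p ∣ l e₀) :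
    ∃ ψ : V → ℤ, CartOn ends l E' ψ ∧ (p : ℤ) ∣ 1 - dd ends ψ e₀ := by
  classical
  set S : Finset E := E'.filter (fun e => p ∣ l e) with hS
  let reach : V → Prop :=
    Relation.ReflTransGen (fun u w => ∃ e ∈ S, (ends e = (u, w) ∨ ends e = (w, u))) (ends e₀).2
  have hna : ¬ reach (ends e₀).1 := by
    intro hreach
    obtain ⟨D, hDS, hD⟩ := path_parity ends S (ends e₀).2 (ends e₀).1 hreach
    have he₀D : e₀ ∉ D := fun h => he₀ (Finset.mem_of_mem_filter _ (hDS h))
    have hev : ∀ v, Even (endCount ends (insert e₀ D) v) := by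
      intro v
      have h1 : endCount ends (insert e₀ D) v =
          ((if (ends e₀).1 = v then 1 else 0) + (if (ends e₀).2 = v then 1 else 0)) +
            endCount ends D v := by
        unfold endCount; rw [Finset.sum_insert he₀D]
      have h2 := hD v
      exact Nat.even_iff.mpr (by omega)
    obtain ⟨C, hCs, hCc⟩ := exists_circuit_subset ends (insert e₀ D)
      ⟨e₀, Finset.mem_insert_self _ _⟩ hev
    have hg := hcc C hCc
    have hp_all : ∀ e ∈ C, p ∣ l e := by
      intro e he
      rcases Finset.mem_insert.mp (hCs he) with rfl | h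
      · exact hpl
      · exact (Finset.mem_filter.mp (hDS h)).2
    have : p ∣ C.gcd l := Finset.dvd_gcd hp_all
    rw [hg] at this
    exact hp.one_lt.ne' (Nat.dvd_one.mp this)
  set N : ℤ := ∏ e ∈ E'.filter (fun e => ¬ p ∣ l e), (l e : ℤ) with hN
  have hpZ : Prime (p : ℤ) := Nat.prime_iff_prime_int.mp hp
  have hpN : ¬ (p : ℤ) ∣ N := by
    intro h
    obtain ⟨e, he, hpe⟩ := (Prime.dvd_finset_prod_iff hpZ _).mp h
    exact (Finset.mem_filter.mp he).2 (Int.natCast_dvd_natCast.mp hpe)
  obtain ⟨t, k, hkt⟩ : IsCoprime (p : ℤ) N := (hpZ.irreducible.coprime_iff_not_dvd).mpr hpN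
  refine ⟨fun v => if reach v then k * N else 0, ?_, ?_⟩
  · intro e he
    by_cases hpe : p ∣ l e
    · have heS : e ∈ S := Finset.mem_filter.mpr ⟨he, hpe⟩
      have hiff : reach (ends e).1 ↔ reach (ends e).2 := by
        constructor
        · intro h
          exact Relation.ReflTransGen.tail h ⟨e, heS, Or.inl rfl⟩
        · intro h
          exact Relation.ReflTransGen.tail h ⟨e, heS, Or.inr rfl⟩
      simp only [dd]
      by_cases h1 : reach (ends e).1
      · rw [if_pos h1, if_pos (hiff.mp h1), sub_self]; exact dvd_zero _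
      · rw [if_neg h1, if_neg (fun h => h1 (hiff.mpr h)), sub_self]; exact dvd_zero _
    · have hlN : (l e : ℤ) ∣ N :=
        Finset.dvd_prod_of_mem (fun e => (l e : ℤ)) (Finset.mem_filter.mpr ⟨he, hpe⟩)
      simp only [dd]
      split_ifs
      · rw [sub_self]; exact dvd_zero _
      · rw [sub_zero]; exact Dvd.dvd.mul_left hlN k
      · rw [zero_sub]; exact (dvd_neg).mpr (Dvd.dvd.mul_left hlN k)
      · rw [sub_self]; exact dvd_zero _
  · have hb : reach (ends e₀).2 := Relation.ReflTransGen.refl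
    simp only [dd]
    rw [if_pos hb, if_neg hna, sub_zero]
    exact ⟨t, by linarith⟩

/-- For every divisor `m` of the label of `e₀` there is a labelling Cartier along `E'` whose
difference along `e₀` is `1` modulo `m`. -/
theorem exists_unit_cart (ends : E → V × V) (l : E → ℕ) (hl : ∀ e, 0 < l e)
    (hcc : IsCircuitCoprime ends l) (E' : Finset E) (e₀ : E) (he₀ : e₀ ∉ E') :
    ∀ m : ℕ, m ∣ l e₀ → ∃ ψ : V → ℤ, CartOn ends l E' ψ ∧ (m : ℤ) ∣ 1 - dd ends ψ e₀ := by
  intro m
  induction m using Nat.recOnMul with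
  | zero =>
    intro h
    exact absurd (Nat.eq_zero_of_zero_dvd h) (hl e₀).ne'
  | one =>
    intro _
    refine ⟨fun _ => 0, fun e _ => ?_, ?_⟩
    · unfold dd; simp
    · simp
  | prime p hp =>
    intro h
    exact exists_cut ends l hcc E' e₀ he₀ p hp h
  | mul a b iha ihb =>
    intro h
    obtain ⟨ψ₁, hC₁, h₁⟩ := iha (dvd_of_mul_right_dvd h)
    obtain ⟨ψ₂, hC₂, h₂⟩ := ihb (dvd_of_mul_left_dvd h)
    refine ⟨fun v => ψ₁ v + (1 - dd ends ψ₁ e₀) * ψ₂ v, hC₁.comb hC₂ _, ?_⟩
    rw [dd_comb]
    have : 1 - (dd ends ψ₁ e₀ + (1 - dd ends ψ₁ e₀) * dd ends ψ₂ e₀) =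
        (1 - dd ends ψ₁ e₀) * (1 - dd ends ψ₂ e₀) := by ring
    rw [this]
    push_cast
    exact mul_dvd_mul h₁ h₂

/-- In a circuit-coprime labelled graph every integer edge vector is, modulo the labels, the
coboundary of a vertex labelling. -/
theorem exists_potential (ends : E → V × V) (l : E → ℕ) (hl : ∀ e, 0 < l e)
    (hcc : IsCircuitCoprime ends l) (x : E → ℤ) :
    ∀ E' : Finset E, ∃ φ : V → ℤ, ∀ e ∈ E', (l e : ℤ) ∣ x e - dd ends φ e := by
  intro E'
  induction E' using Finset.induction_on with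
  | empty => exact ⟨fun _ => 0, fun e he => absurd he (Finset.notMem_empty e)⟩
  | insert e₀ E' he₀ ih =>
    obtain ⟨φ, hφ⟩ := ih
    obtain ⟨ψ, hψC, hψ⟩ := exists_unit_cart ends l hl hcc E' e₀ he₀ (l e₀) dvd_rfl
    obtain ⟨r, hr⟩ : ∃ r, r = x e₀ - dd ends φ e₀ := ⟨_, rfl⟩
    refine ⟨fun v => φ v + r * ψ v, fun e he => ?_⟩
    rw [dd_comb]
    rcases Finset.mem_insert.mp he with h | he'
    · have : x e - (dd ends φ e + r * dd ends ψ e) = r * (1 - dd ends ψ e) := by
        rw [hr, h]; ring
      rw [this, h]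
      exact Dvd.dvd.mul_left hψ r
    · have : x e - (dd ends φ e + r * dd ends ψ e) = (x e - dd ends φ e) - r * dd ends ψ e := by
        ring
      rw [this]
      exact dvd_sub (hφ e he') (Dvd.dvd.mul_left (hψC e he') r)

/-- The potential form implies the orthogonality condition. -/
theorem R_of_potential (ends : E → V × V) (l : E → ℕ)
    (hP : ∀ x : E → ℤ, ∃ φ : V → ℤ, ∀ e, (l e : ℤ) ∣ x e - dd ends φ e) :
    ∀ x : E → ℤ, ∃ y : E → ℤ, ∀ γ : E → ℤ, (∀ v : V, boundary ends γ v = 0) →
      ∑ e : E, γ e * (x e - (l e : ℤ) * y e) = 0 := by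
  intro x
  obtain ⟨φ, hφ⟩ := hP x
  refine ⟨fun e => (x e - dd ends φ e) / (l e : ℤ), fun γ hγ => ?_⟩
  have h1 : ∀ e, x e - (l e : ℤ) * ((x e - dd ends φ e) / (l e : ℤ)) = dd ends φ e := by
    intro e
    rw [Int.mul_ediv_cancel' (hφ e)]; ring
  simp_rw [h1]
  rw [pairing]
  exact Finset.sum_eq_zero fun v _ => by rw [hγ v, mul_zero]

end Groth.Agent.H39.LabG
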