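import Groth.Agent.H39.OmegaA

/-!
# Part B: kernels of maps of localizing modules on `Spec R` are localizing;
the kernel of `O_{Spec B} ⟶ (Spec ψ)_* O_{Spec A}` is `tilde (ker ψ)`.
-/

set_option autoImplicit false
universe u
open CategoryTheory CategoryTheory.Limits AlgebraicGeometry Opposite

namespace Groth.Agent.H39.OmegaB

section KernelSections

variable {X : Scheme.{u}} {M N : X.Modules} (α : M ⟶ N)

/-- sections over `U` as a functor to abelian groups -/
noncomputable def secFunctor (U : X.Opens) : X.Modules ⥤ Ab :=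
  Scheme.Modules.toPresheaf X ⋙ (evaluation _ _).obj (op U)

noncomputable instance (U : X.Opens) : PreservesFiniteLimits (secFunctor (X := X) U) := by
  haveI : PreservesFiniteLimits ((evaluation (TopologicalSpace.Opens X)ᵒᵖ Ab.{u}).obj (op U)) :=
    ⟨fun J _ _ => inferInstance⟩
  exact comp_preservesFiniteLimits _ _

instance (U : X.Opens) : (secFunctor (X := X) U).PreservesZeroMorphisms := ⟨fun _ _ => rfl⟩

lemma secFunctor_map (U : X.Opens) (φ : M ⟶ N) : (secFunctor U).map φ = φ.app U := rfl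

lemma kernel_ι_app_injective (U : X.Opens) : Function.Injective ((kernel.ι α).app U) := by
  have : Mono ((secFunctor U).map (kernel.ι α)) := inferInstance
  exact (AddCommGrpCat.mono_iff_injective _).1 this

lemma kernel_ι_app_exact (U : X.Opens) (m : Γ(M, U)) (hm : α.app U m = 0) :
    ∃ k : Γ(kernel α, U), (kernel.ι α).app U k = m := by
  let S : ShortComplex X.Modules := ShortComplex.mk (kernel.ι α) α (kernel.condition α)
  have hS : S.Exact := S.exact_of_f_is_kernel (kernelIsKernel α)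
  have hmono : Mono S.f := by dsimp [S]; infer_instance
  have hS' : (S.map (secFunctor U)).Exact :=
    hS.map_of_mono_of_preservesKernel _ hmono inferInstance
  exact (ShortComplex.ab_exact_iff _).1 hS' m hm

lemma kernel_ι_app_comp (U : X.Opens) (k : Γ(kernel α, U)) :
    α.app U ((kernel.ι α).app U k) = 0 := by
  have h : (kernel.ι α ≫ α).app U = 0 := by rw [kernel.condition]; rfl
  exact congr($h k)

end KernelSections

section Localizing

variable {R : CommRingCat.{u}}

theorem isLocalizing_kernel {M N : (Spec R).Modules} (α : M ⟶ N)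
    (hM : IsLocalizing (modulesSpecToSheaf.obj M)) (hN : IsLocalizing (modulesSpecToSheaf.obj N)) :
    IsLocalizing (modulesSpecToSheaf.obj (kernel α)) := by
  intro f
  let F := modulesSpecToSheaf (R := R)
  let ιU : ∀ U : (Spec R).Opens, (F.obj (kernel α)).obj.obj (op U) →ₗ[R] (F.obj M).obj.obj (op U) :=
    fun U => ((F.map (kernel.ι α)).hom.app (op U)).hom
  let αU : ∀ U : (Spec R).Opens, (F.obj M).obj.obj (op U) →ₗ[R] (F.obj N).obj.obj (op U) :=
    fun U => ((F.map α).hom.app (op U)).hom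
  have hinj : ∀ U, Function.Injective (ιU U) := fun U => kernel_ι_app_injective α U
  have hex : ∀ U m, αU U m = 0 → ∃ k, ιU U k = m := fun U m hm => kernel_ι_app_exact α U m hm
  have hzero : ∀ U k, αU U (ιU U k) = 0 := fun U k => kernel_ι_app_comp α U k
  let D : (Spec R).Opens := PrimeSpectrum.basicOpen f
  let rK : (F.obj (kernel α)).obj.obj (op ⊤) →ₗ[R] (F.obj (kernel α)).obj.obj (op D) :=
    ((F.obj (kernel α)).obj.map (D.leTop.op)).hom
  let rM : (F.obj M).obj.obj (op ⊤) →ₗ[R] (F.obj M).obj.obj (op D) :=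
    ((F.obj M).obj.map D.leTop.op).hom
  let rN : (F.obj N).obj.obj (op ⊤) →ₗ[R] (F.obj N).obj.obj (op D) :=
    ((F.obj N).obj.map D.leTop.op).hom
  have natι : ∀ k, ιU D (rK k) = rM (ιU ⊤ k) := fun k =>
    congr($((F.map (kernel.ι α)).hom.naturality D.leTop.op).hom k)
  have natα : ∀ m, αU D (rM m) = rN (αU ⊤ m) := fun m =>
    congr($((F.map α).hom.naturality D.leTop.op).hom m)
  have hMf : IsLocalizedModule (.powers f) rM := hM f
  have hNf : IsLocalizedModule (.powers f) rN := hN f
  change IsLocalizedModule (.powers f) rK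
  refine ⟨?_, ?_, ?_⟩
  · rintro ⟨x, n, rfl⟩
    have h := Scheme.Modules.isUnit_algebraMap_end_of_le_basicOpen (M := kernel α) (U := D) f le_rfl
    have h' : IsUnit (algebraMap R (Module.End R ((F.obj (kernel α)).obj.obj (op D))) f) := h
    simpa using h'.pow n
  · intro y
    obtain ⟨⟨m, s⟩, hms⟩ := hMf.surj (ιU D y)
    have h1 : rN (αU ⊤ m) = rN 0 := by
      rw [← natα, ← hms, map_zero, LinearMap.map_smul_of_tower, hzero, smul_zero]
    obtain ⟨c, hc⟩ := hNf.exists_of_eq h1
    have h2 : αU ⊤ (c • m) = 0 := by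
      rw [LinearMap.map_smul_of_tower, hc, smul_zero]
    obtain ⟨x, hx⟩ := hex ⊤ _ h2
    refine ⟨⟨x, c * s⟩, hinj D ?_⟩
    rw [natι, hx, LinearMap.map_smul_of_tower, LinearMap.map_smul_of_tower, ← hms, mul_smul]
  · intro x₁ x₂ h
    have h1 : rM (ιU ⊤ x₁) = rM (ιU ⊤ x₂) := by rw [← natι, ← natι, h]
    obtain ⟨c, hc⟩ := hMf.exists_of_eq h1
    refine ⟨c, hinj ⊤ ?_⟩
    rw [LinearMap.map_smul_of_tower, LinearMap.map_smul_of_tower, hc]

end Localizing

end Groth.Agent.H39.OmegaB

namespace Groth.Agent.H39.OmegaB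

open Groth.Agent.H39.OmegaA

section KMSpec

variable {B A : CommRingCat.{u}} (ψ : B ⟶ A)

lemma isLocalizing_unit : IsLocalizing (modulesSpecToSheaf.obj (Coh.structureModule (Spec B))) :=
  isLocalizing_tilde (ModuleCat.of B B)

lemma isLocalizing_push_unit : IsLocalizing (modulesSpecToSheaf.obj
    ((Scheme.Modules.pushforward (Spec.map ψ)).obj (Coh.structureModule (Spec A)))) :=
  isLocalizing_pushforward_of_isLocalizing ψ isLocalizing_unit

lemma isLocalizing_KM : IsLocalizing (modulesSpecToSheaf.obj (KM (Spec.map ψ))) :=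
  isLocalizing_kernel _ isLocalizing_unit (isLocalizing_push_unit ψ)

instance isIso_fromTildeΓ_KM : IsIso (KM (Spec.map ψ)).fromTildeΓ :=
  (isIso_fromTildeΓ_iff_isLocalizing _).2 (isLocalizing_KM ψ)

/-- global sections of `O_{Spec B}` as a `B`-module are `B`. -/
noncomputable def eTop :
    ((modulesSpecToSheaf.obj (Coh.structureModule (Spec B))).obj.obj (op ⊤)) ≃ₗ[B] B :=
  (tilde.isoTop (ModuleCat.of B B)).toLinearEquiv.symm

lemma eTop_symm_apply (b : B) : (eTop (B := B)).symm b = (Scheme.ΓSpecIso B).inv b := rfl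

/-- global sections of the kernel module, as a `B`-module -/
noncomputable def ΓKM : ModuleCat B :=
  (modulesSpecToSheaf.obj (KM (Spec.map ψ))).presheaf.obj (op ⊤)

noncomputable def ιTop : ΓKM ψ →ₗ[B]
    ((modulesSpecToSheaf.obj (Coh.structureModule (Spec B))).obj.obj (op ⊤)) :=
  ((modulesSpecToSheaf.map (kernel.ι (ClSub.unitToPush (Spec.map ψ)))).hom.app (op ⊤)).hom

noncomputable def L : ΓKM ψ →ₗ[B] B := (eTop (B := B)).toLinearMap ∘ₗ ιTop ψ

lemma L_injective : Function.Injective (L ψ) :=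
  (eTop (B := B)).injective.comp (kernel_ι_app_injective (ClSub.unitToPush (Spec.map ψ)) ⊤)

lemma hnat (b : B) :
    (Spec.map ψ).app ⊤ ((Scheme.ΓSpecIso B).inv b) = (Scheme.ΓSpecIso A).inv (ψ b) :=
  (congr($(Scheme.ΓSpecIso_inv_naturality ψ) b)).symm

lemma L_range : LinearMap.range (L ψ) = RingHom.ker ψ.hom := by
  ext b
  simp only [LinearMap.mem_range, RingHom.mem_ker]
  constructor
  · rintro ⟨k, rfl⟩
    have h0 : (Spec.map ψ).app ⊤ (ιTop ψ k) = 0 :=
      kernel_ι_app_comp (ClSub.unitToPush (Spec.map ψ)) ⊤ k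
    have h1 := hnat ψ ((eTop (B := B)) (ιTop ψ k))
    rw [← eTop_symm_apply, LinearEquiv.symm_apply_apply, h0] at h1
    have h3 : (Scheme.ΓSpecIso A).inv (ψ ((eTop (B := B)) (ιTop ψ k))) =
        (Scheme.ΓSpecIso A).inv 0 := by
      rw [map_zero]; exact h1.symm
    exact (ConcreteCategory.bijective_of_isIso (Scheme.ΓSpecIso A).inv).1 h3
  · intro hb
    have h0 : (ClSub.unitToPush (Spec.map ψ)).app ⊤ ((Scheme.ΓSpecIso B).inv b) = 0 := by
      have := hnat ψ b
      rw [hb, map_zero] at this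
      exact this
    obtain ⟨k, hk⟩ := kernel_ι_app_exact (ClSub.unitToPush (Spec.map ψ)) ⊤ _ h0
    refine ⟨k, ?_⟩
    have : ιTop ψ k = (eTop (B := B)).symm b := hk
    change (eTop (B := B)) (ιTop ψ k) = b
    rw [this, LinearEquiv.apply_symm_apply]

noncomputable def ΓKMIso : ΓKM ψ ≅ ModuleCat.of B (RingHom.ker ψ.hom) :=
  ((LinearEquiv.ofInjective (L ψ) (L_injective ψ)).trans
    (LinearEquiv.ofEq _ _ (L_range ψ))).toModuleIso

/-- The kernel of `O_{Spec B} ⟶ (Spec ψ)_* O_{Spec A}` is the sheaf associated with `ker ψ`. -/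
noncomputable def KMIsoTilde : KM (Spec.map ψ) ≅ tilde (ModuleCat.of B (RingHom.ker ψ.hom)) :=
  (asIso (KM (Spec.map ψ)).fromTildeΓ).symm ≪≫ (tilde.functor B).mapIso (ΓKMIso ψ)

end KMSpec

end Groth.Agent.H39.OmegaB
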