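import Groth.Agent.H8.PrinPartQC
import Groth.Agent.H8.StructureCoh
import Groth.Agent.H22.PullGen
import Groth.Agent.H89.PinchSheafFlat
import Groth.Agent.H93.ThickHom
import Groth.Agent.H39.ConormalSplit

/-!
# Flatness of the sheaf of principal parts and of the projections of the thickened diagonal
-/

set_option autoImplicit false
set_option linter.style.haveILetI false
universe u
open CategoryTheory CategoryTheory.Limits AlgebraicGeometry Opposite OmegaSh TopologicalSpace

namespace Groth.Agent.H39.PrinPartFlat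

variable {X S : Scheme.{u}} (f : X ⟶ S) (n : ℕ)

/-- The diagonal section into the thickened diagonal is a closed immersion. -/
instance isClosedImmersion_toNbhd : IsClosedImmersion (PrinPart.toNbhd f n) := by
  have htι : PrinPart.toInfNbhd (PrinPart.diagCl f) n ≫ PrinPart.infNbhdι (PrinPart.diagCl f) n =
      PrinPart.diagCl f := PrinPart.toInfNbhd_ι (PrinPart.diagCl f) n
  haveI hι : IsClosedImmersion (PrinPart.infNbhdι (PrinPart.diagCl f) n) := by
    rw [PrinPart.infNbhdι]; infer_instance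
  haveI : IsClosedImmersion (PrinPart.toInfNbhd (PrinPart.diagCl f) n ≫
      PrinPart.infNbhdι (PrinPart.diagCl f) n) := by
    rw [htι]; infer_instance
  exact IsClosedImmersion.of_comp (PrinPart.toInfNbhd (PrinPart.diagCl f) n)
    (PrinPart.infNbhdι (PrinPart.diagCl f) n)

/-- The first projection of the thickened diagonal is an affine morphism. -/
instance isAffineHom_pr1 : IsAffineHom (PrinPart.pr1 f n) := by
  have hsurj : Function.Surjective (PrinPart.toNbhd f n).base :=
    PrinPart.toInfNbhd_surjective (PrinPart.diagCl f) n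
  have w : PrinPart.toNbhd f n ≫ PrinPart.pr1 f n = 𝟙 X ≫ 𝟙 X := by
    rw [PrinPart.toNbhd_pr1, Category.comp_id]
  exact (Groth.Agent.H93.ThickHom.affineHom_iff (PrinPart.toNbhd f n) (𝟙 X) (𝟙 X)
    (PrinPart.pr1 f n) hsurj w).mp inferInstance

/-- The second projection of the thickened diagonal is an affine morphism. -/
instance isAffineHom_pr2 : IsAffineHom (PrinPart.pr2 f n) := by
  have hsurj : Function.Surjective (PrinPart.toNbhd f n).base :=
    PrinPart.toInfNbhd_surjective (PrinPart.diagCl f) n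
  have w : PrinPart.toNbhd f n ≫ PrinPart.pr2 f n = 𝟙 X ≫ 𝟙 X := by
    rw [PrinPart.toNbhd_pr2, Category.comp_id]
  exact (Groth.Agent.H93.ThickHom.affineHom_iff (PrinPart.toNbhd f n) (𝟙 X) (𝟙 X)
    (PrinPart.pr2 f n) hsurj w).mp inferInstance

set_option maxHeartbeats 800000 in
/-- Sections of `P^n` over `U` are the functions on `pr1⁻¹ U`, as a module over `Γ(X, U)`. -/
theorem exists_sections_P_equiv (U : X.Opens) :
    letI : Algebra Γ(X, U) Γ(PrinPart.nbhd f n, PrinPart.pr1 f n ⁻¹ᵁ U) :=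
      ((PrinPart.pr1 f n).app U).hom.toAlgebra
    Nonempty (Γ(PrinPart.P f n, U) ≃ₗ[Γ(X, U)] Γ(PrinPart.nbhd f n, PrinPart.pr1 f n ⁻¹ᵁ U)) := by
  letI : Algebra Γ(X, U) Γ(PrinPart.nbhd f n, PrinPart.pr1 f n ⁻¹ᵁ U) :=
    ((PrinPart.pr1 f n).app U).hom.toAlgebra
  let e := Groth.Agent.H22.PullGen.pullbackUnitIso (PrinPart.pr2 f n)
  let φ : Γ((Scheme.Modules.pullback (PrinPart.pr2 f n)).obj (Coh.structureModule X),
      PrinPart.pr1 f n ⁻¹ᵁ U) →+ Γ(PrinPart.nbhd f n, PrinPart.pr1 f n ⁻¹ᵁ U) :=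
    (fnSect _ _).comp (e.hom.app (PrinPart.pr1 f n ⁻¹ᵁ U)).hom
  let ψ : Γ(PrinPart.nbhd f n, PrinPart.pr1 f n ⁻¹ᵁ U) →+
      Γ((Scheme.Modules.pullback (PrinPart.pr2 f n)).obj (Coh.structureModule X),
        PrinPart.pr1 f n ⁻¹ᵁ U) :=
    (e.inv.app (PrinPart.pr1 f n ⁻¹ᵁ U)).hom.comp (strSect _ _)
  have hψφ : ∀ m, ψ (φ m) = m := by
    intro m
    show e.inv.app _ (e.hom.app _ m) = m
    have h1 : e.hom.app (PrinPart.pr1 f n ⁻¹ᵁ U) ≫ e.inv.app (PrinPart.pr1 f n ⁻¹ᵁ U) = 𝟙 _ := by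
      rw [← Scheme.Modules.Hom.comp_app, e.hom_inv_id, Scheme.Modules.Hom.id_app]
    exact congr($h1 m)
  have hφψ : ∀ m, φ (ψ m) = m := by
    intro m
    show fnSect _ _ (e.hom.app _ (e.inv.app _ (strSect _ _ m))) = m
    have h1 : e.inv.app (PrinPart.pr1 f n ⁻¹ᵁ U) ≫ e.hom.app (PrinPart.pr1 f n ⁻¹ᵁ U) = 𝟙 _ := by
      rw [← Scheme.Modules.Hom.comp_app, e.inv_hom_id, Scheme.Modules.Hom.id_app]
    have h2 := congr($h1 (strSect _ _ m))
    exact congrArg (fnSect _ _) h2
  refine ⟨{ toFun := fun m => φ m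
            invFun := fun m => ψ m
            map_add' := fun a b => map_add φ a b
            map_smul' := fun r m => ?_
            left_inv := hψφ
            right_inv := hφψ }⟩
  have h1 : e.hom.app (PrinPart.pr1 f n ⁻¹ᵁ U)
      (((PrinPart.pr1 f n).app U).hom r • (show Γ((Scheme.Modules.pullback (PrinPart.pr2 f n)).obj
        (Coh.structureModule X), PrinPart.pr1 f n ⁻¹ᵁ U) from m)) =
      ((PrinPart.pr1 f n).app U).hom r • e.hom.app (PrinPart.pr1 f n ⁻¹ᵁ U) m :=
    Scheme.Modules.Hom.app_smul e.hom _ _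
  exact congrArg (fnSect _ _) h1

/-- If `P^n` is a flat `O_X`-module (left structure), then the first projection of the thickened
diagonal is flat. -/
theorem flat_pr1_of_isFlat (hP : FlatMod.IsFlat (PrinPart.P f n)) : Flat (PrinPart.pr1 f n) := by
  haveI : (Coh.structureModule X).IsQuasicoherent :=
    Groth.Agent.H8.isQuasicoherent_structureModule' X
  haveI : (PrinPart.P f n).IsQuasicoherent :=
    Groth.Agent.H8.PrinPartQC.isQuasicoherent_PMod f n _
  have key : ∀ U : X.affineOpens, ((PrinPart.pr1 f n).app U.1).hom.Flat := by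
    intro U
    haveI h1 : Module.Flat Γ(X, U.1) Γ(PrinPart.P f n, U.1) :=
      Groth.Agent.H89.PinchSheafFlat.flat_sections_of_isFlat _ U.2 (fun x _ => hP x)
    letI : Algebra Γ(X, U.1) Γ(PrinPart.nbhd f n, PrinPart.pr1 f n ⁻¹ᵁ U.1) :=
      ((PrinPart.pr1 f n).app U.1).hom.toAlgebra
    obtain ⟨E⟩ := exists_sections_P_equiv f n U.1
    exact Module.Flat.of_linearEquiv E.symm
  rw [HasRingHomProperty.iff_appLE (P := @Flat)]
  intro U V e
  have hW : IsAffineOpen (PrinPart.pr1 f n ⁻¹ᵁ U.1) := U.2.preimage _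
  have h2 : ((PrinPart.nbhd f n).presheaf.map (homOfLE e).op).hom.Flat := by
    have h3 := HasRingHomProperty.appLE (P := @Flat) (f := 𝟙 (PrinPart.nbhd f n)) inferInstance
      ⟨_, hW⟩ V e
    have h4 : ((𝟙 (PrinPart.nbhd f n) : PrinPart.nbhd f n ⟶ PrinPart.nbhd f n).appLE
        (PrinPart.pr1 f n ⁻¹ᵁ U.1) V.1 e).hom =
        ((PrinPart.nbhd f n).presheaf.map (homOfLE e).op).hom := by
      rfl
    rwa [h4] at h3
  exact RingHom.Flat.comp (key U) h2

end Groth.Agent.H39.PrinPartFlat
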