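import Groth.Agent.H39.PrinPartFlat
import Groth.Agent.H39.PullTrack
import Groth.Agent.H18.Serre.Generation
import Mathlib.Algebra.Category.Ring.Constructions
import Mathlib.AlgebraicGeometry.Morphisms.Flat

/-!
# The sheaf of principal parts is generated by the image of `d^n`
-/

set_option autoImplicit false
set_option linter.style.haveILetI false
universe u
open CategoryTheory CategoryTheory.Limits AlgebraicGeometry Opposite OmegaSh TopologicalSpace
open scoped TensorProduct

namespace Groth.Agent.H39.PrinPartGen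

section Unit

variable {X' X : Scheme.{u}} (h : X' ⟶ X)

set_option backward.isDefEq.respectTransparency.types false in
/-- Under `h^* O_X ≅ O_{X'}`, the pullback of a function is its image under `h♯`. -/
theorem pullbackUnitIso_pullSect (U : X.Opens) (b : Γ(X, U)) :
    fnSect X' (h ⁻¹ᵁ U) ((Groth.Agent.H22.PullGen.pullbackUnitIso h).hom.app (h ⁻¹ᵁ U)
      (pullSect h (Coh.structureModule X) U (strSect X U b))) = h.app U b := by
  obtain ⟨υ, hυ⟩ : ∃ υ : Coh.structureModule X ⟶
      (Scheme.Modules.pushforward h).obj (Coh.structureModule X'),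
      υ = SheafOfModules.unitToPushforwardObjUnit h.toRingCatSheafHom := ⟨_, rfl⟩
  have h3 : (Scheme.Modules.pullbackPushforwardAdjunction h).homEquiv _ _
      (Groth.Agent.H22.PullGen.pullbackUnitIso h).hom = υ := by
    rw [hυ]
    exact SheafOfModules.pullbackPushforwardAdjunction_homEquiv_pullbackObjUnitToUnit _
  rw [Adjunction.homEquiv_apply] at h3
  have h4 := congrArg (fun φ : Coh.structureModule X ⟶
    (Scheme.Modules.pushforward h).obj (Coh.structureModule X') =>
      φ.app U (strSect X U b)) h3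
  have h5 : υ.app U (strSect X U b) =
      (show Γ((Scheme.Modules.pushforward h).obj (Coh.structureModule X'), U) from
        (h.app U b : Γ(X', h ⁻¹ᵁ U))) := by
    rw [hυ]
    rfl
  exact h4.trans h5

end Unit

section Sections

variable {X S : Scheme.{u}} (f : X ⟶ S) (n : ℕ)

set_option maxHeartbeats 1000000 in
/-- Sections of `P^n` over `U` are the functions on `pr1⁻¹ U`, as a module over `Γ(X, U)`, with
`d^n b` corresponding to `pr2♯ b`. -/
theorem exists_sections_P_equiv_dn (U : X.Opens) :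
    letI : Algebra Γ(X, U) Γ(PrinPart.nbhd f n, PrinPart.pr1 f n ⁻¹ᵁ U) :=
      ((PrinPart.pr1 f n).app U).hom.toAlgebra
    ∃ E : Γ(PrinPart.P f n, U) ≃ₗ[Γ(X, U)] Γ(PrinPart.nbhd f n, PrinPart.pr1 f n ⁻¹ᵁ U),
      ∀ b : Γ(X, U), E (PrinPart.dn f n U b) =
        (PrinPart.pr2 f n).appLE U (PrinPart.pr1 f n ⁻¹ᵁ U) (PrinPart.preimage_pr1 f n U).le b := by
  letI : Algebra Γ(X, U) Γ(PrinPart.nbhd f n, PrinPart.pr1 f n ⁻¹ᵁ U) :=
    ((PrinPart.pr1 f n).app U).hom.toAlgebra
  let e := Groth.Agent.H22.PullGen.pullbackUnitIso (PrinPart.pr2 f n)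
  let φ : Γ((Scheme.Modules.pullback (PrinPart.pr2 f n)).obj (Coh.structureModule X),
      PrinPart.pr1 f n ⁻¹ᵁ U) →+ Γ(PrinPart.nbhd f n, PrinPart.pr1 f n ⁻¹ᵁ U) :=
    (fnSect _ _).comp (e.hom.app (PrinPart.pr1 f n ⁻¹ᵁ U)).hom
  let ψ : Γ(PrinPart.nbhd f n, PrinPart.pr1 f n ⁻¹ᵁ U) →+
      Γ((Scheme.Modules.pullback (PrinPart.pr2 f n)).obj (Coh.structureModule X),
        PrinPart.pr1 f n ⁻¹ᵁ U) :=
    (e.inv.app (PrinPart.pr1 f n ⁻¹ᵁ U)).hom.comp (strSect _ _)
  have hψφ : ∀ m, ψ (φ m) = m := by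
    intro m
    show e.inv.app _ (e.hom.app _ m) = m
    have h1 : e.hom.app (PrinPart.pr1 f n ⁻¹ᵁ U) ≫ e.inv.app (PrinPart.pr1 f n ⁻¹ᵁ U) = 𝟙 _ := by
      rw [← Scheme.Modules.Hom.comp_app, e.hom_inv_id, Scheme.Modules.Hom.id_app]
    exact congr($h1 m)
  have hφψ : ∀ m, φ (ψ m) = m := by
    intro m
    show fnSect _ _ (e.hom.app _ (e.inv.app _ (strSect _ _ m))) = m
    have h1 : e.inv.app (PrinPart.pr1 f n ⁻¹ᵁ U) ≫ e.hom.app (PrinPart.pr1 f n ⁻¹ᵁ U) = 𝟙 _ := by
      rw [← Scheme.Modules.Hom.comp_app, e.inv_hom_id, Scheme.Modules.Hom.id_app]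
    have h2 := congr($h1 (strSect _ _ m))
    exact congrArg (fnSect _ _) h2
  refine ⟨{ toFun := fun m => φ m
            invFun := fun m => ψ m
            map_add' := fun a b => map_add φ a b
            map_smul' := fun r m => ?_
            left_inv := hψφ
            right_inv := hφψ }, fun b => ?_⟩
  · have h1 : e.hom.app (PrinPart.pr1 f n ⁻¹ᵁ U)
        (((PrinPart.pr1 f n).app U).hom r • (show Γ((Scheme.Modules.pullback
          (PrinPart.pr2 f n)).obj (Coh.structureModule X), PrinPart.pr1 f n ⁻¹ᵁ U) from m)) =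
        ((PrinPart.pr1 f n).app U).hom r • e.hom.app (PrinPart.pr1 f n ⁻¹ᵁ U) m :=
      Scheme.Modules.Hom.app_smul e.hom _ _
    exact congrArg (fnSect _ _) h1
  · show fnSect _ _ (e.hom.app (PrinPart.pr1 f n ⁻¹ᵁ U) (PrinPart.dn f n U b)) = _
    have h1 : PrinPart.dn f n U b =
        ((Scheme.Modules.pullback (PrinPart.pr2 f n)).obj (Coh.structureModule X)).presheaf.map
          (homOfLE (PrinPart.preimage_pr1 f n U).le).op
          (pullSect (PrinPart.pr2 f n) (Coh.structureModule X) U (strSect X U b)) := rfl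
    rw [h1, PullTrack.app_res e.hom (PrinPart.preimage_pr1 f n U).le]
    have h2 := pullbackUnitIso_pullSect (PrinPart.pr2 f n) U b
    show ((PrinPart.nbhd f n).presheaf.map (homOfLE (PrinPart.preimage_pr1 f n U).le).op).hom
      (fnSect _ _ (e.hom.app (PrinPart.pr2 f n ⁻¹ᵁ U)
        (pullSect (PrinPart.pr2 f n) (Coh.structureModule X) U (strSect X U b)))) = _
    rw [h2]
    rfl

end Sections

section Geometry

theorem app_surjective_congr {Y P : Scheme.{u}} (g : Y ⟶ P) {T T' : P.Opens} (h : T' = T)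
    (hs : Function.Surjective (g.app T)) : Function.Surjective (g.app T') := by
  subst h; exact hs

/-- `g ∣_ T` has surjective global sections iff `g.app T` is surjective. -/
theorem morphismRestrict_appTop_surjective_iff {Y P : Scheme.{u}} (g : Y ⟶ P) (T : P.Opens) :
    Function.Surjective (g ∣_ T).appTop ↔ Function.Surjective (g.app T) := by
  rw [morphismRestrict_appTop]
  have hb := ConcreteCategory.bijective_of_isIso
    (Y.presheaf.map (eqToHom (image_morphismRestrict_preimage g T ⊤)).op)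
  constructor
  · intro h1
    refine app_surjective_congr g (Scheme.Opens.ι_image_top T).symm ?_
    intro y
    obtain ⟨x, hx⟩ := h1 (Y.presheaf.map (eqToHom (image_morphismRestrict_preimage g T ⊤)).op y)
    refine ⟨x, hb.1 ?_⟩
    rw [← hx]; rfl
  · intro h1
    have h2 := app_surjective_congr g (Scheme.Opens.ι_image_top T) h1
    intro y
    obtain ⟨y', hy'⟩ := hb.2 y
    obtain ⟨x, hx⟩ := h2 y'
    have h3 := congrArg (⇑(ConcreteCategory.hom
      (Y.presheaf.map (eqToHom (image_morphismRestrict_preimage g T ⊤)).op))) hx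
    exact ⟨x, h3.trans hy'⟩

theorem mem_range_morphismRestrict {Y P : Scheme.{u}} (g : Y ⟶ P) (T : P.Opens) (z : T) :
    z ∈ Set.range (g ∣_ T) ↔ (z : P) ∈ Set.range g := by
  constructor
  · rintro ⟨y, rfl⟩
    exact ⟨y.1, (morphismRestrict_base_coe g T y).symm⟩
  · rintro ⟨y, hy⟩
    have hyT : y ∈ g ⁻¹ᵁ T := by
      show g y ∈ T
      rw [hy]; exact z.2
    exact ⟨⟨y, hyT⟩, Subtype.ext ((morphismRestrict_base_coe g T ⟨y, hyT⟩).trans hy)⟩

/-- A morphism whose restriction over an affine open `T` has affine source and surjective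
comorphism is a closed immersion over `T`. -/
theorem isClosedImmersion_morphismRestrict {Y P : Scheme.{u}} (g : Y ⟶ P) {T : P.Opens}
    (hT : IsAffineOpen T) (hY : IsAffineOpen (g ⁻¹ᵁ T)) (hs : Function.Surjective (g.app T)) :
    IsClosedImmersion (g ∣_ T) := by
  haveI : IsAffine T.toScheme := hT
  haveI : IsAffine (g ⁻¹ᵁ T).toScheme := hY
  apply IsClosedImmersion.of_surjective_of_isAffine
  exact (morphismRestrict_appTop_surjective_iff g T).mpr hs

variable {X S : Scheme.{u}} (f : X ⟶ S) (n : ℕ)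

theorem diagonal_preimage (U : X.Opens) :
    pullback.diagonal f ⁻¹ᵁ (pullback.fst f f ⁻¹ᵁ U ⊓ pullback.snd f f ⁻¹ᵁ U) = U := by
  have h1 : ∀ x : X, pullback.fst f f (pullback.diagonal f x) = x := fun x => by
    rw [← Scheme.Hom.comp_apply, pullback.diagonal_fst]; rfl
  have h2 : ∀ x : X, pullback.snd f f (pullback.diagonal f x) = x := fun x => by
    rw [← Scheme.Hom.comp_apply, pullback.diagonal_snd]; rfl
  ext x
  constructor
  · intro hx
    have h3 : pullback.fst f f (pullback.diagonal f x) ∈ U := hx.1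
    rwa [h1] at h3
  · intro hx
    refine ⟨?_, ?_⟩
    · show pullback.fst f f (pullback.diagonal f x) ∈ U
      rw [h1]; exact hx
    · show pullback.snd f f (pullback.diagonal f x) ∈ U
      rw [h2]; exact hx

/-- The comorphism of the diagonal over `U ×_S U` is surjective. -/
theorem diagonal_app_surjective (U : X.Opens) :
    Function.Surjective ((pullback.diagonal f).app
      (pullback.fst f f ⁻¹ᵁ U ⊓ pullback.snd f f ⁻¹ᵁ U)) := by
  intro b
  have hDT := diagonal_preimage f U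
  let a : Γ(X, U) := X.presheaf.map (homOfLE hDT.ge).op b
  refine ⟨(pullback.fst f f).appLE U _ inf_le_left a, ?_⟩
  have h1 := congr($(Scheme.Hom.appLE_comp_appLE (pullback.diagonal f) (pullback.fst f f) U
    (pullback.fst f f ⁻¹ᵁ U ⊓ pullback.snd f f ⁻¹ᵁ U)
    (pullback.diagonal f ⁻¹ᵁ (pullback.fst f f ⁻¹ᵁ U ⊓ pullback.snd f f ⁻¹ᵁ U))
    inf_le_left le_rfl) a)
  rw [Scheme.Hom.appLE_eq_app] at h1
  refine h1.trans ?_
  rw [ConormalSplit.appLE_congr_hom (pullback.diagonal_fst f)]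
  show (X.presheaf.map (homOfLE _).op).hom ((X.presheaf.map (homOfLE hDT.ge).op).hom b) = b
  rw [← CommRingCat.comp_apply, ← Functor.map_comp]
  have h2 : (homOfLE hDT.ge).op ≫ (homOfLE (hDT.le.trans (le_refl U))).op =
      𝟙 (op (pullback.diagonal f ⁻¹ᵁ (pullback.fst f f ⁻¹ᵁ U ⊓ pullback.snd f f ⁻¹ᵁ U))) :=
    Subsingleton.elim _ _
  erw [h2, X.presheaf.map_id]
  rfl

instance isImmersion_nbhdι : IsImmersion (PrinPart.nbhdι f n) := by
  haveI : IsClosedImmersion (PrinPart.infNbhdι (PrinPart.diagCl f) n) := by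
    rw [PrinPart.infNbhdι]; infer_instance
  rw [PrinPart.nbhdι]
  infer_instance

theorem range_nbhdι : Set.range (PrinPart.nbhdι f n) = Set.range (pullback.diagonal f) := by
  have h1 : pullback.diagonal f = PrinPart.toNbhd f n ≫ PrinPart.nbhdι f n :=
    (PrinPart.toNbhd_ι f n).symm
  have hs : Function.Surjective (PrinPart.toNbhd f n) :=
    PrinPart.toInfNbhd_surjective (PrinPart.diagCl f) n
  apply Set.Subset.antisymm
  · rintro _ ⟨z, rfl⟩
    obtain ⟨x, rfl⟩ := hs z
    refine ⟨x, ?_⟩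
    rw [h1, Scheme.Hom.comp_apply]
  · rintro _ ⟨x, rfl⟩
    refine ⟨PrinPart.toNbhd f n x, ?_⟩
    rw [h1, Scheme.Hom.comp_apply]

/-- Over `U ×_S U` (`U` affine over an affine of the base), the thickened diagonal is a closed
subscheme: the comorphism is surjective. -/
theorem nbhdι_app_surjective {U : X.Opens} (hU : IsAffineOpen U)
    (hT : IsAffineOpen (pullback.fst f f ⁻¹ᵁ U ⊓ pullback.snd f f ⁻¹ᵁ U)) :
    Function.Surjective ((PrinPart.nbhdι f n).app
      (pullback.fst f f ⁻¹ᵁ U ⊓ pullback.snd f f ⁻¹ᵁ U)) := by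
  have hDT := diagonal_preimage f U
  haveI hD : IsClosedImmersion (pullback.diagonal f ∣_
      (pullback.fst f f ⁻¹ᵁ U ⊓ pullback.snd f f ⁻¹ᵁ U)) :=
    isClosedImmersion_morphismRestrict _ hT (hDT.symm ▸ hU) (diagonal_app_surjective f U)
  have hclosed : IsClosed (Set.range (PrinPart.nbhdι f n ∣_
      (pullback.fst f f ⁻¹ᵁ U ⊓ pullback.snd f f ⁻¹ᵁ U))) := by
    have h1 : Set.range (PrinPart.nbhdι f n ∣_
        (pullback.fst f f ⁻¹ᵁ U ⊓ pullback.snd f f ⁻¹ᵁ U)) =
        Set.range (pullback.diagonal f ∣_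
          (pullback.fst f f ⁻¹ᵁ U ⊓ pullback.snd f f ⁻¹ᵁ U)) := by
      ext z
      refine (mem_range_morphismRestrict (PrinPart.nbhdι f n) _ z).trans ?_
      rw [range_nbhdι]
      exact (mem_range_morphismRestrict (pullback.diagonal f) _ z).symm
    rw [h1]
    exact (pullback.diagonal f ∣_
      (pullback.fst f f ⁻¹ᵁ U ⊓ pullback.snd f f ⁻¹ᵁ U)).isClosedEmbedding.isClosed_range
  haveI : IsClosedImmersion (PrinPart.nbhdι f n ∣_
      (pullback.fst f f ⁻¹ᵁ U ⊓ pullback.snd f f ⁻¹ᵁ U)) :=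
    IsClosedImmersion.of_isPreimmersion _ hclosed
  haveI : IsAffine (pullback.fst f f ⁻¹ᵁ U ⊓ pullback.snd f f ⁻¹ᵁ U).toScheme := hT
  have h2 : Function.Surjective (PrinPart.nbhdι f n ∣_
      (pullback.fst f f ⁻¹ᵁ U ⊓ pullback.snd f f ⁻¹ᵁ U)).appTop :=
    Scheme.Hom.app_surjective _ ⊤ (isAffineOpen_top _)
  exact (morphismRestrict_appTop_surjective_iff _ _).mp h2

end Geometry

section Pushout

/-- In a pushout square of commutative rings, the vertex is additively generated by the products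
`inl a * inr b`. -/
theorem mem_closure_of_isPushout {R A B P : CommRingCat.{u}} {f : R ⟶ A} {g : R ⟶ B}
    {inl : A ⟶ P} {inr : B ⟶ P} (h : IsPushout f g inl inr) (z : P) :
    z ∈ AddSubgroup.closure {w : P | ∃ (a : A) (b : B), w = inl a * inr b} := by
  letI : Algebra R A := f.hom.toAlgebra
  letI : Algebra R B := g.hom.toAlgebra
  have h' : IsPushout f g
      (CommRingCat.ofHom (S := A ⊗[R] B) <| Algebra.TensorProduct.includeLeftRingHom)
      (CommRingCat.ofHom (S := A ⊗[R] B) <| Algebra.TensorProduct.includeRight.toRingHom) :=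
    CommRingCat.isPushout_tensorProduct R A B
  let e := h'.isoIsPushout _ _ h
  have hl : ∀ a : A, e.hom ((a ⊗ₜ[R] (1 : B) : A ⊗[R] B)) = inl a := fun a =>
    congr($(h'.inl_isoIsPushout_hom _ _ h) a)
  have hr : ∀ b : B, e.hom (((1 : A) ⊗ₜ[R] b : A ⊗[R] B)) = inr b := fun b =>
    congr($(h'.inr_isoIsPushout_hom _ _ h) b)
  have hz : z = e.hom (e.inv z) := by
    rw [← CommRingCat.comp_apply, e.inv_hom_id]; rfl
  rw [hz]
  generalize e.inv z = t
  induction t using TensorProduct.induction_on with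
  | zero => rw [map_zero]; exact zero_mem _
  | tmul a b =>
    apply AddSubgroup.subset_closure
    refine ⟨a, b, ?_⟩
    have h1 : (a ⊗ₜ[R] b : A ⊗[R] B) = (a ⊗ₜ[R] (1 : B)) * ((1 : A) ⊗ₜ[R] b) := by
      rw [Algebra.TensorProduct.tmul_mul_tmul, mul_one, one_mul]
    rw [h1, map_mul, hl, hr]
  | add x y hx hy => rw [map_add]; exact add_mem hx hy

end Pushout

section Generation

variable {X S : Scheme.{u}} (f : X ⟶ S) (n : ℕ)

set_option maxHeartbeats 1600000 in
/-- Over an affine open `U` of `X` lying over an affine open of `S`, the sections of `P^n_{X/S}`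
are generated, as a module over `Γ(X, U)`, by the `d^n b`. -/
theorem mem_span_dn {U : X.Opens} (hU : IsAffineOpen U) {V : S.Opens} (hV : IsAffineOpen V)
    (hUV : U ≤ f ⁻¹ᵁ V) (m : Γ(PrinPart.P f n, U)) :
    m ∈ Submodule.span Γ(X, U) (Set.range (PrinPart.dn f n U)) := by
  have H : IsPullback (pullback.fst f f) (pullback.snd f f) f f := IsPullback.of_hasPullback f f
  haveI : IsAffine U.toScheme := hU
  haveI : IsAffine V.toScheme := hV
  have hT : IsAffineOpen (pullback.fst f f ⁻¹ᵁ U ⊓ pullback.snd f f ⁻¹ᵁ U) :=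
    .of_isIso (Scheme.Hom.isPullback_resLE H hUV hUV rfl).isoPullback.hom
  have hpo := (isIso_pushoutSection_iff H hUV hUV rfl).mp
    (isIso_pushoutSection_of_isAffineOpen H hUV hUV rfl hV hU hU)
  have hsurj := nbhdι_app_surjective f n hU hT
  letI : Algebra Γ(X, U) Γ(PrinPart.nbhd f n, PrinPart.pr1 f n ⁻¹ᵁ U) :=
    ((PrinPart.pr1 f n).app U).hom.toAlgebra
  obtain ⟨E, hE⟩ := exists_sections_P_equiv_dn f n U
  -- the two descriptions of the open of the thickened diagonal
  have hle1 : PrinPart.nbhdι f n ⁻¹ᵁ (pullback.fst f f ⁻¹ᵁ U ⊓ pullback.snd f f ⁻¹ᵁ U) ≤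
      PrinPart.pr1 f n ⁻¹ᵁ U := fun z hz => hz.1
  have hle2 : PrinPart.pr1 f n ⁻¹ᵁ U ≤
      PrinPart.nbhdι f n ⁻¹ᵁ (pullback.fst f f ⁻¹ᵁ U ⊓ pullback.snd f f ⁻¹ᵁ U) := by
    intro z hz
    exact ⟨hz, (PrinPart.preimage_pr1 f n U).le hz⟩
  -- the key additive map
  have key : ∀ z : Γ(pullback f f, pullback.fst f f ⁻¹ᵁ U ⊓ pullback.snd f f ⁻¹ᵁ U),
      E.symm (((PrinPart.nbhd f n).presheaf.map (homOfLE hle2).op).hom
        (((PrinPart.nbhdι f n).app _).hom z)) ∈
        Submodule.span Γ(X, U) (Set.range (PrinPart.dn f n U)) := by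
    intro z
    have hz := mem_closure_of_isPushout hpo z
    induction hz using AddSubgroup.closure_induction with
    | mem w hw =>
      obtain ⟨a, b, rfl⟩ := hw
      have h1 : ((PrinPart.nbhd f n).presheaf.map (homOfLE hle2).op).hom
          (((PrinPart.nbhdι f n).app _).hom
            ((pullback.fst f f).appLE U (pullback.fst f f ⁻¹ᵁ U ⊓ pullback.snd f f ⁻¹ᵁ U)
              (by simp) a)) = ((PrinPart.pr1 f n).app U).hom a := by
        have h2 := congr($(Scheme.Hom.appLE_comp_appLE (PrinPart.nbhdι f n) (pullback.fst f f) U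
          (pullback.fst f f ⁻¹ᵁ U ⊓ pullback.snd f f ⁻¹ᵁ U)
          (PrinPart.nbhdι f n ⁻¹ᵁ (pullback.fst f f ⁻¹ᵁ U ⊓ pullback.snd f f ⁻¹ᵁ U))
          inf_le_left le_rfl) a)
        rw [Scheme.Hom.appLE_eq_app] at h2
        have h3 := congr($(Scheme.Hom.appLE_map (PrinPart.nbhdι f n ≫ pullback.fst f f)
          (U := U) (V := PrinPart.nbhdι f n ⁻¹ᵁ (pullback.fst f f ⁻¹ᵁ U ⊓ pullback.snd f f ⁻¹ᵁ U))
          (fun z hz => hz.1) (homOfLE hle2).op) a)
        have h4 : ((PrinPart.pr1 f n).app U).hom a =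
            ((PrinPart.nbhdι f n ≫ pullback.fst f f).appLE U (PrinPart.pr1 f n ⁻¹ᵁ U)
              le_rfl).hom a := by
          have h5 : (PrinPart.pr1 f n).app U = (PrinPart.pr1 f n).appLE U _ le_rfl :=
            Scheme.Hom.app_eq_appLE _
          exact congr($h5 a)
        rw [h4]
        exact (congrArg _ h2).trans h3
      have h1' : ((PrinPart.nbhd f n).presheaf.map (homOfLE hle2).op).hom
          (((PrinPart.nbhdι f n).app _).hom
            ((pullback.snd f f).appLE U (pullback.fst f f ⁻¹ᵁ U ⊓ pullback.snd f f ⁻¹ᵁ U)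
              (by simp) b)) =
          ((PrinPart.pr2 f n).appLE U (PrinPart.pr1 f n ⁻¹ᵁ U)
            (PrinPart.preimage_pr1 f n U).le).hom b := by
        have h2 := congr($(Scheme.Hom.appLE_comp_appLE (PrinPart.nbhdι f n) (pullback.snd f f) U
          (pullback.fst f f ⁻¹ᵁ U ⊓ pullback.snd f f ⁻¹ᵁ U)
          (PrinPart.nbhdι f n ⁻¹ᵁ (pullback.fst f f ⁻¹ᵁ U ⊓ pullback.snd f f ⁻¹ᵁ U))
          inf_le_right le_rfl) b)
        rw [Scheme.Hom.appLE_eq_app] at h2
        have h3 := congr($(Scheme.Hom.appLE_map (PrinPart.nbhdι f n ≫ pullback.snd f f)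
          (U := U) (V := PrinPart.nbhdι f n ⁻¹ᵁ (pullback.fst f f ⁻¹ᵁ U ⊓ pullback.snd f f ⁻¹ᵁ U))
          (fun z hz => hz.2) (homOfLE hle2).op) b)
        exact (congrArg _ h2).trans h3
      rw [map_mul, map_mul, h1, h1']
      have h5 : ((PrinPart.pr1 f n).app U).hom a *
          ((PrinPart.pr2 f n).appLE U (PrinPart.pr1 f n ⁻¹ᵁ U)
            (PrinPart.preimage_pr1 f n U).le).hom b = a • E (PrinPart.dn f n U b) := by
        rw [hE, Algebra.smul_def]
        rfl
      rw [h5, ← map_smul, E.symm_apply_apply]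
      exact Submodule.smul_mem _ _ (Submodule.subset_span ⟨b, rfl⟩)
    | zero =>
      rw [map_zero, map_zero, map_zero]
      exact zero_mem _
    | add x y _ _ hx hy =>
      rw [map_add, map_add, map_add]
      exact add_mem hx hy
    | neg x _ hx =>
      rw [map_neg, map_neg, map_neg]
      exact neg_mem hx
  obtain ⟨z, hz⟩ := hsurj (((PrinPart.nbhd f n).presheaf.map (homOfLE hle1).op).hom (E m))
  have h6 := key z
  rw [hz] at h6
  have h7 : ((PrinPart.nbhd f n).presheaf.map (homOfLE hle2).op).hom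
      (((PrinPart.nbhd f n).presheaf.map (homOfLE hle1).op).hom (E m)) = E m := by
    rw [← CommRingCat.comp_apply, ← Functor.map_comp]
    have h8 : (homOfLE hle1).op ≫ (homOfLE hle2).op = 𝟙 (op (PrinPart.pr1 f n ⁻¹ᵁ U)) :=
      Subsingleton.elim _ _
    rw [h8, (PrinPart.nbhd f n).presheaf.map_id]
    rfl
  rw [h7, E.symm_apply_apply] at h6
  exact h6

end Generation

section Epi

variable {X S X' S' : Scheme.{u}} (f : X ⟶ S) (f' : X' ⟶ S') (u : X' ⟶ X) (n : ℕ)

theorem dn_map {U W : X.Opens} (e : W ≤ U) (b : Γ(X, U)) :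
    PrinPart.dn f n W (X.presheaf.map (homOfLE e).op b) =
      (PrinPart.P f n).presheaf.map (homOfLE e).op (PrinPart.dn f n U b) := by
  show PrinPart.dP f n (Coh.structureModule X) W (strSect X W (X.presheaf.map (homOfLE e).op b)) = _
  rw [strSect_map, PrinPart.dP_map]
  rfl

set_option maxHeartbeats 800000 in
/-- The canonical map of sheaves of principal parts is an epimorphism as soon as `u♯` is locally
surjective on suitable affine opens. -/
theorem epi_of_isPMap {φ : (Scheme.Modules.pullback u).obj (PrinPart.P f n) ⟶ PrinPart.P f' n}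
    (hφ : PrinPart.IsPMap f f' u n φ)
    (hcov : ∀ x' : X', ∃ (U : X.Opens) (U' : X'.Opens) (V' : S'.Opens) (hle : U' ≤ u ⁻¹ᵁ U),
      IsAffineOpen U' ∧ IsAffineOpen V' ∧ U' ≤ f' ⁻¹ᵁ V' ∧ x' ∈ U' ∧
        Function.Surjective (u.appLE U U' hle)) : Epi φ := by
  haveI : (Coh.structureModule X').IsQuasicoherent :=
    Groth.Agent.H8.isQuasicoherent_structureModule' X'
  haveI : (PrinPart.P f' n).IsQuasicoherent :=
    Groth.Agent.H8.PrinPartQC.isQuasicoherent_PMod f' n _
  choose U U' V' hle hU' hV' hUV' hx' hsurj using hcov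
  have hcover : IsOpenCover U' := by
    rw [IsOpenCover, eq_top_iff]
    intro x' _
    exact Opens.mem_iSup.mpr ⟨x', hx' x'⟩
  refine Groth.Agent.H18.Serre.epi_of_surjective_affine_cover φ U' hcover hU' (fun x' => ?_)
  intro m'
  have hm' := mem_span_dn f' n (hU' x') (hV' x') (hUV' x') m'
  induction hm' using Submodule.span_induction with
  | mem m hm =>
    obtain ⟨b', rfl⟩ := hm
    obtain ⟨b, rfl⟩ := hsurj x' b'
    refine ⟨((Scheme.Modules.pullback u).obj (PrinPart.P f n)).presheaf.map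
      (homOfLE (hle x')).op (pullSect u (PrinPart.P f n) (U x') (PrinPart.dn f n (U x') b)), ?_⟩
    rw [PullTrack.app_res φ (hle x'), hφ (U x') b]
    have h1 : (u.appLE (U x') (U' x') (hle x')).hom b =
        (X'.presheaf.map (homOfLE (hle x')).op).hom ((u.app (U x')).hom b) := rfl
    rw [h1, dn_map]
  | zero => exact ⟨0, map_zero _⟩
  | add x y _ _ hx hy =>
    obtain ⟨x₀, hx₀⟩ := hx
    obtain ⟨y₀, hy₀⟩ := hy
    exact ⟨x₀ + y₀, by rw [map_add, hx₀, hy₀]⟩
  | smul a x _ hx =>
    obtain ⟨x₀, hx₀⟩ := hx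
    exact ⟨a • x₀, by rw [Scheme.Modules.Hom.app_smul, hx₀]⟩

end Epi

end Groth.Agent.H39.PrinPartGen
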