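import Groth.Agent.H39.PrinPartGen

/-!
# Local structure of the thickened diagonal: kernel of the comorphism over `U ×_S U`
-/

set_option autoImplicit false
set_option linter.style.haveILetI false
universe u
open CategoryTheory CategoryTheory.Limits AlgebraicGeometry Opposite OmegaSh TopologicalSpace
open scoped TensorProduct

namespace Groth.Agent.H39.PrinPartLocal

open Groth.Agent.H39.PrinPartGen

/-- An open over which an immersion restricts to a closed immersion lies in the coborder of the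
range. -/
theorem le_coborderRange_of_isClosedImmersion {Y P : Scheme.{u}} (g : Y ⟶ P) [IsImmersion g]
    (T : P.Opens) [IsClosedImmersion (g ∣_ T)] : T ≤ g.coborderRange := by
  intro z hz
  have h1 : IsClosed (Set.range (g ∣_ T)) := (g ∣_ T).isClosedEmbedding.isClosed_range
  obtain ⟨C, hC, hCeq⟩ := (T.ι.isOpenEmbedding.isInducing.isClosed_iff).mp h1
  show z ∈ coborder (Set.range g)
  rw [coborder_eq_union_closure_compl]
  by_cases hzc : z ∈ closure (Set.range g)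
  · left
    have h2 : z ∈ closure ((T : Set P) ∩ Set.range g) := T.isOpen.inter_closure ⟨hz, hzc⟩
    have h3 : ((T : Set P) ∩ Set.range g) ⊆ C := by
      rintro w ⟨hwT, hwr⟩
      have h4 : (⟨w, hwT⟩ : T) ∈ Set.range (g ∣_ T) :=
        (mem_range_morphismRestrict g T ⟨w, hwT⟩).mpr hwr
      rw [← hCeq] at h4
      exact h4
    have h5 : z ∈ C := (closure_minimal h3 hC) h2
    have h6 : (⟨z, hz⟩ : T) ∈ Set.range (g ∣_ T) := by
      rw [← hCeq]; exact h5
    exact (mem_range_morphismRestrict g T ⟨z, hz⟩).mp h6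
  · right
    exact hzc

variable {X S : Scheme.{u}} (f : X ⟶ S) (n : ℕ)

/-- `U ×_S U` lies in the open subset where the diagonal is closed. -/
theorem le_coborderRange {U : X.Opens} (hU : IsAffineOpen U)
    (hT : IsAffineOpen (pullback.fst f f ⁻¹ᵁ U ⊓ pullback.snd f f ⁻¹ᵁ U)) :
    pullback.fst f f ⁻¹ᵁ U ⊓ pullback.snd f f ⁻¹ᵁ U ≤ (pullback.diagonal f).coborderRange := by
  have hDT := diagonal_preimage f U
  haveI hD : IsClosedImmersion (pullback.diagonal f ∣_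
      (pullback.fst f f ⁻¹ᵁ U ⊓ pullback.snd f f ⁻¹ᵁ U)) :=
    isClosedImmersion_morphismRestrict _ hT (hDT.symm ▸ hU) (diagonal_app_surjective f U)
  exact le_coborderRange_of_isClosedImmersion _ _

theorem eq_zero_of_map_eqToHom {Y : Scheme.{u}} {A B : Y.Opens} (h : A = B) (x : Γ(Y, B))
    (hx : (Y.presheaf.map (eqToHom h).op).hom x = 0) : x = 0 := by
  subst h
  simpa using hx

/-- The comap of a power of an ideal along a bijective ring homomorphism. -/
theorem comap_pow_of_bijective {R S : Type*} [CommRing R] [CommRing S] (φ : R →+* S)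
    (hφ : Function.Bijective φ) (J : Ideal S) (k : ℕ) :
    Ideal.comap φ (J ^ k) = (Ideal.comap φ J) ^ k := by
  have h1 : ∀ K : Ideal S, Ideal.comap φ K =
      Ideal.map (RingEquiv.ofBijective φ hφ).symm K := by
    intro K
    rw [Ideal.map_symm]
    rfl
  rw [h1, h1, Ideal.map_pow]

set_option maxHeartbeats 1000000 in
/-- The kernel of `Γ(U ×_S U) → Γ(thickened diagonal)` is the `(n+1)`-st power of the kernel of
`Γ(U ×_S U) → Γ(U)`. -/
theorem ker_nbhdι_app {U : X.Opens} (hU : IsAffineOpen U)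
    (hT : IsAffineOpen (pullback.fst f f ⁻¹ᵁ U ⊓ pullback.snd f f ⁻¹ᵁ U)) :
    RingHom.ker ((PrinPart.nbhdι f n).app
        (pullback.fst f f ⁻¹ᵁ U ⊓ pullback.snd f f ⁻¹ᵁ U)).hom =
      (RingHom.ker ((pullback.diagonal f).app
        (pullback.fst f f ⁻¹ᵁ U ⊓ pullback.snd f f ⁻¹ᵁ U)).hom) ^ (n + 1) := by
  have hle := le_coborderRange f hU hT
  have hle' : pullback.fst f f ⁻¹ᵁ U ⊓ pullback.snd f f ⁻¹ᵁ U ≤
      (pullback.diagonal f).coborderRange.ι.opensRange := by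
    rw [Scheme.Opens.opensRange_ι]; exact hle
  haveI hiso : IsIso ((pullback.diagonal f).coborderRange.ι.app
      (pullback.fst f f ⁻¹ᵁ U ⊓ pullback.snd f f ⁻¹ᵁ U)) :=
    Scheme.Hom.isIso_app _ _ hle'
  have hT' : IsAffineOpen ((pullback.diagonal f).coborderRange.ι ⁻¹ᵁ
      (pullback.fst f f ⁻¹ᵁ U ⊓ pullback.snd f f ⁻¹ᵁ U)) :=
    hT.preimage_of_isOpenImmersion _ hle'
  have hbij := ConcreteCategory.bijective_of_isIso ((pullback.diagonal f).coborderRange.ι.app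
      (pullback.fst f f ⁻¹ᵁ U ⊓ pullback.snd f f ⁻¹ᵁ U))
  -- the kernel of the closed immersion part
  have hk1 : RingHom.ker ((PrinPart.infNbhdι (PrinPart.diagCl f) n).app
      ((pullback.diagonal f).coborderRange.ι ⁻¹ᵁ
        (pullback.fst f f ⁻¹ᵁ U ⊓ pullback.snd f f ⁻¹ᵁ U))).hom =
      (RingHom.ker ((PrinPart.diagCl f).app ((pullback.diagonal f).coborderRange.ι ⁻¹ᵁ
        (pullback.fst f f ⁻¹ᵁ U ⊓ pullback.snd f f ⁻¹ᵁ U))).hom) ^ (n + 1) := by
    have h1 := Scheme.IdealSheafData.ker_subschemeι_app ((PrinPart.diagCl f).ker ^ (n + 1))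
      ⟨_, hT'⟩
    have h2 : ((PrinPart.diagCl f).ker ^ (n + 1)).ideal ⟨_, hT'⟩ =
        ((PrinPart.diagCl f).ker.ideal ⟨_, hT'⟩) ^ (n + 1) := rfl
    rw [h2, Scheme.Hom.ker_apply] at h1
    exact h1
  -- decompose the two comorphisms
  have hc1 : ((PrinPart.nbhdι f n).app
      (pullback.fst f f ⁻¹ᵁ U ⊓ pullback.snd f f ⁻¹ᵁ U)).hom =
      ((PrinPart.infNbhdι (PrinPart.diagCl f) n).app ((pullback.diagonal f).coborderRange.ι ⁻¹ᵁ
        (pullback.fst f f ⁻¹ᵁ U ⊓ pullback.snd f f ⁻¹ᵁ U))).hom.comp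
      ((pullback.diagonal f).coborderRange.ι.app
        (pullback.fst f f ⁻¹ᵁ U ⊓ pullback.snd f f ⁻¹ᵁ U)).hom := rfl
  have hk2 : RingHom.ker ((pullback.diagonal f).app
      (pullback.fst f f ⁻¹ᵁ U ⊓ pullback.snd f f ⁻¹ᵁ U)).hom =
      Ideal.comap ((pullback.diagonal f).coborderRange.ι.app
        (pullback.fst f f ⁻¹ᵁ U ⊓ pullback.snd f f ⁻¹ᵁ U)).hom
        (RingHom.ker ((PrinPart.diagCl f).app ((pullback.diagonal f).coborderRange.ι ⁻¹ᵁ
          (pullback.fst f f ⁻¹ᵁ U ⊓ pullback.snd f f ⁻¹ᵁ U))).hom) := by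
    have h3 := Scheme.Hom.congr_app (Scheme.Hom.liftCoborder_ι (pullback.diagonal f))
      (pullback.fst f f ⁻¹ᵁ U ⊓ pullback.snd f f ⁻¹ᵁ U)
    rw [Scheme.Hom.comp_app] at h3
    ext z
    rw [RingHom.mem_ker, Ideal.mem_comap, RingHom.mem_ker]
    have h4 := congr($h3 z)
    rw [CommRingCat.comp_apply, CommRingCat.comp_apply] at h4
    constructor
    · intro hz
      exact h4.trans (by rw [hz]; exact map_zero _)
    · intro hz
      have h5 : (X.presheaf.map (eqToHom _).op).hom (((pullback.diagonal f).app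
          (pullback.fst f f ⁻¹ᵁ U ⊓ pullback.snd f f ⁻¹ᵁ U)).hom z) = 0 := h4.symm.trans hz
      exact eq_zero_of_map_eqToHom _ _ h5
  ext z
  have e1 : z ∈ RingHom.ker ((PrinPart.nbhdι f n).app
      (pullback.fst f f ⁻¹ᵁ U ⊓ pullback.snd f f ⁻¹ᵁ U)).hom ↔
      ((pullback.diagonal f).coborderRange.ι.app
        (pullback.fst f f ⁻¹ᵁ U ⊓ pullback.snd f f ⁻¹ᵁ U)).hom z ∈
      RingHom.ker ((PrinPart.infNbhdι (PrinPart.diagCl f) n).app
        ((pullback.diagonal f).coborderRange.ι ⁻¹ᵁ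
          (pullback.fst f f ⁻¹ᵁ U ⊓ pullback.snd f f ⁻¹ᵁ U))).hom := by
    rw [RingHom.mem_ker, RingHom.mem_ker]
    rfl
  rw [e1, hk1, ← Ideal.mem_comap, comap_pow_of_bijective _ hbij, ← hk2]

theorem diagonal_app_fst (U : X.Opens) (a : Γ(X, U)) :
    ((pullback.diagonal f).app (pullback.fst f f ⁻¹ᵁ U ⊓ pullback.snd f f ⁻¹ᵁ U)).hom
      (((pullback.fst f f).appLE U (pullback.fst f f ⁻¹ᵁ U ⊓ pullback.snd f f ⁻¹ᵁ U)
        inf_le_left).hom a) =
      (X.presheaf.map (homOfLE (diagonal_preimage f U).le).op).hom a := by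
  have h1 := congr($(Scheme.Hom.appLE_comp_appLE (pullback.diagonal f) (pullback.fst f f) U
    (pullback.fst f f ⁻¹ᵁ U ⊓ pullback.snd f f ⁻¹ᵁ U)
    (pullback.diagonal f ⁻¹ᵁ (pullback.fst f f ⁻¹ᵁ U ⊓ pullback.snd f f ⁻¹ᵁ U))
    inf_le_left le_rfl) a)
  rw [Scheme.Hom.appLE_eq_app] at h1
  refine h1.trans ?_
  rw [ConormalSplit.appLE_congr_hom (pullback.diagonal_fst f)]
  rfl

theorem diagonal_app_snd (U : X.Opens) (a : Γ(X, U)) :
    ((pullback.diagonal f).app (pullback.fst f f ⁻¹ᵁ U ⊓ pullback.snd f f ⁻¹ᵁ U)).hom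
      (((pullback.snd f f).appLE U (pullback.fst f f ⁻¹ᵁ U ⊓ pullback.snd f f ⁻¹ᵁ U)
        inf_le_right).hom a) =
      (X.presheaf.map (homOfLE (diagonal_preimage f U).le).op).hom a := by
  have h1 := congr($(Scheme.Hom.appLE_comp_appLE (pullback.diagonal f) (pullback.snd f f) U
    (pullback.fst f f ⁻¹ᵁ U ⊓ pullback.snd f f ⁻¹ᵁ U)
    (pullback.diagonal f ⁻¹ᵁ (pullback.fst f f ⁻¹ᵁ U ⊓ pullback.snd f f ⁻¹ᵁ U))
    inf_le_right le_rfl) a)
  rw [Scheme.Hom.appLE_eq_app] at h1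
  refine h1.trans ?_
  rw [ConormalSplit.appLE_congr_hom (pullback.diagonal_snd f)]
  rfl

set_option maxHeartbeats 1600000 in
/-- **Local structure of `P^n`.** Over an affine `U` of `X` lying over an affine of `S`, the
sections of `P^n_{X/S}` over `U` are the quotient of `Γ(U ×_S U)` by the `(n+1)`-st power of the
ideal of the diagonal, with `fst♯ a * snd♯ b ↦ a • d^n b`. -/
theorem exists_structure {U : X.Opens} (hU : IsAffineOpen U) {V : S.Opens} (hV : IsAffineOpen V)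
    (hUV : U ≤ f ⁻¹ᵁ V) :
    ∃ Φ : Γ(pullback f f, pullback.fst f f ⁻¹ᵁ U ⊓ pullback.snd f f ⁻¹ᵁ U) →+
        Γ(PrinPart.P f n, U),
      Function.Surjective Φ ∧
      (∀ a b : Γ(X, U),
        Φ (((pullback.fst f f).appLE U (pullback.fst f f ⁻¹ᵁ U ⊓ pullback.snd f f ⁻¹ᵁ U)
            inf_le_left).hom a *
          ((pullback.snd f f).appLE U (pullback.fst f f ⁻¹ᵁ U ⊓ pullback.snd f f ⁻¹ᵁ U)
            inf_le_right).hom b) = a • PrinPart.dn f n U b) ∧
      ∀ z, Φ z = 0 ↔ z ∈ (RingHom.ker ((pullback.diagonal f).app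
        (pullback.fst f f ⁻¹ᵁ U ⊓ pullback.snd f f ⁻¹ᵁ U)).hom) ^ (n + 1) := by
  have H : IsPullback (pullback.fst f f) (pullback.snd f f) f f := IsPullback.of_hasPullback f f
  haveI : IsAffine U.toScheme := hU
  haveI : IsAffine V.toScheme := hV
  have hT : IsAffineOpen (pullback.fst f f ⁻¹ᵁ U ⊓ pullback.snd f f ⁻¹ᵁ U) :=
    .of_isIso (Scheme.Hom.isPullback_resLE H hUV hUV rfl).isoPullback.hom
  have hsurj := nbhdι_app_surjective f n hU hT
  have hker := ker_nbhdι_app f n hU hT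
  letI : Algebra Γ(X, U) Γ(PrinPart.nbhd f n, PrinPart.pr1 f n ⁻¹ᵁ U) :=
    ((PrinPart.pr1 f n).app U).hom.toAlgebra
  obtain ⟨E, hE⟩ := exists_sections_P_equiv_dn f n U
  have hle1 : PrinPart.nbhdι f n ⁻¹ᵁ (pullback.fst f f ⁻¹ᵁ U ⊓ pullback.snd f f ⁻¹ᵁ U) ≤
      PrinPart.pr1 f n ⁻¹ᵁ U := fun z hz => hz.1
  have hle2 : PrinPart.pr1 f n ⁻¹ᵁ U ≤
      PrinPart.nbhdι f n ⁻¹ᵁ (pullback.fst f f ⁻¹ᵁ U ⊓ pullback.snd f f ⁻¹ᵁ U) := by
    intro z hz
    exact ⟨hz, (PrinPart.preimage_pr1 f n U).le hz⟩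
  have h12 : ∀ w, ((PrinPart.nbhd f n).presheaf.map (homOfLE hle2).op).hom
      (((PrinPart.nbhd f n).presheaf.map (homOfLE hle1).op).hom w) = w := by
    intro w
    rw [← CommRingCat.comp_apply, ← Functor.map_comp]
    have h8 : (homOfLE hle1).op ≫ (homOfLE hle2).op = 𝟙 (op (PrinPart.pr1 f n ⁻¹ᵁ U)) :=
      Subsingleton.elim _ _
    rw [h8, (PrinPart.nbhd f n).presheaf.map_id]
    rfl
  have h21 : ∀ w, ((PrinPart.nbhd f n).presheaf.map (homOfLE hle1).op).hom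
      (((PrinPart.nbhd f n).presheaf.map (homOfLE hle2).op).hom w) = w := by
    intro w
    rw [← CommRingCat.comp_apply, ← Functor.map_comp]
    have h8 : (homOfLE hle2).op ≫ (homOfLE hle1).op = 𝟙 (op (PrinPart.nbhdι f n ⁻¹ᵁ
        (pullback.fst f f ⁻¹ᵁ U ⊓ pullback.snd f f ⁻¹ᵁ U))) := Subsingleton.elim _ _
    rw [h8, (PrinPart.nbhd f n).presheaf.map_id]
    rfl
  let Φ : Γ(pullback f f, pullback.fst f f ⁻¹ᵁ U ⊓ pullback.snd f f ⁻¹ᵁ U) →+
      Γ(PrinPart.P f n, U) :=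
    (E.symm.toLinearMap.toAddMonoidHom.comp
      ((PrinPart.nbhd f n).presheaf.map (homOfLE hle2).op).hom.toAddMonoidHom).comp
      ((PrinPart.nbhdι f n).app _).hom.toAddMonoidHom
  have hΦ : ∀ z, Φ z = E.symm (((PrinPart.nbhd f n).presheaf.map (homOfLE hle2).op).hom
      (((PrinPart.nbhdι f n).app _).hom z)) := fun z => rfl
  refine ⟨Φ, ?_, ?_, ?_⟩
  · intro m
    obtain ⟨z, hz⟩ := hsurj (((PrinPart.nbhd f n).presheaf.map (homOfLE hle1).op).hom (E m))
    refine ⟨z, ?_⟩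
    rw [hΦ, hz, h12, E.symm_apply_apply]
  · intro a b
    have h1 : ((PrinPart.nbhd f n).presheaf.map (homOfLE hle2).op).hom
        (((PrinPart.nbhdι f n).app _).hom
          ((pullback.fst f f).appLE U (pullback.fst f f ⁻¹ᵁ U ⊓ pullback.snd f f ⁻¹ᵁ U)
            inf_le_left a)) = ((PrinPart.pr1 f n).app U).hom a := by
      have h2 := congr($(Scheme.Hom.appLE_comp_appLE (PrinPart.nbhdι f n) (pullback.fst f f) U
        (pullback.fst f f ⁻¹ᵁ U ⊓ pullback.snd f f ⁻¹ᵁ U)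
        (PrinPart.nbhdι f n ⁻¹ᵁ (pullback.fst f f ⁻¹ᵁ U ⊓ pullback.snd f f ⁻¹ᵁ U))
        inf_le_left le_rfl) a)
      rw [Scheme.Hom.appLE_eq_app] at h2
      have h3 := congr($(Scheme.Hom.appLE_map (PrinPart.nbhdι f n ≫ pullback.fst f f)
        (U := U) (V := PrinPart.nbhdι f n ⁻¹ᵁ (pullback.fst f f ⁻¹ᵁ U ⊓ pullback.snd f f ⁻¹ᵁ U))
        (fun z hz => hz.1) (homOfLE hle2).op) a)
      have h4 : ((PrinPart.pr1 f n).app U).hom a =
          ((PrinPart.nbhdι f n ≫ pullback.fst f f).appLE U (PrinPart.pr1 f n ⁻¹ᵁ U)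
            le_rfl).hom a := by
        have h5 : (PrinPart.pr1 f n).app U = (PrinPart.pr1 f n).appLE U _ le_rfl :=
          Scheme.Hom.app_eq_appLE _
        exact congr($h5 a)
      rw [h4]
      exact (congrArg _ h2).trans h3
    have h1' : ((PrinPart.nbhd f n).presheaf.map (homOfLE hle2).op).hom
        (((PrinPart.nbhdι f n).app _).hom
          ((pullback.snd f f).appLE U (pullback.fst f f ⁻¹ᵁ U ⊓ pullback.snd f f ⁻¹ᵁ U)
            inf_le_right b)) =
        ((PrinPart.pr2 f n).appLE U (PrinPart.pr1 f n ⁻¹ᵁ U)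
          (PrinPart.preimage_pr1 f n U).le).hom b := by
      have h2 := congr($(Scheme.Hom.appLE_comp_appLE (PrinPart.nbhdι f n) (pullback.snd f f) U
        (pullback.fst f f ⁻¹ᵁ U ⊓ pullback.snd f f ⁻¹ᵁ U)
        (PrinPart.nbhdι f n ⁻¹ᵁ (pullback.fst f f ⁻¹ᵁ U ⊓ pullback.snd f f ⁻¹ᵁ U))
        inf_le_right le_rfl) b)
      rw [Scheme.Hom.appLE_eq_app] at h2
      have h3 := congr($(Scheme.Hom.appLE_map (PrinPart.nbhdι f n ≫ pullback.snd f f)
        (U := U) (V := PrinPart.nbhdι f n ⁻¹ᵁ (pullback.fst f f ⁻¹ᵁ U ⊓ pullback.snd f f ⁻¹ᵁ U))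
        (fun z hz => hz.2) (homOfLE hle2).op) b)
      exact (congrArg _ h2).trans h3
    rw [hΦ, map_mul, map_mul]
    erw [h1, h1']
    have h5 : ((PrinPart.pr1 f n).app U).hom a *
        ((PrinPart.pr2 f n).appLE U (PrinPart.pr1 f n ⁻¹ᵁ U)
          (PrinPart.preimage_pr1 f n U).le).hom b = a • E (PrinPart.dn f n U b) := by
      rw [hE, Algebra.smul_def]
      rfl
    rw [h5, ← map_smul, E.symm_apply_apply]
  · intro z
    rw [← hker, RingHom.mem_ker, hΦ]
    constructor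
    · intro hz
      have h1 := E.symm.injective (hz.trans (map_zero E.symm).symm)
      have h2 := congrArg ((PrinPart.nbhd f n).presheaf.map (homOfLE hle1).op).hom h1
      rw [h21, map_zero] at h2
      exact h2
    · intro hz
      rw [hz, map_zero, map_zero]

end Groth.Agent.H39.PrinPartLocal
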