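import Groth.Agent.H39.PrinPartLocal

/-!
# First-order principal parts: the ideal of the diagonal has square zero
-/

set_option autoImplicit false
set_option linter.style.haveILetI false
universe u
open CategoryTheory CategoryTheory.Limits AlgebraicGeometry Opposite OmegaSh TopologicalSpace

namespace Groth.Agent.H39.PrinPartOne

open Groth.Agent.H39.PrinPartGen Groth.Agent.H39.PrinPartLocal

section Square

variable {Y Z : Scheme.{u}} (i : Y ⟶ Z) [IsClosedImmersion i]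

omit [IsClosedImmersion i] in
theorem app_eq_zero_of_factor {A B C : Scheme.{u}} (g : A ⟶ B) (h : B ⟶ C) (j : A ⟶ C)
    (e : g ≫ h = j) (W : B.Opens) (T' : C.Opens) (hle : h ⁻¹ᵁ T' ≤ W)
    (x : Γ(B, W)) (x' : Γ(C, T'))
    (hx : (g.app W).hom x = 0)
    (hx' : (h.app T').hom x' = (B.presheaf.map (homOfLE hle).op).hom x) :
    (j.app T').hom x' = 0 := by
  subst e
  have h3 := congr($(g.naturality (homOfLE hle).op) x)
  rw [CommRingCat.comp_apply, CommRingCat.comp_apply] at h3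
  show (g.app (h ⁻¹ᵁ T')).hom ((h.app T').hom x') = 0
  rw [hx']
  refine h3.trans ?_
  rw [show (ConcreteCategory.hom (g.app W)) x = 0 from hx]
  exact map_zero (A.presheaf.map _).hom

theorem mem_ker_of_lift (W : (PrinPart.infNbhd i 1).Opens) (T' : Z.Opens) (hT' : T' ∈ Z.affineOpens)
    (hle : PrinPart.infNbhdι i 1 ⁻¹ᵁ T' ≤ W)
    (x : Γ(PrinPart.infNbhd i 1, W)) (x' : Γ(Z, T'))
    (hx : ((PrinPart.toInfNbhd i 1).app W).hom x = 0)
    (hx' : ((PrinPart.infNbhdι i 1).app T').hom x' =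
        ((PrinPart.infNbhd i 1).presheaf.map (homOfLE hle).op).hom x) :
    x' ∈ i.ker.ideal ⟨T', hT'⟩ := by
  rw [Scheme.Hom.ker_apply, RingHom.mem_ker]
  exact app_eq_zero_of_factor _ _ _ (PrinPart.toInfNbhd_ι i 1) W T' hle x x' hx hx'

omit [IsClosedImmersion i] in
theorem map_mul_eq_zero_of_mem (T' : Z.Opens) (hT' : T' ∈ Z.affineOpens)
    (x' y' : Γ(Z, T')) (hx : x' ∈ i.ker.ideal ⟨T', hT'⟩) (hy : y' ∈ i.ker.ideal ⟨T', hT'⟩) :
    ((PrinPart.infNbhdι i 1).app T').hom (x' * y') = 0 := by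
  have hxy : x' * y' ∈ (i.ker ^ (1 + 1)).ideal ⟨T', hT'⟩ := by
    rw [Scheme.IdealSheafData.ideal_pow, Pi.pow_apply, pow_succ, pow_one]
    exact Ideal.mul_mem_mul hx hy
  rw [← Scheme.IdealSheafData.ker_subschemeι_app, RingHom.mem_ker] at hxy
  exact hxy

/-- On the first infinitesimal neighbourhood, the product of two functions vanishing on `Y`
is zero (locally). -/
theorem exists_res_mul_eq_zero (W : (PrinPart.infNbhd i 1).Opens)
    (x y : Γ(PrinPart.infNbhd i 1, W))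
    (hx : ((PrinPart.toInfNbhd i 1).app W).hom x = 0)
    (hy : ((PrinPart.toInfNbhd i 1).app W).hom y = 0) (w : PrinPart.infNbhd i 1) (hw : w ∈ W) :
    ∃ (W' : (PrinPart.infNbhd i 1).Opens) (hle : W' ≤ W), w ∈ W' ∧
      ((PrinPart.infNbhd i 1).presheaf.map (homOfLE hle).op).hom (x * y) = 0 := by
  haveI hι : IsClosedImmersion (PrinPart.infNbhdι i 1) := by
    rw [PrinPart.infNbhdι]; infer_instance
  obtain ⟨O, hO, hOW⟩ := ((PrinPart.infNbhdι i 1).isClosedEmbedding.isInducing.isOpen_iff).mp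
    W.isOpen
  have hwO : PrinPart.infNbhdι i 1 w ∈ (⟨O, hO⟩ : Z.Opens) := by
    have : w ∈ (PrinPart.infNbhdι i 1) ⁻¹' O := by rw [hOW]; exact hw
    exact this
  obtain ⟨T', hT', hwT', hT'O⟩ := (Opens.isBasis_iff_nbhd.mp Z.isBasis_affineOpens) hwO
  have hle : PrinPart.infNbhdι i 1 ⁻¹ᵁ T' ≤ W := by
    intro z hz
    have h1 : z ∈ (PrinPart.infNbhdι i 1) ⁻¹' O := hT'O hz
    rw [hOW] at h1
    exact h1
  refine ⟨PrinPart.infNbhdι i 1 ⁻¹ᵁ T', hle, hwT', ?_⟩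
  -- lifts
  obtain ⟨x', hx'⟩ := (PrinPart.infNbhdι i 1).app_surjective T' hT'
    (((PrinPart.infNbhd i 1).presheaf.map (homOfLE hle).op).hom x)
  obtain ⟨y', hy'⟩ := (PrinPart.infNbhdι i 1).app_surjective T' hT'
    (((PrinPart.infNbhd i 1).presheaf.map (homOfLE hle).op).hom y)
  have hx'' := mem_ker_of_lift i W T' hT' hle x x' hx hx'
  have hy'' := mem_ker_of_lift i W T' hT' hle y y' hy hy'
  have hxy := map_mul_eq_zero_of_mem i T' hT' x' y' hx'' hy''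
  rw [map_mul, ← hx', ← hy', ← map_mul]
  exact hxy

/-- On the first infinitesimal neighbourhood, the product of two functions vanishing on `Y`
is zero. -/
theorem mul_eq_zero_of_toInfNbhd (W : (PrinPart.infNbhd i 1).Opens)
    (x y : Γ(PrinPart.infNbhd i 1, W))
    (hx : ((PrinPart.toInfNbhd i 1).app W).hom x = 0)
    (hy : ((PrinPart.toInfNbhd i 1).app W).hom y = 0) : x * y = 0 := by
  choose W' hle hw hz using fun w : W => exists_res_mul_eq_zero i W x y hx hy w.1 w.2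
  refine TopCat.Sheaf.eq_of_locally_eq' (PrinPart.infNbhd i 1).sheaf W' W
    (fun w => homOfLE (hle w)) ?_ (x * y) 0 (fun w => ?_)
  · intro z hz'
    exact Opens.mem_iSup.mpr ⟨⟨z, hz'⟩, hw ⟨z, hz'⟩⟩
  · refine (hz w).trans ?_
    exact (map_zero ((PrinPart.infNbhd i 1).presheaf.map (homOfLE (hle w)).op).hom).symm

end Square

section Diag

theorem appLE_of_eq {A B : Scheme.{u}} {g h : A ⟶ B} (e : g = h) (U : B.Opens) (V : A.Opens)
    (hV : V ≤ g ⁻¹ᵁ U) : g.appLE U V hV = h.appLE U V (by subst e; exact hV) := by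
  subst e; rfl

theorem app_section_eq {A B : Scheme.{u}} (σ : B ⟶ A) (p q : A ⟶ B) (hp : σ ≫ p = 𝟙 B)
    (hq : σ ≫ q = 𝟙 B) (U : B.Opens) (e : p ⁻¹ᵁ U ≤ q ⁻¹ᵁ U) (s : Γ(B, U)) :
    (σ.app (p ⁻¹ᵁ U)).hom ((q.appLE U (p ⁻¹ᵁ U) e).hom s) =
      (σ.app (p ⁻¹ᵁ U)).hom ((p.app U).hom s) := by
  have h1 : q.appLE U (p ⁻¹ᵁ U) e ≫ σ.app (p ⁻¹ᵁ U) = p.app U ≫ σ.app (p ⁻¹ᵁ U) := by
    rw [Scheme.Hom.app_eq_appLE σ, Scheme.Hom.app_eq_appLE p,
      Scheme.Hom.appLE_comp_appLE, Scheme.Hom.appLE_comp_appLE]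
    rw [appLE_of_eq hp, appLE_of_eq hq]
  exact congr($h1 s)

variable {X S : Scheme.{u}} (f : X ⟶ S) (n : ℕ)

/-- `pr1♯ s` and `pr2♯ s` agree after restriction to the diagonal. -/
theorem toNbhd_app_pr2_eq (U : X.Opens) (s : Γ(X, U)) :
    ((PrinPart.toNbhd f n).app (PrinPart.pr1 f n ⁻¹ᵁ U)).hom
      (((PrinPart.pr2 f n).appLE U (PrinPart.pr1 f n ⁻¹ᵁ U)
        (PrinPart.preimage_pr1 f n U).le).hom s) =
    ((PrinPart.toNbhd f n).app (PrinPart.pr1 f n ⁻¹ᵁ U)).hom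
      (((PrinPart.pr1 f n).app U).hom s) :=
  app_section_eq (PrinPart.toNbhd f n) (PrinPart.pr1 f n) (PrinPart.pr2 f n)
    (PrinPart.toNbhd_pr1 f n) (PrinPart.toNbhd_pr2 f n) U _ s

theorem leibniz_of_sq_zero {R A : Type*} [CommRing R] [CommRing A] (α β : R →+* A) (s t : R)
    (h : (β s - α s) * (β t - α t) = 0) :
    β (s * t) + α (s * t) * β 1 = α s * β t + α t * β s := by
  rw [map_mul, map_mul, map_one, mul_one]; linear_combination h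

set_option maxHeartbeats 1000000 in
/-- The Leibniz rule for `d^1`. -/
theorem dn_mul (U : X.Opens) (s t : Γ(X, U)) :
    PrinPart.dn f 1 U (s * t) + (s * t) • PrinPart.dn f 1 U 1 =
      s • PrinPart.dn f 1 U t + t • PrinPart.dn f 1 U s := by
  letI : Algebra Γ(X, U) Γ(PrinPart.nbhd f 1, PrinPart.pr1 f 1 ⁻¹ᵁ U) :=
      ((PrinPart.pr1 f 1).app U).hom.toAlgebra
  obtain ⟨E, hE⟩ := exists_sections_P_equiv_dn f 1 U
  apply E.injective
  rw [map_add, map_add, map_smul, map_smul, map_smul, hE, hE, hE, hE]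
  have h := mul_eq_zero_of_toInfNbhd (PrinPart.diagCl f) (PrinPart.pr1 f 1 ⁻¹ᵁ U)
    (((PrinPart.pr2 f 1).appLE U (PrinPart.pr1 f 1 ⁻¹ᵁ U)
        (PrinPart.preimage_pr1 f 1 U).le).hom s - ((PrinPart.pr1 f 1).app U).hom s)
    (((PrinPart.pr2 f 1).appLE U (PrinPart.pr1 f 1 ⁻¹ᵁ U)
        (PrinPart.preimage_pr1 f 1 U).le).hom t - ((PrinPart.pr1 f 1).app U).hom t)
    (by rw [map_sub, sub_eq_zero]; exact toNbhd_app_pr2_eq f 1 U s)
    (by rw [map_sub, sub_eq_zero]; exact toNbhd_app_pr2_eq f 1 U t)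
  exact leibniz_of_sq_zero ((PrinPart.pr1 f 1).app U).hom
    ((PrinPart.pr2 f 1).appLE U (PrinPart.pr1 f 1 ⁻¹ᵁ U) (PrinPart.preimage_pr1 f 1 U).le).hom s t h


theorem appLE_comp_eq {A B C : Scheme.{u}} (p q : A ⟶ B) (g : B ⟶ C) (h : p ≫ g = q ≫ g)
    (V : C.Opens) (e : p ⁻¹ᵁ (g ⁻¹ᵁ V) ≤ q ⁻¹ᵁ (g ⁻¹ᵁ V)) (r : Γ(C, V)) :
    (q.appLE (g ⁻¹ᵁ V) (p ⁻¹ᵁ (g ⁻¹ᵁ V)) e).hom ((g.app V).hom r) =
      (p.app (g ⁻¹ᵁ V)).hom ((g.app V).hom r) := by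
  have h1 : g.app V ≫ q.appLE (g ⁻¹ᵁ V) (p ⁻¹ᵁ (g ⁻¹ᵁ V)) e = g.app V ≫ p.app (g ⁻¹ᵁ V) := by
    rw [Scheme.Hom.app_eq_appLE g, Scheme.Hom.app_eq_appLE p,
      Scheme.Hom.appLE_comp_appLE, Scheme.Hom.appLE_comp_appLE]
    rw [appLE_of_eq h]
  exact congr($h1 r)

set_option maxHeartbeats 1000000 in
/-- `d^n` is linear over functions coming from the base. -/
theorem dn_base (V : S.Opens) (r : Γ(S, V)) :
    PrinPart.dn f n (f ⁻¹ᵁ V) ((f.app V).hom r) =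
      ((f.app V).hom r) • PrinPart.dn f n (f ⁻¹ᵁ V) 1 := by
  letI : Algebra Γ(X, f ⁻¹ᵁ V) Γ(PrinPart.nbhd f n, PrinPart.pr1 f n ⁻¹ᵁ (f ⁻¹ᵁ V)) :=
      ((PrinPart.pr1 f n).app (f ⁻¹ᵁ V)).hom.toAlgebra
  obtain ⟨E, hE⟩ := exists_sections_P_equiv_dn f n (f ⁻¹ᵁ V)
  apply E.injective
  rw [map_smul, hE, hE]
  have h := appLE_comp_eq (PrinPart.pr1 f n) (PrinPart.pr2 f n) f (PrinPart.pr1_comp f n) V
    (PrinPart.preimage_pr1 f n (f ⁻¹ᵁ V)).le r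
  refine h.trans ?_
  have h2 : ((PrinPart.pr2 f n).appLE (f ⁻¹ᵁ V) (PrinPart.pr1 f n ⁻¹ᵁ (f ⁻¹ᵁ V))
      (PrinPart.preimage_pr1 f n (f ⁻¹ᵁ V)).le).hom 1 = 1 := map_one _
  show _ = ((PrinPart.pr1 f n).app (f ⁻¹ᵁ V)).hom ((f.app V).hom r) * _
  erw [h2]
  rw [mul_one]

end Diag

end Groth.Agent.H39.PrinPartOne
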