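import Groth.Agent.H39.PullTrack

/-!
# Tracking pulled-back sections, part 2: restriction along open immersions
-/

set_option autoImplicit false
universe u
open CategoryTheory AlgebraicGeometry Opposite OmegaSh TopologicalSpace

namespace Groth.Agent.H39.PullTrack

variable {X Y Z : Scheme.{u}}

/-- `pullSect` along an open immersion, via Mathlib's restriction functor. -/
lemma restrictIsoPullback_hom_pullSect (j : Y ⟶ X) [IsOpenImmersion j] (N : X.Modules)
    (W : X.Opens) (x : Γ(N, W)) :
    ((Scheme.Modules.restrictFunctorIsoPullback j).hom.app N).app (j ⁻¹ᵁ W)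
        ((N.restrictAppIso j (j ⁻¹ᵁ W)).inv
          (N.presheaf.map (homOfLE (j.image_preimage_le W)).op x)) = pullSect j N W x := by
  have h1 := Adjunction.unit_leftAdjointUniq_hom_app (Scheme.Modules.restrictAdjunction j)
    (Scheme.Modules.pullbackPushforwardAdjunction j) N
  have h2 := congrArg (fun t => Scheme.Modules.Hom.app t W) h1
  simp only [Scheme.Modules.Hom.comp_app, Scheme.Modules.restrictAdjunction_unit_app_app,
    Scheme.Modules.pushforward_map_app] at h2
  exact congr($h2 x)

lemma restrictIsoPullback_hom_pullSectLE (j : Y ⟶ X) [IsOpenImmersion j] (N : X.Modules)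
    (W : X.Opens) (W' : Y.Opens) (hle : W' ≤ j ⁻¹ᵁ W) (x : Γ(N, W)) :
    ((Scheme.Modules.restrictFunctorIsoPullback j).hom.app N).app W'
        ((N.restrictAppIso j W').inv (N.presheaf.map (homOfLE (show j ''ᵁ W' ≤ W from
          (j.image_mono hle).trans (j.image_preimage_le W))).op x)) =
      pullSectLE j N W W' hle x := by
  rw [pullSectLE_apply, ← restrictIsoPullback_hom_pullSect]
  have hφ := app_res (M := N.restrict j)
    ((Scheme.Modules.restrictFunctorIsoPullback j).hom.app N) hle
    ((N.restrictAppIso j (j ⁻¹ᵁ W)).inv (N.presheaf.map (homOfLE (j.image_preimage_le W)).op x))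
  rw [← hφ]
  congr 1
  have h4 := Scheme.Modules.restrictAppIso_inv_map_apply j N (homOfLE hle).op
    (N.presheaf.map (homOfLE (j.image_preimage_le W)).op x)
  rw [h4, res_res]

lemma restrictIsoPullback_inv_pullSectLE (j : Y ⟶ X) [IsOpenImmersion j] (N : X.Modules)
    (W : X.Opens) (W' : Y.Opens) (hle : W' ≤ j ⁻¹ᵁ W) (x : Γ(N, W)) :
    ((Scheme.Modules.restrictFunctorIsoPullback j).inv.app N).app W' (pullSectLE j N W W' hle x) =
      (N.restrictAppIso j W').inv (N.presheaf.map (homOfLE (show j ''ᵁ W' ≤ W from
          (j.image_mono hle).trans (j.image_preimage_le W))).op x) := by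
  rw [← restrictIsoPullback_hom_pullSectLE]
  have h3 : (Scheme.Modules.restrictFunctorIsoPullback j).hom.app N ≫
      (Scheme.Modules.restrictFunctorIsoPullback j).inv.app N = 𝟙 _ :=
    (Scheme.Modules.restrictFunctorIsoPullback j).hom_inv_id_app N
  exact congrArg (fun t => (Scheme.Modules.Hom.app t W')
    ((N.restrictAppIso j W').inv (N.presheaf.map (homOfLE (show j ''ᵁ W' ≤ W from
          (j.image_mono hle).trans (j.image_preimage_le W))).op x))) h3

end Groth.Agent.H39.PullTrack
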