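import Groth.Agent.H39.PullTrack2

/-!
# Tracking pulled-back sections, part 3: tilde
-/

set_option autoImplicit false
universe u
open CategoryTheory AlgebraicGeometry Opposite OmegaSh TopologicalSpace

namespace Groth.Agent.H39.PullTrack

open Groth.Agent.S5947 (toΓ ofΓ toΓ_apply toΓ_ofΓ ofΓ_toΓ)

section Tilde

variable {R S : CommRingCat.{u}} (φ : R ⟶ S)

lemma pullbackTildeIso_hom_eq :
    (OmegaC.pullbackTildeIso φ).hom =
      (conjugateEquiv
        ((ModuleCat.extendRestrictScalarsAdj φ.hom).comp (tilde.adjunction (R := S)))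
        ((tilde.adjunction (R := R)).comp
          (Scheme.Modules.pullbackPushforwardAdjunction (Spec.map φ)))).symm
        (OmegaC.ΓpushIso φ).inv := rfl

lemma pullbackTildeIso_unit (M : ModuleCat.{u} R) :
    ((ModuleCat.extendRestrictScalarsAdj φ.hom).comp (tilde.adjunction (R := S))).unit.app M ≫
        (OmegaC.ΓpushIso φ).inv.app _ =
      ((tilde.adjunction (R := R)).comp
          (Scheme.Modules.pullbackPushforwardAdjunction (Spec.map φ))).unit.app M ≫
        (Scheme.Modules.pushforward (Spec.map φ) ⋙ moduleSpecΓFunctor (R := R)).map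
          ((OmegaC.pullbackTildeIso φ).hom.app M) := by
  rw [pullbackTildeIso_hom_eq]
  exact unit_conjugateEquiv_symm _ _ (OmegaC.ΓpushIso φ).inv M

/-- The pullback of `M~` along `Spec φ` is `(S ⊗ M)~`, and `pullSect (m)` corresponds to `1 ⊗ m`. -/
lemma pullbackTildeIso_hom_pullSect (M : ModuleCat.{u} R) (m : M) :
    ((OmegaC.pullbackTildeIso φ).hom.app M).app ⊤
        (pullSect (Spec.map φ) (tilde M) ⊤ (toΓ M m)) =
      toΓ ((ModuleCat.extendScalars φ.hom).obj M)
        ((ModuleCat.extendRestrictScalarsAdj φ.hom).unit.app M m) := by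
  have h := pullbackTildeIso_unit φ M
  have h2 := congr($h m)
  exact h2.symm

lemma pullSectLE_top (M : (Spec R).Modules) (hle : (⊤ : (Spec S).Opens) ≤ Spec.map φ ⁻¹ᵁ ⊤)
    (y : Γ(M, ⊤)) : pullSectLE (Spec.map φ) M ⊤ ⊤ hle y = pullSect (Spec.map φ) M ⊤ y := by
  rw [pullSectLE_apply]
  exact res_self _ hle _

lemma pullbackTildeIso_hom_pullSectLE (M : ModuleCat.{u} R) (m : M)
    (hle : (⊤ : (Spec S).Opens) ≤ Spec.map φ ⁻¹ᵁ ⊤) :
    ((OmegaC.pullbackTildeIso φ).hom.app M).app ⊤
        (pullSectLE (Spec.map φ) (tilde M) ⊤ ⊤ hle (toΓ M m)) =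
      toΓ ((ModuleCat.extendScalars φ.hom).obj M)
        ((ModuleCat.extendRestrictScalarsAdj φ.hom).unit.app M m) := by
  rw [pullSectLE_top]
  exact pullbackTildeIso_hom_pullSect φ M m

/-- The counit of the tilde–Γ adjunction on global sections. -/
lemma fromTildeΓ_app_top (N : (Spec R).Modules) (n : (moduleSpecΓFunctor (R := R)).obj N) :
    (N.fromTildeΓ).app ⊤ (toΓ ((moduleSpecΓFunctor (R := R)).obj N) n) = n := by
  have h := (tilde.adjunction (R := R)).right_triangle_components N
  exact congr($h n)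

end Tilde

end Groth.Agent.H39.PullTrack
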