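import Groth.Agent.H39.PullTrack3
import Groth.Agent.H8.PullbackSections

/-!
# Tracking pulled-back sections, part 4: helper8's `pullbackRestrictIso`
-/

set_option autoImplicit false
universe u
open CategoryTheory AlgebraicGeometry Opposite OmegaSh TopologicalSpace

namespace Groth.Agent.H39.PullTrack

open Groth.Agent.S5947 (toΓ ofΓ toΓ_apply toΓ_ofΓ ofΓ_toΓ)

section Assemble

variable {X' X : Scheme.{u}} (h : X' ⟶ X) (F : X.Modules) {U : X.Opens} (hU : IsAffineOpen U)
  {U' : X'.Opens} (hU' : IsAffineOpen U') (e : U' ≤ h ⁻¹ᵁ U)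

lemma fromSpec_image_top_le : hU.fromSpec ''ᵁ ⊤ ≤ U := by
  rw [Scheme.Hom.image_top_eq_opensRange, hU.opensRange_fromSpec]

/-- The section `x` of `F` over `U`, as a global section of `F |_ Spec Γ(X, U)`. -/
noncomputable def resTop (x : Γ(F, U)) : Γ(F.restrict hU.fromSpec, ⊤) :=
  (F.restrictAppIso hU.fromSpec ⊤).inv
    (F.presheaf.map (homOfLE (fromSpec_image_top_le hU)).op x)

lemma pullbackRestrictIso_hom_eq [F.IsQuasicoherent] :
    haveI : (F.restrict hU.fromSpec).IsQuasicoherent :=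
      Scheme.Modules.isQuasicoherent_restrictFunctor hU.fromSpec F
    haveI : IsIso (F.restrict hU.fromSpec).fromTildeΓ :=
      Scheme.Modules.isIso_fromTildeΓ_of_isQuasicoherent (F.restrict hU.fromSpec)
    (Groth.Agent.H8.pullbackRestrictIso h F hU hU' e).hom =
      (Scheme.Modules.restrictFunctorIsoPullback hU'.fromSpec).hom.app _ ≫
      (Scheme.Modules.pullbackComp hU'.fromSpec h).hom.app F ≫
      (Scheme.Modules.pullbackCongr (hU.SpecMap_appLE_fromSpec h hU' e).symm).hom.app F ≫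
      (Scheme.Modules.pullbackComp (Spec.map (h.appLE U U' e)) hU.fromSpec).inv.app F ≫
      (Scheme.Modules.pullback (Spec.map (h.appLE U U' e))).map
        ((Scheme.Modules.restrictFunctorIsoPullback hU.fromSpec).inv.app F) ≫
      (Scheme.Modules.pullback (Spec.map (h.appLE U U' e))).map
        (inv (F.restrict hU.fromSpec).fromTildeΓ) ≫
      (Groth.Agent.H39.OmegaC.pullbackTildeIso (h.appLE U U' e)).hom.app _ := rfl

set_option maxHeartbeats 1000000 in
/-- Tracking a pulled-back section through helper8's `pullbackRestrictIso`. -/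
theorem pullbackRestrictIso_hom_track [F.IsQuasicoherent] (x : Γ(F, U))
    (hle0 : hU'.fromSpec ''ᵁ ⊤ ≤ h ⁻¹ᵁ U) :
    (Groth.Agent.H8.pullbackRestrictIso h F hU hU' e).hom.app ⊤
      ((((Scheme.Modules.pullback h).obj F).restrictAppIso hU'.fromSpec ⊤).inv
        (pullSectLE h F U (hU'.fromSpec ''ᵁ ⊤) hle0 x)) =
    toΓ ((ModuleCat.extendScalars (h.appLE U U' e).hom).obj
        ((moduleSpecΓFunctor (R := Γ(X, U))).obj (F.restrict hU.fromSpec)))
      ((ModuleCat.extendRestrictScalarsAdj (h.appLE U U' e).hom).unit.app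
        ((moduleSpecΓFunctor (R := Γ(X, U))).obj (F.restrict hU.fromSpec)) (resTop F hU x)) := by
  haveI : (F.restrict hU.fromSpec).IsQuasicoherent :=
    Scheme.Modules.isQuasicoherent_restrictFunctor hU.fromSpec F
  haveI : IsIso (F.restrict hU.fromSpec).fromTildeΓ :=
    Scheme.Modules.isIso_fromTildeΓ_of_isQuasicoherent (F.restrict hU.fromSpec)
  rw [pullbackRestrictIso_hom_eq]
  set φ := h.appLE U U' e with hφ
  set j := hU.fromSpec with hj
  set j' := hU'.fromSpec with hj'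
  have hsq : Spec.map φ ≫ j = j' ≫ h := hU.SpecMap_appLE_fromSpec h hU' e
  set y₀ := pullSectLE h F U (j' ''ᵁ ⊤) hle0 x with hy₀
  -- stage 1
  have ht1 : (⊤ : (Spec Γ(X', U')).Opens) ≤ j' ⁻¹ᵁ (j' ''ᵁ ⊤) := by
    rw [j'.preimage_image_eq]
  have s1 := restrictIsoPullback_hom_pullSectLE j' ((Scheme.Modules.pullback h).obj F)
    (j' ''ᵁ ⊤) ⊤ ht1 y₀
  rw [res_self] at s1
  -- stage 2
  have s2 := pullbackComp_hom_pullSectLE j' h F U (j' ''ᵁ ⊤) ⊤ hle0 ht1 x
  -- stage 3
  have s3 := pullbackCongr_hom_pullSectLE hsq.symm F U ⊤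
    (ht1.trans (fun _ hy => hle0 hy)) x
  -- stage 4
  have ht4 : (⊤ : (Spec Γ(X, U)).Opens) ≤ j ⁻¹ᵁ U := by
    intro p _
    exact fromSpec_image_top_le hU ⟨p, trivial, rfl⟩
  have ht4' : (⊤ : (Spec Γ(X', U')).Opens) ≤ Spec.map φ ⁻¹ᵁ ⊤ := fun _ _ => trivial
  have s4 := pullbackComp_inv_pullSectLE (Spec.map φ) j F U ⊤ ⊤ ht4 ht4' x
  -- stage 5
  have s5 := map_pullSectLE (Spec.map φ)
    ((Scheme.Modules.restrictFunctorIsoPullback j).inv.app F) ⊤ ⊤ ht4' (pullSectLE j F U ⊤ ht4 x)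
  have s5' := restrictIsoPullback_inv_pullSectLE j F U ⊤ ht4 x
  -- stage 6
  have s6 := map_pullSectLE (Spec.map φ) (inv (F.restrict j).fromTildeΓ) ⊤ ⊤ ht4' (resTop F hU x)
  have s6' : (inv (F.restrict j).fromTildeΓ).app ⊤ (resTop F hU x) =
      toΓ ((moduleSpecΓFunctor (R := Γ(X, U))).obj (F.restrict j)) (resTop F hU x) := by
    have h1 := fromTildeΓ_app_top (F.restrict j) (resTop F hU x)
    have h2 : (F.restrict j).fromTildeΓ ≫ inv (F.restrict j).fromTildeΓ = 𝟙 _ :=
      IsIso.hom_inv_id _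
    have h3 := congrArg (fun t => (Scheme.Modules.Hom.app t ⊤)
      (toΓ ((moduleSpecΓFunctor (R := Γ(X, U))).obj (F.restrict j)) (resTop F hU x))) h2
    exact (congrArg (fun z => (inv (F.restrict j).fromTildeΓ).app ⊤ z) h1).symm.trans h3
  -- stage 7
  have s7 := pullbackTildeIso_hom_pullSectLE φ
    ((moduleSpecΓFunctor (R := Γ(X, U))).obj (F.restrict j)) (resTop F hU x) ht4'
  have t2 := (congrArg (fun z => ((Scheme.Modules.pullbackComp j' h).hom.app F).app ⊤ z) s1).trans s2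
  have t3 := (congrArg (fun z =>
    ((Scheme.Modules.pullbackCongr hsq.symm).hom.app F).app ⊤ z) t2).trans s3
  have t4 := (congrArg (fun z =>
    ((Scheme.Modules.pullbackComp (Spec.map φ) j).inv.app F).app ⊤ z) t3).trans s4
  have t5 := (congrArg (fun z => ((Scheme.Modules.pullback (Spec.map φ)).map
    ((Scheme.Modules.restrictFunctorIsoPullback j).inv.app F)).app ⊤ z) t4).trans s5
  have t5' := t5.trans (congrArg (fun z =>
    pullSectLE (Spec.map φ) ((Scheme.Modules.restrictFunctor j).obj F) ⊤ ⊤ ht4' z) s5')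
  have t6 := (congrArg (fun z => ((Scheme.Modules.pullback (Spec.map φ)).map
    (inv (F.restrict j).fromTildeΓ)).app ⊤ z) t5').trans s6
  have t6' := t6.trans (congrArg (fun z =>
    pullSectLE (Spec.map φ) (tilde ((modulesSpecToSheaf.obj (F.restrict j)).presheaf.obj (op ⊤)))
      ⊤ ⊤ ht4' z) s6')
  have t7 := (congrArg (fun z => ((OmegaC.pullbackTildeIso φ).hom.app
    ((moduleSpecΓFunctor (R := Γ(X, U))).obj (F.restrict j))).app ⊤ z) t6').trans s7
  exact t7

end Assemble

end Groth.Agent.H39.PullTrack
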