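import Groth.Agent.H39.DerCoker
import Groth.Agent.H39.DerUniv
import Groth.Agent.H39.DerAff
import Groth.Agent.H8.RelFPBaseChange
import Groth.Prelude.Def_Frob

/-!
# Derivations relative to a base of characteristic `p` kill the functions of the Frobenius twist

For `f : X ⟶ S` with `S` of characteristic `p`, every `S`-derivation of `O_X` vanishes on the
sections pulled back along the relative Frobenius `X ⟶ X^(p)`; hence a universal `S`-derivation is
also a universal `X^(p)`-derivation.
-/

set_option autoImplicit false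
set_option linter.style.haveILetI false
universe u
open CategoryTheory CategoryTheory.Limits AlgebraicGeometry Opposite OmegaSh TopologicalSpace FrobSch

namespace Groth.Agent.H39.RelFrobDer

open Groth.Agent.H39

/-- In a pushout square of commutative rings, a subring containing both images is everything. -/
theorem mem_of_isPushout {A B C P : CommRingCat.{u}} {f : A ⟶ B} {g : A ⟶ C} {inl : B ⟶ P}
    {inr : C ⟶ P} (h : IsPushout f g inl inr) (K : Subring P) (hl : ∀ b, inl b ∈ K)
    (hr : ∀ c, inr c ∈ K) (a : P) : a ∈ K := by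
  let inl' : B ⟶ CommRingCat.of K := CommRingCat.ofHom (inl.hom.codRestrict K hl)
  let inr' : C ⟶ CommRingCat.of K := CommRingCat.ofHom (inr.hom.codRestrict K hr)
  have w' : f ≫ inl' = g ≫ inr' := by
    ext x
    exact congr($(h.w) x)
  let φ := h.desc inl' inr' w'
  have h1 : φ ≫ CommRingCat.ofHom K.subtype = 𝟙 P := by
    apply h.hom_ext
    · rw [← Category.assoc, h.inl_desc, Category.comp_id]; ext x; rfl
    · rw [← Category.assoc, h.inr_desc, Category.comp_id]; ext x; rfl
  have h2 : ((φ ≫ CommRingCat.ofHom K.subtype) a) = a := by rw [h1]; rfl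
  rw [← h2]
  exact (φ a).2

variable {X S : Scheme.{u}}

lemma der_app_pow {f : X ⟶ S} {M : X.Modules} (D : Der f M) (U : X.Opens) (x : Γ(X, U)) (n : ℕ) :
    D.app U (x ^ (n + 1)) = ((n + 1 : ℕ) : Γ(X, U)) • (x ^ n • D.app U x) := by
  induction n with
  | zero => simp
  | succ n ih =>
    rw [pow_succ, DerAff.der_app_mul, ih, smul_smul, smul_smul, smul_smul, ← add_smul]
    congr 1
    push_cast
    ring

lemma der_appLE {f : X ⟶ S} {M : X.Modules} (D : Der f M) (W : S.Opens) (U : X.Opens)
    (e : U ≤ f ⁻¹ᵁ W) (c : Γ(S, W)) : D.app U (f.appLE W U e c) = 0 := by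
  show D.app U (X.presheaf.map (homOfLE e).op (f.app W c)) = 0
  rw [DerAff.der_app_map, DerAff.der_app_app, map_zero]

lemma appLE_congr_hom {Y : Scheme.{u}} {f g : X ⟶ Y} (h : f = g) (U : Y.Opens) (V : X.Opens)
    (e : V ≤ f ⁻¹ᵁ U) : f.appLE U V e = g.appLE U V (h ▸ e) := by
  subst h; rfl

variable (p : ℕ) [Fact p.Prime]

lemma der_app_pow_char [IsCharP X p] {f : X ⟶ S} {M : X.Modules} (D : Der f M) (U : X.Opens)
    (x : Γ(X, U)) : D.app U (x ^ p) = 0 := by
  obtain ⟨n, hn⟩ := Nat.exists_eq_succ_of_ne_zero (Fact.out : p.Prime).ne_zero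
  have h0 : ((n + 1 : ℕ) : Γ(X, U)) = 0 := by
    rw [← Nat.succ_eq_add_one, ← hn]; exact natCast_eq_zero_app X p U
  rw [hn, Nat.succ_eq_add_one, der_app_pow, h0, zero_smul]

lemma frob_appLE [IsCharP X p] (U V : X.Opens) (e : V ≤ frob X p ⁻¹ᵁ U) (s : Γ(X, U)) :
    (frob X p).appLE U V e s = (X.presheaf.map (homOfLE (show V ≤ U from e)).op s) ^ p := by
  show X.presheaf.map (homOfLE (show V ≤ U from e)).op (s ^ p) = _
  exact map_pow _ _ _

variable [IsCharP S p] (f : X ⟶ S)

lemma relFrob_preimage_le {V : X.Opens} {S₀ : S.Opens} (e : V ≤ f ⁻¹ᵁ S₀) :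
    V ≤ relFrob f p ⁻¹ᵁ
      (pullback.fst f (frob S p) ⁻¹ᵁ V ⊓ pullback.snd f (frob S p) ⁻¹ᵁ S₀) := by
  haveI : IsCharP X p := IsCharP.of_hom f p
  intro x hx
  refine ⟨?_, ?_⟩
  · show (pullback.fst f (frob S p)) (relFrob f p x) ∈ V
    rw [← Scheme.Hom.comp_apply, relFrob_fst]; exact hx
  · show (pullback.snd f (frob S p)) (relFrob f p x) ∈ S₀
    rw [← Scheme.Hom.comp_apply, relFrob_snd]; exact e hx

lemma relFrob_preimage_le' (V : X.Opens) (S₀ : S.Opens) :
    relFrob f p ⁻¹ᵁ
      (pullback.fst f (frob S p) ⁻¹ᵁ V ⊓ pullback.snd f (frob S p) ⁻¹ᵁ S₀) ≤ V := by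
  haveI : IsCharP X p := IsCharP.of_hom f p
  intro x hx
  have h1 : (pullback.fst f (frob S p)) (relFrob f p x) ∈ V := hx.1
  rw [← Scheme.Hom.comp_apply, relFrob_fst] at h1
  exact h1

variable {M : X.Modules}

/-- An `S`-derivation kills the pullbacks along the relative Frobenius of the functions on a
product affine open of the Frobenius twist. -/
theorem vanish_affine (D : Der f M) {S₀ : S.Opens} (hS₀ : IsAffineOpen S₀) {V : X.Opens}
    (hV : IsAffineOpen V) (e : V ≤ f ⁻¹ᵁ S₀)
    (a : Γ(frobTwist f p,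
      pullback.fst f (frob S p) ⁻¹ᵁ V ⊓ pullback.snd f (frob S p) ⁻¹ᵁ S₀)) :
    D.app V ((relFrob f p).appLE _ V (relFrob_preimage_le p f e) a) = 0 := by
  haveI : IsCharP X p := IsCharP.of_hom f p
  have hsq : IsPullback (pullback.fst f (frob S p)) (pullback.snd f (frob S p)) f (frob S p) :=
    IsPullback.of_hasPullback f (frob S p)
  have eS : S₀ ≤ frob S p ⁻¹ᵁ S₀ := le_rfl
  have hpush : IsPushout (f.appLE S₀ V e) ((frob S p).appLE S₀ S₀ eS)
      ((pullback.fst f (frob S p)).appLE V
        (pullback.fst f (frob S p) ⁻¹ᵁ V ⊓ pullback.snd f (frob S p) ⁻¹ᵁ S₀) inf_le_left)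
      ((pullback.snd f (frob S p)).appLE S₀
        (pullback.fst f (frob S p) ⁻¹ᵁ V ⊓ pullback.snd f (frob S p) ⁻¹ᵁ S₀) inf_le_right) := by
    have := isIso_pushoutSection_of_isAffineOpen hsq eS e rfl hS₀ hS₀ hV
    exact (isIso_pushoutSection_iff hsq eS e rfl).mp this
  let φ := ((relFrob f p).appLE
    (pullback.fst f (frob S p) ⁻¹ᵁ V ⊓ pullback.snd f (frob S p) ⁻¹ᵁ S₀) V
    (relFrob_preimage_le p f e)).hom
  have h1 : D.app V 1 = 0 := by
    have := DerAff.der_app_mul M D V 1 1
    rw [mul_one, one_smul] at this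
    exact left_eq_add.mp this
  let K : Subring Γ(frobTwist f p,
      pullback.fst f (frob S p) ⁻¹ᵁ V ⊓ pullback.snd f (frob S p) ⁻¹ᵁ S₀) :=
    { carrier := {a | D.app V (φ a) = 0}
      mul_mem' := by
        intro a b ha hb
        show D.app V (φ (a * b)) = 0
        rw [map_mul, DerAff.der_app_mul, ha, hb, smul_zero, smul_zero, add_zero]
      one_mem' := by
        show D.app V (φ 1) = 0
        rw [map_one, h1]
      add_mem' := by
        intro a b ha hb
        show D.app V (φ (a + b)) = 0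
        rw [map_add, map_add, ha, hb, add_zero]
      zero_mem' := by
        show D.app V (φ 0) = 0
        rw [map_zero, map_zero]
      neg_mem' := by
        intro a ha
        show D.app V (φ (-a)) = 0
        rw [map_neg, map_neg, ha, neg_zero] }
  refine mem_of_isPushout hpush K (fun b => ?_) (fun c => ?_) a
  · show D.app V (((pullback.fst f (frob S p)).appLE V _ inf_le_left ≫
      (relFrob f p).appLE _ V (relFrob_preimage_le p f e)) b) = 0
    rw [Scheme.Hom.appLE_comp_appLE, appLE_congr_hom (relFrob_fst f p), frob_appLE,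
      der_app_pow_char]
  · show D.app V (((pullback.snd f (frob S p)).appLE S₀ _ inf_le_right ≫
      (relFrob f p).appLE _ V (relFrob_preimage_le p f e)) c) = 0
    rw [Scheme.Hom.appLE_comp_appLE, appLE_congr_hom (relFrob_snd f p), der_appLE]

/-- An `S`-derivation kills the pullbacks along the relative Frobenius of all functions on the
Frobenius twist. -/
theorem vanish (D : Der f M) (W : (frobTwist f p).Opens) (t : Γ(frobTwist f p, W)) :
    D.app (relFrob f p ⁻¹ᵁ W) ((relFrob f p).app W t) = 0 := by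
  haveI : IsCharP X p := IsCharP.of_hom f p
  have hsq : IsPullback (pullback.fst f (frob S p)) (pullback.snd f (frob S p)) f (frob S p) :=
    IsPullback.of_hasPullback f (frob S p)
  have key : ∀ x : (relFrob f p ⁻¹ᵁ W : X.Opens), ∃ (U' : X.Opens) (hle : U' ≤ relFrob f p ⁻¹ᵁ W),
      x.1 ∈ U' ∧
      M.presheaf.map (homOfLE hle).op (D.app _ ((relFrob f p).app W t)) = 0 := by
    rintro ⟨x, hx⟩
    obtain ⟨S₀, hS₀, hxS₀, -⟩ := (Opens.isBasis_iff_nbhd.mp S.isBasis_affineOpens)
      (Opens.mem_top (f x))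
    obtain ⟨V, hV, hxV, e⟩ := (Opens.isBasis_iff_nbhd.mp X.isBasis_affineOpens)
      (show x ∈ f ⁻¹ᵁ S₀ from hxS₀)
    have hY₀ : IsAffineOpen
        (pullback.fst f (frob S p) ⁻¹ᵁ V ⊓ pullback.snd f (frob S p) ⁻¹ᵁ S₀) :=
      Groth.Agent.H8.isAffineOpen_prodOpen hsq hS₀ hS₀ (le_refl S₀) hV e
    have hFx : relFrob f p x ∈
        pullback.fst f (frob S p) ⁻¹ᵁ V ⊓ pullback.snd f (frob S p) ⁻¹ᵁ S₀ :=
      relFrob_preimage_le p f e hxV
    obtain ⟨h, hhW, hxh⟩ := hY₀.exists_basicOpen_le (V := W) ⟨relFrob f p x, hx⟩ hFx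
    have hU'V : relFrob f p ⁻¹ᵁ ((frobTwist f p).basicOpen h) ≤ V :=
      ((relFrob f p).preimage_mono ((frobTwist f p).basicOpen_le h)).trans
        (relFrob_preimage_le' p f V S₀)
    refine ⟨relFrob f p ⁻¹ᵁ ((frobTwist f p).basicOpen h), (relFrob f p).preimage_mono hhW,
      hxh, ?_⟩
    haveI := hY₀.isLocalization_basicOpen h
    let ψ := ((relFrob f p).app ((frobTwist f p).basicOpen h)).hom
    let d₁ : Γ(frobTwist f p, (frobTwist f p).basicOpen h) →+
        Γ(M, relFrob f p ⁻¹ᵁ ((frobTwist f p).basicOpen h)) :=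
      (D.app (relFrob f p ⁻¹ᵁ ((frobTwist f p).basicOpen h))).comp ψ.toAddMonoidHom
    have hd₁ : d₁ = 0 := by
      refine DerLoc.leibniz_ext' (Submonoid.powers h) ψ d₁ 0 (fun a b => ?_) (fun a b => ?_)
        (fun s => ?_)
      · show D.app _ (ψ (a * b)) = ψ a • D.app _ (ψ b) + ψ b • D.app _ (ψ a)
        rw [map_mul, DerAff.der_app_mul]
      · simp
      · show D.app _ ((relFrob f p).app ((frobTwist f p).basicOpen h)
          ((frobTwist f p).presheaf.map (homOfLE ((frobTwist f p).basicOpen_le h)).op s)) = 0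
        have e1 : (relFrob f p).app ((frobTwist f p).basicOpen h)
            ((frobTwist f p).presheaf.map (homOfLE ((frobTwist f p).basicOpen_le h)).op s) =
            X.presheaf.map (homOfLE hU'V).op
              ((relFrob f p).appLE _ V (relFrob_preimage_le p f e) s) := by
          have h1 := congr($(Scheme.Hom.map_appLE (relFrob f p)
            (le_refl (relFrob f p ⁻¹ᵁ ((frobTwist f p).basicOpen h)))
            (homOfLE ((frobTwist f p).basicOpen_le h)).op) s)
          have h2 := congr($(Scheme.Hom.appLE_map (relFrob f p) (relFrob_preimage_le p f e)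
            (homOfLE hU'V).op) s)
          rw [Scheme.Hom.app_eq_appLE]
          exact h1.trans h2.symm
        rw [e1, DerAff.der_app_map, vanish_affine p f D hS₀ hV e s, map_zero]
    rw [← DerAff.der_app_map]
    have e2 : X.presheaf.map (homOfLE ((relFrob f p).preimage_mono hhW)).op
        ((relFrob f p).app W t) =
        ψ ((frobTwist f p).presheaf.map (homOfLE hhW).op t) := by
      have h1 := congr($(Scheme.Hom.map_appLE (relFrob f p)
        (le_refl (relFrob f p ⁻¹ᵁ ((frobTwist f p).basicOpen h)))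
        (homOfLE hhW).op) t)
      show (relFrob f p).appLE W _ _ t = (relFrob f p).app _ _
      rw [Scheme.Hom.app_eq_appLE]
      exact h1.symm
    rw [e2]
    exact congr($hd₁ ((frobTwist f p).presheaf.map (homOfLE hhW).op t))
  choose U' hle hmem hzero using key
  refine DerAff.sect_ext_of_cover M U' (relFrob f p ⁻¹ᵁ W) hle ?_ _ 0 (fun i => ?_)
  · intro x hx
    exact Opens.mem_iSup.mpr ⟨⟨x, hx⟩, hmem ⟨x, hx⟩⟩
  · rw [hzero i, map_zero]

variable {p f} in
/-- A universal `S`-derivation is also a universal derivation relative to the relative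
Frobenius. -/
theorem exists_universal {Ω : X.Modules} {d : Der f Ω} (hd : IsUniversal d) :
    ∃ d' : Der (relFrob f p) Ω,
      (∀ (U : X.Opens) (s : Γ(X, U)), d'.app U s = d.app U s) ∧ IsUniversal d' := by
  have hf : relFrob f p ≫ pullback.snd f (frob S p) = f := relFrob_snd f p
  let d₀ : Der (relFrob f p ≫ pullback.snd f (frob S p)) Ω := DerUniv.derCast hf.symm d
  have hv : ∀ (W : (frobTwist f p).Opens) (a : Γ(frobTwist f p, W)),
      d₀.app (relFrob f p ⁻¹ᵁ W) ((relFrob f p).app W a) = 0 := by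
    intro W a
    rw [DerUniv.derCast_app]
    exact vanish p f d W a
  refine ⟨DerCoker.derOfVanish (relFrob f p) (pullback.snd f (frob S p)) d₀ hv, fun U s => ?_, ?_⟩
  · rw [DerCoker.derOfVanish_app, DerUniv.derCast_app]
  · intro F D
    let D₀ : Der f F :=
      DerUniv.derCast hf (DerRes.derComp (relFrob f p) (pullback.snd f (frob S p)) D)
    obtain ⟨α, hα⟩ := DerKit.exists_of_universal hd D₀
    refine ⟨α, ?_, ?_⟩
    · apply DerKit.der_ext
      intro U s
      rw [DerKit.postcomp_app, DerCoker.derOfVanish_app, DerUniv.derCast_app, hα,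
        DerUniv.derCast_app, DerRes.derComp_app]
    · intro β hβ
      apply DerKit.hom_ext_of_universal hd
      intro U s
      rw [hα, DerUniv.derCast_app, DerRes.derComp_app, ← hβ, DerKit.postcomp_app,
        DerCoker.derOfVanish_app, DerUniv.derCast_app]

end Groth.Agent.H39.RelFrobDer
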