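import Mathlib.Topology.Sheaves.Sheaf
import Mathlib.Topology.Sheaves.SheafCondition.UniqueGluing
import Mathlib.Algebra.Category.Grp.Basic
import Mathlib.Algebra.Category.Grp.Limits

set_option autoImplicit false
universe u

namespace Groth.Agent.H39

open CategoryTheory TopologicalSpace Opposite TopCat

variable {X : TopCat.{u}}

/-- restriction of sections of a presheaf of groups -/
noncomputable abbrev res (P : TopCat.Presheaf GrpCat.{u} X) {U V : Opens X} (h : V ≤ U) :
    P.obj (op U) →* P.obj (op V) := (P.map (homOfLE h).op).hom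

theorem res_res (P : TopCat.Presheaf GrpCat.{u} X) {U V W : Opens X} (h₁ : V ≤ U) (h₂ : W ≤ V)
    (s : P.obj (op U)) : res P h₂ (res P h₁ s) = res P (h₂.trans h₁) s := by
  change ((P.map (homOfLE h₁).op ≫ P.map (homOfLE h₂).op).hom s) = _
  rw [← P.map_comp]
  rfl

theorem res_self (P : TopCat.Presheaf GrpCat.{u} X) {U : Opens X} (h : U ≤ U)
    (s : P.obj (op U)) : res P h s = s := by
  have : (homOfLE h).op = 𝟙 (op U) := Subsingleton.elim _ _
  change (P.map (homOfLE h).op).hom s = s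
  rw [this, P.map_id]
  rfl

theorem nat_res {P Q : TopCat.Presheaf GrpCat.{u} X} (φ : P ⟶ Q) {U V : Opens X} (h : V ≤ U)
    (s : P.obj (op U)) :
    (φ.app (op V)).hom (res P h s) = res Q h ((φ.app (op U)).hom s) := by
  have := φ.naturality (homOfLE h).op
  exact congrArg (fun ψ => ψ.hom s) this

/-- gluing along an arbitrary family, in terms of `res` -/
theorem glue (P : TopCat.Presheaf GrpCat.{u} X) (hP : P.IsSheaf) {ι : Type*} (U : ι → Opens X)
    (V : Opens X) (hUV : ∀ i, U i ≤ V) (hcover : V ≤ iSup U)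
    (sf : ∀ i, P.obj (op (U i)))
    (hcompat : ∀ i j, res P (inf_le_left : U i ⊓ U j ≤ U i) (sf i) =
      res P (inf_le_right : U i ⊓ U j ≤ U j) (sf j)) :
    ∃ s : P.obj (op V), ∀ i, res P (hUV i) s = sf i := by
  obtain ⟨s, hs, -⟩ := TopCat.Sheaf.existsUnique_gluing' (⟨P, hP⟩ : TopCat.Sheaf GrpCat.{u} X) U V
    (fun i => homOfLE (hUV i)) hcover sf (fun i j => hcompat i j)
  exact ⟨s, hs⟩

/-- separatedness in terms of `res` -/
theorem sep (P : TopCat.Presheaf GrpCat.{u} X) (hP : P.IsSheaf) {ι : Type*} (U : ι → Opens X)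
    (V : Opens X) (hUV : ∀ i, U i ≤ V) (hcover : V ≤ iSup U)
    (s t : P.obj (op V)) (h : ∀ i, res P (hUV i) s = res P (hUV i) t) : s = t :=
  TopCat.Sheaf.eq_of_locally_eq' (⟨P, hP⟩ : TopCat.Sheaf GrpCat.{u} X) U V
    (fun i => homOfLE (hUV i)) hcover s t h

end Groth.Agent.H39
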