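import Groth.Agent.H39.OmegaC
import Groth.Agent.H8.FinType
import Mathlib.Algebra.Category.ModuleCat.Projective

/-!
# Sections of `tilde M` over an affine open of `Spec A`

For an affine open `U` of `Spec A`, `Γ(tilde M, U) ≃ₗ[Γ(Spec A, U)] Γ(Spec A, U) ⊗[A] M`.
-/

set_option autoImplicit false
set_option linter.style.haveILetI false
universe u
open CategoryTheory AlgebraicGeometry Opposite
open AlgebraicGeometry.Scheme.Modules

namespace Groth.Agent.H39.TildeAff

variable {A : CommRingCat.{u}} (M : ModuleCat.{u} A) {U : (Spec A).Opens} (hU : IsAffineOpen U)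

/-- The ring map `A ⟶ Γ(Spec A, U)` whose `Spec` is `hU.fromSpec`. -/
noncomputable def φ : A ⟶ Γ(Spec A, U) := Spec.preimage hU.fromSpec

lemma map_φ : Spec.map (φ hU) = hU.fromSpec := Spec.map_preimage _

/-- The restriction of `tilde M` to the affine open `U ≅ Spec Γ(Spec A, U)` is the tilde of the
base change of `M`. -/
noncomputable def restrictIso :
    (tilde M).restrict hU.fromSpec ≅ tilde ((ModuleCat.extendScalars (φ hU).hom).obj M) :=
  (restrictFunctorIsoPullback hU.fromSpec).app (tilde M) ≪≫
    (pullbackCongr (map_φ hU).symm).app (tilde M) ≪≫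
    (OmegaC.pullbackTildeIso (φ hU)).app M

/-- Sections of `tilde M` over an affine open are the base change of `M`. -/
noncomputable def sectionsEquiv :
    Γ(tilde M, U) ≃ₗ[Γ(Spec A, U)] ((ModuleCat.extendScalars (φ hU).hom).obj M) :=
  (Groth.Agent.H8.sectionsRestrictEquiv hU (tilde M)).symm ≪≫ₗ
    ((moduleSpecΓFunctor.mapIso (restrictIso M hU)) ≪≫ (tilde.isoTop _).symm).toLinearEquiv

/-- Extension of scalars preserves projective modules. -/
lemma projective_extendScalars {R S : CommRingCat.{u}} (f : R ⟶ S) (N : ModuleCat.{u} R)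
    [Module.Projective R N] :
    Module.Projective S ((ModuleCat.extendScalars f.hom).obj N) := by
  have hN : Projective N := inferInstance
  haveI : (ModuleCat.restrictScalars.{u} f.hom).PreservesEpimorphisms :=
    Functor.preservesEpimorphisms_of_adjunction (ModuleCat.restrictCoextendScalarsAdj f.hom)
  haveI := (ModuleCat.extendRestrictScalarsAdj f.hom).map_projective N hN
  infer_instance

include hU in
lemma projective_sections [Module.Projective A M] :
    Module.Projective Γ(Spec A, U) Γ(tilde M, U) := by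
  haveI := projective_extendScalars (φ hU) M
  exact Module.Projective.of_equiv' (sectionsEquiv M hU).symm

/-- `Γ(tilde M, ⊤) ≃ M`, semilinear over `Γ(Spec A, ⊤) ≅ A`. -/
lemma projective_of_top
    (h : Module.Projective Γ(Spec A, ⊤) Γ(tilde M, ⊤)) : Module.Projective A M := by
  let e : Γ(tilde M, ⊤) ≃ₗ[A] M := (tilde.isoTop M).symm.toLinearEquiv
  let σ : Γ(Spec A, ⊤) →+* A := (Scheme.ΓSpecIso A).hom.hom
  let σ' : A →+* Γ(Spec A, ⊤) := (Scheme.ΓSpecIso A).inv.hom
  haveI : RingHomInvPair σ σ' := ⟨by
    ext x; exact congrArg (fun f => f.hom x) (Scheme.ΓSpecIso A).hom_inv_id, by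
    ext x; exact congrArg (fun f => f.hom x) (Scheme.ΓSpecIso A).inv_hom_id⟩
  haveI : RingHomInvPair σ' σ := ⟨by
    ext x; exact congrArg (fun f => f.hom x) (Scheme.ΓSpecIso A).inv_hom_id, by
    ext x; exact congrArg (fun f => f.hom x) (Scheme.ΓSpecIso A).hom_inv_id⟩
  have hsmul : ∀ (r : Γ(Spec A, ⊤)) (x : Γ(tilde M, ⊤)), r • x = (σ r) • x := by
    intro r x
    rw [Scheme.Modules.smul_Spec_def]
    have h1 : (Spec A).presheaf.map (⊤ : (Spec A).Opens).leTop.op = 𝟙 _ := by
      rw [← (Spec A).presheaf.map_id]; rfl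
    rw [h1]
    have h2 : (Scheme.ΓSpecIso A).inv (σ r) = r :=
      congrArg (fun f => f.hom r) (Scheme.ΓSpecIso A).hom_inv_id
    simp only [CommRingCat.id_apply] 
    rw [h2]
  let e₂ : Γ(tilde M, ⊤) ≃ₛₗ[σ] M :=
    { toFun := e
      invFun := e.symm
      left_inv := e.left_inv
      right_inv := e.right_inv
      map_add' := e.map_add
      map_smul' := fun r x => by
        rw [hsmul]
        exact e.map_smul (σ r) x }
  exact Module.Projective.of_equiv e₂

end Groth.Agent.H39.TildeAff
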